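import Cfsg.Agent.H341.ThreeList_m3
import Cfsg.Agent.OrdDiv.Table
import Cfsg.Agent.H816.TwoOrd
import Cfsg.Agent.H14.KnownSimple
import Cfsg.Agent.S0252
import Cfsg.Agent.S0253
import Cfsg.Agent.S0254
import Cfsg.Agent.S0255
import Cfsg.Agent.S0256
import Cfsg.Agent.S0822
import Cfsg.Agent.S2550
import Cfsg.Agent.BabyU.CentT1
import Cfsg.Agent.H902.Iso
import Cfsg.Agent.S0991
import Cfsg.Agent.S0806
import Cfsg.Agent.S0387
import Cfsg.Agent.Schreier.MTwelve
import Cfsg.Agent.TwoFusion.SLTwoFacts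
import Cfsg.Agent.H771.KTools_m3
import Cfsg.Agent.S0279
import Cfsg.Agent.S0283
import Cfsg.Agent.S2641
import Cfsg.Agent.H860.TS.Base
import Cfsg.Agent.LieClassical.FieldTransfer
import Cfsg.Agent.J2.HundredAbs
import Cfsg.Agent.UGT.U2.Rec.Congr
import Cfsg.Agent.Nodes.Sub
import Cfsg.Agent.KFacts.TwESix.Comb
import Cfsg.Prelude.Def_LieTypeChar
import Cfsg.Agent.S1059
import Cfsg.Agent.S1062
import Cfsg.Agent.S1063
import Cfsg.Agent.S1064
import Cfsg.Agent.S1065
import Cfsg.Agent.S1066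
import Cfsg.Agent.S1067
import Cfsg.Agent.S1068
import Cfsg.Agent.S1069
import Cfsg.Agent.S1163
import Cfsg.Agent.H958.TS.RgdSub
import Cfsg.Agent.H958.TS.TwCommon
import Cfsg.Agent.Lib.MatDec
import Cfsg.Agent.Lib.FinFast
import Mathlib
import Cfsg.Agent.BpExc.AsmN_m3
import Cfsg.Agent.BpExc.FamTwSix
import Cfsg.Agent.ChevalleyStructure.TwE6Basic
import Cfsg.Agent.H423.SzEight
import Cfsg.Agent.FastGrp
import Cfsg.Agent.Prune
set_option linter.all false

section
prune_inst 0x7ffdbcfdb9b86ddeffff7e7faedcdffdf9ba3fffa4dff9cbbfe021ef0b9f5b0009c56b8d8be050fe0e82c29410a87843fffffabfe86bdc7ffffd5ff41ffbee0fa5e73508511c8cb40f3c2ff783f07f8e7f3fffffffffdfffffffffffffffffbefffdffffffff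

-- part: H944/TS/Asm_mg
section
prune_inst 0x20440100000000000000100000000c0004200000000080200a040200c00000020000080011040200000500310000000000600000000000000000011801800800000020000000000000000000000000000000000000000000000000000000000000000
set_option linter.all false
open scoped Cfsg.Agent.FastGrp

-- part: H944/TS/Asm
section
/-!
# S5741: the assembly from the rows (helper944)
-/

set_option autoImplicit false

namespace Cfsg.Agent.H944.TS.Asm

open Cfsg Cfsg.Agent.OrdDiv Cfsg.Agent.H816.TwoOrd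

universe u

/-! ### orders -/

theorem card_psl {F : Type} [Field F] [Fintype F] {n : ℕ} (hn : 2 ≤ n) (hn2 : n = 2 → 4 ≤ Fintype.card F) :
    Nat.card (Matrix.ProjectiveSpecialLinearGroup (Fin n) F) = ordN (.psl n (Fintype.card F)) := by
  obtain ⟨l, hl⟩ := exists_valid (N := Nat.card (Matrix.ProjectiveSpecialLinearGroup (Fin n) F)) Nat.card_pos.ne'
  exact (psl_mem hl hn hn2 dvd_rfl).2

theorem card_psp {F : Type} [Field F] [Fintype F] {m : ℕ} (hm : 2 ≤ m) (hm2 : m = 2 → 3 ≤ Fintype.card F) :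
    Nat.card (PSp m F) = ordN (.psp m (Fintype.card F)) := by
  obtain ⟨l, hl⟩ := exists_valid (N := Nat.card (PSp m F)) Nat.card_pos.ne'
  exact (psp_mem hl hm hm2 dvd_rfl).2

theorem card_psu {F : Type} [Field F] [Fintype F] {n q : ℕ} (hF : Fintype.card F = q ^ 2) (hn : 3 ≤ n)
    (hn2 : ¬ (n = 3 ∧ q = 2)) : Nat.card (PSU n F q) = ordN (.psu n q) := by
  obtain ⟨l, hl⟩ := exists_valid (N := Nat.card (PSU n F q)) Nat.card_pos.ne'
  exact (psu_mem hl hF hn hn2 dvd_rfl).2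

theorem card_oodd {F : Type} [Field F] [Fintype F] {m : ℕ} (hm : 3 ≤ m) (ho : Odd (Fintype.card F)) :
    Nat.card (POmega F (quadFormOdd m F)) = ordN (.oodd m (Fintype.card F)) := by
  obtain ⟨l, hl⟩ := exists_valid (N := Nat.card (POmega F (quadFormOdd m F))) Nat.card_pos.ne'
  exact (oodd_mem hl hm ho dvd_rfl).2

theorem card_oplus {F : Type} [Field F] [Fintype F] {m : ℕ} (hm : 4 ≤ m) :
    Nat.card (POmega F (quadFormPlus m F)) = ordN (.oplus m (Fintype.card F)) := by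
  obtain ⟨l, hl⟩ := exists_valid (N := Nat.card (POmega F (quadFormPlus m F))) Nat.card_pos.ne'
  exact (oplus_mem hl hm dvd_rfl).2

theorem card_ominus {F : Type} [Field F] [Fintype F] {m : ℕ} (hm : 4 ≤ m) {a b : F}
    (hab : ∀ z₁ z₂ : F, z₁ ^ 2 + a * z₁ * z₂ + b * z₂ ^ 2 = 0 → z₁ = 0 ∧ z₂ = 0) :
    Nat.card (POmega F (quadFormMinus (m - 1) F a b)) = ordN (.ominus m (Fintype.card F)) := by
  obtain ⟨l, hl⟩ := exists_valid (N := Nat.card (POmega F (quadFormMinus (m - 1) F a b))) Nat.card_pos.ne'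
  exact (ominus_mem hl hm hab dvd_rfl).2

variable {S : Type u} [Group S]

theorem alt_row {n : ℕ} (hn : 5 ≤ n) (h : Real (.alt n) S) : IsSimpleGroup S ∧ Nat.card S = ordN (.alt n) := by
  obtain ⟨e⟩ := h
  refine ⟨H14.KnownSimple.alt ⟨n, hn, ⟨e⟩⟩, ?_⟩
  have h1 := alt_card hn e
  show Nat.card S = n.factorial / 2
  omega

theorem psl_row {n q : ℕ} (hn : 2 ≤ n) (hn2 : n = 2 → 4 ≤ q) (h : Real (.psl n q) S) :
    IsSimpleGroup S ∧ Nat.card S = ordN (.psl n q) := by
  obtain ⟨F, i1, i2, rfl, ⟨e⟩⟩ := h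
  exact ⟨H14.KnownSimple.psl ⟨F, i1, i2, n, hn, hn2, ⟨e⟩⟩, by rw [Nat.card_congr e.toEquiv, card_psl hn hn2]⟩

theorem psp_row {m q : ℕ} (hm : 2 ≤ m) (hm2 : m = 2 → 3 ≤ q) (h : Real (.psp m q) S) :
    IsSimpleGroup S ∧ Nat.card S = ordN (.psp m q) := by
  obtain ⟨F, i1, i2, rfl, ⟨e⟩⟩ := h
  exact ⟨H14.KnownSimple.psp ⟨F, i1, i2, m, hm, hm2, ⟨e⟩⟩, by rw [Nat.card_congr e.toEquiv, card_psp hm hm2]⟩

theorem psu_row {n q : ℕ} (hn : 3 ≤ n) (hn2 : ¬ (n = 3 ∧ q = 2)) (h : Real (.psu n q) S) :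
    IsSimpleGroup S ∧ Nat.card S = ordN (.psu n q) := by
  obtain ⟨F, i1, i2, hF, ⟨e⟩⟩ := h
  exact ⟨H14.KnownSimple.psu ⟨F, i1, i2, n, q, hF, hn, hn2, ⟨e⟩⟩, by rw [Nat.card_congr e.toEquiv, card_psu hF hn hn2]⟩

theorem oodd_row {m q : ℕ} (hm : 3 ≤ m) (hq : Odd q) (h : Real (.oodd m q) S) :
    IsSimpleGroup S ∧ Nat.card S = ordN (.oodd m q) := by
  obtain ⟨F, i1, i2, rfl, ⟨e⟩⟩ := h
  exact ⟨H14.KnownSimple.omegaOdd ⟨F, i1, i2, m, hm, hq, ⟨e⟩⟩, by rw [Nat.card_congr e.toEquiv, card_oodd hm hq]⟩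

theorem oplus_row {m q : ℕ} (hm : 4 ≤ m) (h : Real (.oplus m q) S) :
    IsSimpleGroup S ∧ Nat.card S = ordN (.oplus m q) := by
  obtain ⟨F, i1, i2, rfl, ⟨e⟩⟩ := h
  exact ⟨H14.KnownSimple.omegaPlus ⟨F, i1, i2, m, hm, ⟨e⟩⟩, by rw [Nat.card_congr e.toEquiv, card_oplus hm]⟩

theorem ominus_row {m q : ℕ} (hm : 4 ≤ m) (h : Real (.ominus m q) S) :
    IsSimpleGroup S ∧ Nat.card S = ordN (.ominus m q) := by
  obtain ⟨F, i1, i2, a, b, rfl, hab, ⟨e⟩⟩ := h
  exact ⟨H14.KnownSimple.omegaMinus ⟨F, i1, i2, m, a, b, hm, hab, ⟨e⟩⟩,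
    by rw [Nat.card_congr e.toEquiv, card_ominus hm hab]⟩

theorem spor_row {g : Grp} (hg : g ∈ spor.map fun x => x.1) (h : Real g S) : Nat.card S = ordN g := by
  obtain ⟨x, hx, rfl⟩ := List.mem_map.1 hg
  rw [table_spor S x hx h, spor_ord x hx]

theorem g2_row {q : ℕ} (hq : 3 ≤ q) (h : Real (.g2 q) S) : IsSimpleGroup S ∧ Nat.card S = ordN (.g2 q) := by
  obtain ⟨F, i1, i2, rfl, ⟨e⟩⟩ := h
  refine ⟨H14.KnownSimple.exceptional (Or.inl ⟨F, i1, i2, hq, ⟨e⟩⟩), ?_⟩
  rw [Nat.card_congr e.toEquiv]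
  obtain ⟨l, hl⟩ := exists_valid (N := Nat.card ↥(Lie.chevG2.group F)) Nat.card_pos.ne'
  obtain ⟨-, h2⟩ : (0, Fintype.card F) ∈ cand l (Nat.card ↥(Lie.chevG2.group F)) fG2 ∧ _ :=
    one_mem hl (by norm_num) Fintype.isPrimePow_card_of_field (by rw [Nat.ble_eq]; exact hq)
      (by rw [table.{0}.g2 F]; ring) (Nat.coprime_one_left _) dvd_rfl
  exact h2

theorem f4_row {q : ℕ} (h : Real (.f4 q) S) : IsSimpleGroup S ∧ Nat.card S = ordN (.f4 q) := by
  obtain ⟨F, i1, i2, rfl, ⟨e⟩⟩ := h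
  refine ⟨H14.KnownSimple.exceptional (Or.inr (Or.inl ⟨F, i1, i2, ⟨e⟩⟩)), ?_⟩
  rw [Nat.card_congr e.toEquiv]
  obtain ⟨l, hl⟩ := exists_valid (N := Nat.card ↥(Lie.chevF4.group F)) Nat.card_pos.ne'
  obtain ⟨-, h2⟩ : (0, Fintype.card F) ∈ cand l (Nat.card ↥(Lie.chevF4.group F)) fF4 ∧ _ :=
    one_mem hl (by norm_num) Fintype.isPrimePow_card_of_field rfl
      (by rw [table.{0}.f4 F _ rfl]; ring) (Nat.coprime_one_left _) dvd_rfl
  exact h2

theorem td4_row {q : ℕ} (hq : IsPrimePow q) (h : Real (.td4 q) S) : IsSimpleGroup S ∧ Nat.card S = ordN (.td4 q) := by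
  obtain ⟨F, i1, i2, hF, ⟨e⟩⟩ := h
  refine ⟨H14.KnownSimple.exceptional (Or.inr (Or.inr (Or.inr (Or.inr (Or.inr (Or.inr (Or.inl
    ⟨F, i1, i2, q, hq, hF, ⟨e⟩⟩))))))), ?_⟩
  rw [Nat.card_congr e.toEquiv]
  obtain ⟨l, hl⟩ := exists_valid (N := Nat.card ↥(Lie.twistedD4 F q)) Nat.card_pos.ne'
  obtain ⟨-, h2⟩ : (0, q) ∈ cand l (Nat.card ↥(Lie.twistedD4 F q)) fTD4 ∧ _ :=
    one_mem hl (by norm_num) hq rfl (by rw [table.{0}.td4 F q hq hF]; ring) (Nat.coprime_one_left _) dvd_rfl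
  exact h2

/-- the 39 groups -/
def emb : List Grp :=
  [.alt 5, .alt 6, .alt 7, .alt 8, .alt 9, .alt 10, .alt 11, .alt 12,
   .psl 2 7, .psl 2 8, .psl 2 11, .psl 2 13, .psl 2 16, .psl 2 17, .psl 2 25, .psl 3 3, .psl 3 4, .psl 4 3,
   .psp 2 4, .psp 3 2, .psp 4 2, .psu 3 3, .psu 3 8, .psu 4 2, .psu 4 3, .psu 5 2, .psu 6 2,
   .oplus 4 2, .ominus 4 2, .ominus 5 2, .oodd 3 3, .g2 3, .td4 2, .f4 2, .tits, .m11, .m12, .m22, .fi22]

/-- the other simple groups whose order divides the order of `²E₆(2)` -/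
def nots : List Grp :=
  [.psl 2 19, .psl 2 27, .psl 2 49, .psl 2 64, .psl 3 9, .psl 3 16, .psl 4 4, .psp 2 8, .psp 3 3, .psu 3 4, .psu 4 8,
   .sz 8, .g2 4, .j1, .j2, .j3, .suz, .alt 13, .alt 14]

/-- the other names of embedded groups -/
def aliases : List Grp := [.psl 2 4, .psl 2 5, .psl 2 9, .psl 3 2, .psl 4 2, .psp 2 3]

theorem row {g : Grp} (hg : g ∈ emb) (h : Real g S) : IsSimpleGroup S ∧ Nat.card S = ordN g := by
  simp only [emb, List.mem_cons, List.not_mem_nil, or_false] at hg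
  rcases hg with rfl | rfl | rfl | rfl | rfl | rfl | rfl | rfl | rfl | rfl | rfl | rfl | rfl | rfl | rfl | rfl | rfl |
    rfl | rfl | rfl | rfl | rfl | rfl | rfl | rfl | rfl | rfl | rfl | rfl | rfl | rfl | rfl | rfl | rfl | rfl | rfl |
    rfl | rfl | rfl
  · exact alt_row (by norm_num) h
  · exact alt_row (by norm_num) h
  · exact alt_row (by norm_num) h
  · exact alt_row (by norm_num) h
  · exact alt_row (by norm_num) h
  · exact alt_row (by norm_num) h
  · exact alt_row (by norm_num) h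
  · exact alt_row (by norm_num) h
  · exact psl_row (by norm_num) (by norm_num) h
  · exact psl_row (by norm_num) (by norm_num) h
  · exact psl_row (by norm_num) (by norm_num) h
  · exact psl_row (by norm_num) (by norm_num) h
  · exact psl_row (by norm_num) (by norm_num) h
  · exact psl_row (by norm_num) (by norm_num) h
  · exact psl_row (by norm_num) (by norm_num) h
  · exact psl_row (by norm_num) (by norm_num) h
  · exact psl_row (by norm_num) (by norm_num) h
  · exact psl_row (by norm_num) (by norm_num) h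
  · exact psp_row (by norm_num) (by norm_num) h
  · exact psp_row (by norm_num) (by norm_num) h
  · exact psp_row (by norm_num) (by norm_num) h
  · exact psu_row (by norm_num) (by norm_num) h
  · exact psu_row (by norm_num) (by norm_num) h
  · exact psu_row (by norm_num) (by norm_num) h
  · exact psu_row (by norm_num) (by norm_num) h
  · exact psu_row (by norm_num) (by norm_num) h
  · exact psu_row (by norm_num) (by norm_num) h
  · exact oplus_row (by norm_num) h
  · exact ominus_row (by norm_num) h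
  · exact ominus_row (by norm_num) h
  · exact oodd_row (by norm_num) (by decide) h
  · exact g2_row (by norm_num) h
  · exact td4_row Nat.prime_two.isPrimePow h
  · exact f4_row h
  · exact ⟨H14.KnownSimple.isSimpleGroup (by
      refine Or.inr (Or.inr (Or.inr (Or.inr (Or.inr (Or.inr (Or.inr (Or.inr (Or.inl ?_))))))))
      exact Or.inr (Or.inr (Or.inr (Or.inr (Or.inr (Or.inr (Or.inr (Or.inr (Or.inr (Or.inr h)))))))))),
      spor_row (by decide) h⟩
  · exact ⟨H14.KnownSimple.sporadic (Or.inl h), spor_row (by decide) h⟩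
  · exact ⟨H14.KnownSimple.sporadic (Or.inr (Or.inl h)), spor_row (by decide) h⟩
  · exact ⟨H14.KnownSimple.sporadic (Or.inr (Or.inr (Or.inl h))), spor_row (by decide) h⟩
  · refine ⟨H14.KnownSimple.isSimpleGroup (by
      refine Or.inr (Or.inr (Or.inr (Or.inr (Or.inr (Or.inr (Or.inr (Or.inr (Or.inr ?_))))))))
      refine Or.inr (Or.inr (Or.inr (Or.inr (Or.inr (Or.inr (Or.inr (Or.inr (Or.inr (Or.inr (Or.inr (Or.inr (Or.inr
        (Or.inr (Or.inr (Or.inr (Or.inr (Or.inr (Or.inr ?_))))))))))))))))))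
      exact Or.inl h), spor_row (by decide) h⟩

/-! ### the statement -/

theorem prime_card [Finite S] [IsSimpleGroup S] (h : ∀ a b : S, a * b = b * a) :
    (Nat.card S).Prime := by
  let _ : CommGroup S := { (inferInstance : Group S) with mul_comm := h }
  exact IsSimpleGroup.prime_card

theorem ordN_lt : ∀ g ∈ emb, ordN g < 76532479683774853939200 := by decide +kernel

theorem ordN_four : ∀ g ∈ emb, 4 ∣ ordN g := by decide +kernel

private noncomputable def _root_.Cfsg.Agent.LsF.fdc16eb_0 : {f // @Nat.factorial = f} := ⟨_, by first | (delta Nat.factorial Nat.brecOn.go Nat.brecOn Nat.factorial._f; rewrite [Cfsg.Agent.LsF.nmul_pat]; (try delta Nat.factorial.match_1); (try delta Nat.casesOn); first | dsimp -zeta only | exact rfl) | exact rfl⟩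
private noncomputable def _root_.Cfsg.Agent.LsF.fdc16eb_1 : {f // @Cfsg.Agent.OrdDiv.glN = f} := ⟨_, by first | (delta Cfsg.Agent.OrdDiv.glN; rewrite [Cfsg.Agent.LsF.nsub_pat, Cfsg.Agent.LsF.npow_pat, Cfsg.Agent.LsF.map_eq, Cfsg.Agent.LsF.range_eq, Cfsg.Agent.LsF.prod_eq]; exact rfl) | exact rfl⟩
private noncomputable def _root_.Cfsg.Agent.LsF.fdc16eb_2 : {f // @Cfsg.Agent.OrdDiv.fPSL = f} := ⟨_, by first | (delta Cfsg.Agent.OrdDiv.fPSL; rewrite [Cfsg.Agent.LsF.fdc16eb_1.2, Cfsg.Agent.LsF.nmul_pat, Cfsg.Agent.LsF.nsub_pat, Cfsg.Agent.LsF.ndiv_pat, Cfsg.Agent.LsF.and_eq, Cfsg.Agent.LsF.not_eq]; exact rfl) | exact rfl⟩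
private noncomputable def _root_.Cfsg.Agent.LsF.fdc16eb_3 : {f // @Cfsg.Agent.OrdDiv.prB = f} := ⟨_, by first | (delta Cfsg.Agent.OrdDiv.prB; rewrite [Cfsg.Agent.LsF.nadd_pat, Cfsg.Agent.LsF.nmul_pat, Cfsg.Agent.LsF.nsub_pat, Cfsg.Agent.LsF.npow_pat, Cfsg.Agent.LsF.map_eq, Cfsg.Agent.LsF.range_eq, Cfsg.Agent.LsF.prod_eq]; exact rfl) | exact rfl⟩
private noncomputable def _root_.Cfsg.Agent.LsF.fdc16eb_4 : {f // @Cfsg.Agent.OrdDiv.fPSp = f} := ⟨_, by first | (delta Cfsg.Agent.OrdDiv.fPSp; rewrite [Cfsg.Agent.LsF.fdc16eb_3.2, Cfsg.Agent.LsF.nmul_pat, Cfsg.Agent.LsF.nsub_pat, Cfsg.Agent.LsF.npow_pat, Cfsg.Agent.LsF.and_eq, Cfsg.Agent.LsF.not_eq]; exact rfl) | exact rfl⟩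
private noncomputable def _root_.Cfsg.Agent.LsF.fdc16eb_5 : {f // @Cfsg.Agent.OrdDiv.prU = f} := ⟨_, by first | (delta Cfsg.Agent.OrdDiv.prU; rewrite [Cfsg.Agent.LsF.nadd_pat, Cfsg.Agent.LsF.nsub_pat, Cfsg.Agent.LsF.nmod_pat, Cfsg.Agent.LsF.npow_pat, Cfsg.Agent.LsF.map_eq, Cfsg.Agent.LsF.range_eq, Cfsg.Agent.LsF.prod_eq, Cfsg.Agent.LsF.dBoolEq_eq, Cfsg.Agent.LsF.ite_eq]; exact rfl) | exact rfl⟩
private noncomputable def _root_.Cfsg.Agent.LsF.fdc16eb_6 : {f // @Cfsg.Agent.OrdDiv.fPSU = f} := ⟨_, by first | (delta Cfsg.Agent.OrdDiv.fPSU; rewrite [Cfsg.Agent.LsF.fdc16eb_5.2, Cfsg.Agent.LsF.nadd_pat, Cfsg.Agent.LsF.nmul_pat, Cfsg.Agent.LsF.nsub_pat, Cfsg.Agent.LsF.ndiv_pat, Cfsg.Agent.LsF.npow_pat, Cfsg.Agent.LsF.and_eq, Cfsg.Agent.LsF.not_eq]; exact rfl) | exact rfl⟩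
private noncomputable def _root_.Cfsg.Agent.LsF.fdc16eb_7 : {f // @Cfsg.Agent.OrdDiv.fOOdd = f} := ⟨_, by first | (delta Cfsg.Agent.OrdDiv.fOOdd; rewrite [Cfsg.Agent.LsF.fdc16eb_3.2, Cfsg.Agent.LsF.nmul_pat, Cfsg.Agent.LsF.nmod_pat, Cfsg.Agent.LsF.npow_pat]; exact rfl) | exact rfl⟩
private noncomputable def _root_.Cfsg.Agent.LsF.fdc16eb_8 : {f // @Cfsg.Agent.OrdDiv.fOPlus = f} := ⟨_, by first | (delta Cfsg.Agent.OrdDiv.fOPlus; rewrite [Cfsg.Agent.LsF.fdc16eb_3.2, Cfsg.Agent.LsF.nmul_pat, Cfsg.Agent.LsF.nsub_pat, Cfsg.Agent.LsF.npow_pat]; exact rfl) | exact rfl⟩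
private noncomputable def _root_.Cfsg.Agent.LsF.fdc16eb_9 : {f // @Cfsg.Agent.OrdDiv.fOMinus = f} := ⟨_, by first | (delta Cfsg.Agent.OrdDiv.fOMinus; rewrite [Cfsg.Agent.LsF.fdc16eb_3.2, Cfsg.Agent.LsF.nadd_pat, Cfsg.Agent.LsF.nmul_pat, Cfsg.Agent.LsF.nsub_pat, Cfsg.Agent.LsF.npow_pat]; exact rfl) | exact rfl⟩
private noncomputable def _root_.Cfsg.Agent.LsF.fdc16eb_10 : {f // @Cfsg.Agent.OrdDiv.one = f} := ⟨_, by first | (delta Cfsg.Agent.OrdDiv.one; rewrite [Cfsg.Agent.LsF.nadd_pat, Cfsg.Agent.LsF.nmul_pat, Cfsg.Agent.LsF.npow_pat]; exact rfl) | exact rfl⟩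
private noncomputable def _root_.Cfsg.Agent.LsF.fdc16eb_11 : {f // @Cfsg.Agent.OrdDiv.fG2 = f} := ⟨_, by first | (delta Cfsg.Agent.OrdDiv.fG2; rewrite [Cfsg.Agent.LsF.fdc16eb_10.2, Cfsg.Agent.LsF.nmul_pat, Cfsg.Agent.LsF.nsub_pat, Cfsg.Agent.LsF.npow_pat]; exact rfl) | exact rfl⟩
private noncomputable def _root_.Cfsg.Agent.LsF.fdc16eb_12 : {f // @Cfsg.Agent.OrdDiv.fF4 = f} := ⟨_, by first | (delta Cfsg.Agent.OrdDiv.fF4; rewrite [Cfsg.Agent.LsF.fdc16eb_10.2, Cfsg.Agent.LsF.nmul_pat, Cfsg.Agent.LsF.nsub_pat, Cfsg.Agent.LsF.npow_pat]; exact rfl) | exact rfl⟩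
private noncomputable def _root_.Cfsg.Agent.LsF.fdc16eb_13 : {f // @Cfsg.Agent.OrdDiv.fE6 = f} := ⟨_, by first | (delta Cfsg.Agent.OrdDiv.fE6; rewrite [Cfsg.Agent.LsF.fdc16eb_10.2, Cfsg.Agent.LsF.nmul_pat, Cfsg.Agent.LsF.nsub_pat, Cfsg.Agent.LsF.npow_pat]; exact rfl) | exact rfl⟩
private noncomputable def _root_.Cfsg.Agent.LsF.fdc16eb_14 : {f // @Cfsg.Agent.OrdDiv.fE7 = f} := ⟨_, by first | (delta Cfsg.Agent.OrdDiv.fE7; rewrite [Cfsg.Agent.LsF.fdc16eb_10.2, Cfsg.Agent.LsF.nmul_pat, Cfsg.Agent.LsF.nsub_pat, Cfsg.Agent.LsF.npow_pat]; exact rfl) | exact rfl⟩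
private noncomputable def _root_.Cfsg.Agent.LsF.fdc16eb_15 : {f // @Cfsg.Agent.OrdDiv.fE8 = f} := ⟨_, by first | (delta Cfsg.Agent.OrdDiv.fE8; rewrite [Cfsg.Agent.LsF.fdc16eb_10.2, Cfsg.Agent.LsF.nmul_pat, Cfsg.Agent.LsF.nsub_pat, Cfsg.Agent.LsF.npow_pat]; exact rfl) | exact rfl⟩
private noncomputable def _root_.Cfsg.Agent.LsF.fdc16eb_16 : {f // @Cfsg.Agent.OrdDiv.fTE6 = f} := ⟨_, by first | (delta Cfsg.Agent.OrdDiv.fTE6; rewrite [Cfsg.Agent.LsF.fdc16eb_10.2, Cfsg.Agent.LsF.nadd_pat, Cfsg.Agent.LsF.nmul_pat, Cfsg.Agent.LsF.nsub_pat, Cfsg.Agent.LsF.npow_pat]; exact rfl) | exact rfl⟩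
private noncomputable def _root_.Cfsg.Agent.LsF.fdc16eb_17 : {f // @Cfsg.Agent.OrdDiv.fTD4 = f} := ⟨_, by first | (delta Cfsg.Agent.OrdDiv.fTD4; rewrite [Cfsg.Agent.LsF.fdc16eb_10.2, Cfsg.Agent.LsF.nadd_pat, Cfsg.Agent.LsF.nmul_pat, Cfsg.Agent.LsF.nsub_pat, Cfsg.Agent.LsF.npow_pat]; exact rfl) | exact rfl⟩
private noncomputable def _root_.Cfsg.Agent.LsF.fdc16eb_18 : {f // @Cfsg.Agent.OrdDiv.fSz = f} := ⟨_, by first | (delta Cfsg.Agent.OrdDiv.fSz; rewrite [Cfsg.Agent.LsF.fdc16eb_10.2, Cfsg.Agent.LsF.nadd_pat, Cfsg.Agent.LsF.nmul_pat, Cfsg.Agent.LsF.nsub_pat, Cfsg.Agent.LsF.nmod_pat, Cfsg.Agent.LsF.npow_pat, Cfsg.Agent.LsF.and_eq]; exact rfl) | exact rfl⟩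
private noncomputable def _root_.Cfsg.Agent.LsF.fdc16eb_19 : {f // @Cfsg.Agent.OrdDiv.fRee = f} := ⟨_, by first | (delta Cfsg.Agent.OrdDiv.fRee; rewrite [Cfsg.Agent.LsF.fdc16eb_10.2, Cfsg.Agent.LsF.nadd_pat, Cfsg.Agent.LsF.nmul_pat, Cfsg.Agent.LsF.nsub_pat, Cfsg.Agent.LsF.nmod_pat, Cfsg.Agent.LsF.npow_pat, Cfsg.Agent.LsF.and_eq]; exact rfl) | exact rfl⟩
private noncomputable def _root_.Cfsg.Agent.LsF.fdc16eb_20 : {f // @Cfsg.Agent.OrdDiv.fTF4 = f} := ⟨_, by first | (delta Cfsg.Agent.OrdDiv.fTF4; rewrite [Cfsg.Agent.LsF.fdc16eb_10.2, Cfsg.Agent.LsF.nadd_pat, Cfsg.Agent.LsF.nmul_pat, Cfsg.Agent.LsF.nsub_pat, Cfsg.Agent.LsF.nmod_pat, Cfsg.Agent.LsF.npow_pat, Cfsg.Agent.LsF.and_eq]; exact rfl) | exact rfl⟩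
private noncomputable def _root_.Cfsg.Agent.LsF.fdc16eb_21 : {f // @Cfsg.Agent.OrdDiv.instDecidableEqGrp.decEq = f} := ⟨_, by first | (delta Cfsg.Agent.OrdDiv.instDecidableEqGrp.decEq; rewrite [Cfsg.Agent.LsF.instDecEq_eq, Cfsg.Agent.LsF.dite_eq]; (try delta Cfsg.Agent.OrdDiv.instDecidableEqGrp.decEq.match_1); (try delta Decidable.casesOn); exact rfl) | exact rfl⟩
private noncomputable def _root_.Cfsg.Agent.LsF.fdc16eb_22 : {f // @Cfsg.Agent.OrdDiv.instDecidableEqGrp = f} := ⟨_, by first | (delta Cfsg.Agent.OrdDiv.instDecidableEqGrp; rewrite [Cfsg.Agent.LsF.fdc16eb_21.2]; exact rfl) | exact rfl⟩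
private noncomputable def _root_.Cfsg.Agent.LsF.fdc16eb_23 : {f // @Cfsg.Agent.OrdDiv.ordN = f} := ⟨_, by first | (delta Cfsg.Agent.OrdDiv.ordN Option.map; rewrite [Cfsg.Agent.LsF.fdc16eb_0.2, Cfsg.Agent.LsF.fdc16eb_2.2, Cfsg.Agent.LsF.fdc16eb_4.2, Cfsg.Agent.LsF.fdc16eb_6.2, Cfsg.Agent.LsF.fdc16eb_7.2, Cfsg.Agent.LsF.fdc16eb_8.2, Cfsg.Agent.LsF.fdc16eb_9.2, Cfsg.Agent.LsF.fdc16eb_11.2, Cfsg.Agent.LsF.fdc16eb_12.2, Cfsg.Agent.LsF.fdc16eb_13.2, Cfsg.Agent.LsF.fdc16eb_14.2, Cfsg.Agent.LsF.fdc16eb_15.2, Cfsg.Agent.LsF.fdc16eb_16.2, Cfsg.Agent.LsF.fdc16eb_17.2, Cfsg.Agent.LsF.fdc16eb_18.2, Cfsg.Agent.LsF.fdc16eb_19.2, Cfsg.Agent.LsF.fdc16eb_20.2, Cfsg.Agent.LsF.fdc16eb_22.2, Cfsg.Agent.LsF.ndiv_pat, Cfsg.Agent.LsF.find?_eq, Cfsg.Agent.LsF.ogetD_eq, Cfsg.Agent.LsF.decide_eq]; (try delta Cfsg.Agent.OrdDiv.ordN.match_1); (try delta Cfsg.Agent.OrdDiv.ordN._sparseCasesOn_1); (try delta Option.getD.match_1); (try delta Option.casesOn); exact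 rfl) | exact rfl⟩
theorem ordN_inj : ∀ i j : Fin emb.length, i ≠ j → ordN (emb.get i) = ordN (emb.get j) →
    (emb.get i = .alt 8 ∧ emb.get j = .psl 3 4) ∨ (emb.get i = .psl 3 4 ∧ emb.get j = .alt 8) := by (refine of_decide_eq_true ?_; (try (rewrite [Cfsg.Agent.LsF.fdc16eb_23.2, Cfsg.Agent.LsF.fdc16eb_22.2, Cfsg.Agent.LsF.instDecEq_eq, Cfsg.Agent.LsF.get_eq, Cfsg.Agent.LsF.dAnd_eq, Cfsg.Agent.LsF.dOr_eq, Cfsg.Agent.LsF.dNot_eq, Cfsg.Agent.LsF.dFinEq_eq, Cfsg.Agent.LsF.dForallFin_eq, Cfsg.Agent.LsF.dAllP_eq, Cfsg.Agent.LsF.decide_eq])); decide +kernel)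

/-- `A₈ ≇ L₃(4)` -/
theorem not_equiv {X Y : Type*} [Group X] [Group Y] (hX : Nonempty (X ≃* ↥(alternatingGroup (Fin 8))))
    (hY : ∃ (F : Type) (_ : Field F) (_ : Fintype F), Fintype.card F = 4 ∧
      Nonempty (Y ≃* Matrix.ProjectiveSpecialLinearGroup (Fin 3) F)) (e : X ≃* Y) : False := by
  obtain ⟨f⟩ := hX
  obtain ⟨F, _, _, hF, ⟨g⟩⟩ := hY
  obtain ⟨h⟩ := Cfsg.Agent.S0256.result (F := ZMod 2) (by decide)
  exact (Cfsg.Agent.S2550.result (F := ZMod 2) (K := F) (by decide) hF).2 ⟨h.trans (f.symm.trans (e.trans g))⟩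

theorem alias_row {g : Grp} (hg : g ∈ aliases) (h : Real g S) : ∃ g' ∈ emb, Real g' S := by
  simp only [aliases, List.mem_cons, List.not_mem_nil, or_false] at hg
  rcases hg with rfl | rfl | rfl | rfl | rfl | rfl
  · obtain ⟨F, _, _, hF, ⟨e⟩⟩ := h
    obtain ⟨f⟩ := S0252.result hF
    exact ⟨.alt 5, by decide, ⟨e.trans f⟩⟩
  · obtain ⟨F, _, _, hF, ⟨e⟩⟩ := h
    obtain ⟨f⟩ := S0253.result hF
    exact ⟨.alt 5, by decide, ⟨e.trans f⟩⟩
  · obtain ⟨F, _, _, hF, ⟨e⟩⟩ := h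
    obtain ⟨f⟩ := S0254.result hF
    exact ⟨.alt 6, by decide, ⟨e.trans f⟩⟩
  · obtain ⟨F, _, _, hF, ⟨e⟩⟩ := h
    obtain ⟨f⟩ := S0255.result (F := ZMod 7) (K := F) (by rw [ZMod.card]) hF
    exact ⟨.psl 2 7, by decide, ZMod 7, inferInstance, inferInstance, by rw [ZMod.card], ⟨e.trans f.symm⟩⟩
  · obtain ⟨F, _, _, hF, ⟨e⟩⟩ := h
    obtain ⟨f⟩ := S0256.result hF
    exact ⟨.alt 8, by decide, ⟨e.trans f⟩⟩
  · obtain ⟨F, _, _, hF, ⟨e⟩⟩ := h
    have : Fintype (GaloisField 2 2) := Fintype.ofFinite _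
    have hK : Fintype.card (GaloisField 2 2) = 2 ^ 2 := by
      rw [← Nat.card_eq_fintype_card, GaloisField.card _ _ (by norm_num)]
    obtain ⟨f⟩ := S0822.result (F := GaloisField 2 2) (K := F) (by rw [hK]; norm_num) hF
    exact ⟨.psu 4 2, by decide, GaloisField 2 2, inferInstance, this, by rw [hK], ⟨e.trans f.symm⟩⟩

/-- the list of all the candidates -/
theorem cands_sub : ∀ g ∈ cands [(2, 36), (3, 9), (5, 2), (7, 2), (11, 1), (13, 1), (17, 1), (19, 1)]
    76532479683774853939200, g ∈ emb ∨ g ∈ nots ∨ g ∈ aliases ∨ g = .te6 2 := by decide +kernel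

theorem valid_N : valid [(2, 36), (3, 9), (5, 2), (7, 2), (11, 1), (13, 1), (17, 1), (19, 1)]
    76532479683774853939200 = true := by decide +kernel

theorem ordN_te6 : ordN (.te6 2) = 76532479683774853939200 := by decide +kernel

/-- **The assembly.** -/
theorem main {K : Type u} [Field K] [Fintype K] (hK : Fintype.card K = 4) (hin : ∀ g ∈ emb, InE K g)
    (hnot : ∀ g ∈ nots, NotE K g)
    (hkn : ∀ L : Subgroup ↥(Lie.twistedE6 K 2), IsSimpleGroup ↥L → IsKnownSimple' ↥L) :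
    ∃ H : Fin 39 → Subgroup (Lie.twistedE6 K 2),
      (∀ i, H i ≠ ⊤ ∧ IsSimpleGroup (H i) ∧ ¬ IsMulCommutative (H i)) ∧
      (∀ i j, i ≠ j → IsEmpty (H i ≃* H j)) ∧
      (∀ L : Subgroup (Lie.twistedE6 K 2), L ≠ ⊤ → IsSimpleGroup L → ¬ IsMulCommutative L →
        ∃ i, Nonempty (L ≃* H i)) := by
  have hcard := Cfsg.Agent.BabyU.CentT1.card_E K hK
  have hfin : Finite ↥(Lie.twistedE6 K 2) := Nat.finite_of_card_ne_zero (by rw [hcard]; norm_num)
  have hH : ∀ i : Fin 39, ∃ L : Subgroup ↥(Lie.twistedE6 K 2), Real (emb.get i) ↥L :=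
    fun i => hin _ (List.get_mem emb i)
  choose H hreal using hH
  have hrow : ∀ i, IsSimpleGroup ↥(H i) ∧ Nat.card ↥(H i) = ordN (emb.get i) := fun i =>
    row (List.get_mem emb i) (hreal i)
  refine ⟨H, fun i => ⟨?_, (hrow i).1, ?_⟩, fun i j hij => ⟨fun e => ?_⟩, fun L hL hs hna => ?_⟩
  · intro h
    have h1 := (hrow i).2
    have h2 := ordN_lt _ (List.get_mem emb i)
    rw [h, Subgroup.card_top, hcard] at h1
    omega
  · intro h
    have h1 := ordN_four _ (List.get_mem emb i)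
    have := (hrow i).1
    have h2 : (Nat.card ↥(H i)).Prime := prime_card fun a b => h.is_comm.comm a b
    rw [← (hrow i).2] at h1
    have h3 := (Nat.prime_dvd_prime_iff_eq Nat.prime_two h2).1 (dvd_trans (by norm_num) h1)
    rw [← h3] at h1
    omega
  · have h1 : ordN (emb.get i) = ordN (emb.get j) := by
      rw [← (hrow i).2, ← (hrow j).2]
      exact Nat.card_congr e.toEquiv
    rcases ordN_inj i j hij h1 with ⟨h2, h3⟩ | ⟨h2, h3⟩
    · have h4 := hreal i
      have h5 := hreal j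
      rw [h2] at h4
      rw [h3] at h5
      exact not_equiv h4 h5 e
    · have h4 := hreal i
      have h5 := hreal j
      rw [h2] at h4
      rw [h3] at h5
      exact not_equiv h5 h4 e.symm
  · have hna' : ¬ ∀ a b : ↥L, a * b = b * a := fun h => hna ⟨⟨h⟩⟩
    obtain ⟨g, hg, hr, hc⟩ := exists_good table (hkn L hs) hna' valid_N (by
      rw [← hcard]; exact Subgroup.card_subgroup_dvd_card L)
    have key : ∀ g' ∈ emb, Real g' ↥L → ∃ i, Nonempty (↥L ≃* ↥(H i)) := by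
      intro g' hg' hr'
      obtain ⟨i, hi⟩ := List.get_of_mem hg'
      refine ⟨i, H902.Iso.real_unique g' hr' ?_⟩
      rw [← hi]
      exact hreal i
    rcases cands_sub g hg with h | h | h | rfl
    · exact key g h hr
    · exact absurd hr (hnot g h L)
    · obtain ⟨g', h1, h2⟩ := alias_row h hr
      exact key g' h1 h2
    · exfalso
      refine hL (Subgroup.eq_top_of_card_eq _ ?_)
      rw [hc, hcard, ordN_te6]

end Cfsg.Agent.H944.TS.Asm
end

-- part: H767/TSAlt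
section
/-!
# S5741, task A2: subgroups of `A₁₂`, `A₈`, `A₉` (helper767)

`M₁₂`, `M₁₁`, `L₂(11)` in `A₁₂`, `L₂(7)` in `A₈`, `L₂(8)` in `A₉`.
-/

set_option autoImplicit false

namespace Cfsg.Agent.H767.TSAlt

open Cfsg Cfsg.Agent.OrdDiv Cfsg.Agent.H944.TS
open scoped Pointwise

universe u

/-- an injective homomorphism between models gives the relation `Sub` -/
theorem sub_of_hom {g h : Grp} {n : ℕ} (hg : g = .alt n) {H : Type*} [Group H]
    (f : H →* ↥(alternatingGroup (Fin n))) (hf : Function.Injective f)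
    (hh : ∀ (Y : Type u) [Group Y], Nonempty (Y ≃* H) → Real h Y) : _root_.Cfsg.Agent.H944.TS.Sub.{u} g h := by
  subst hg
  intro X _ hX
  obtain ⟨e⟩ : Nonempty (X ≃* ↥(alternatingGroup (Fin n))) := hX
  let f' : H →* X := e.symm.toMonoidHom.comp f
  have hf' : Function.Injective f' := e.symm.injective.comp hf
  exact ⟨f'.range, hh _ ⟨(MonoidHom.ofInjective hf').symm⟩⟩

/-- a simple non-abelian group with a subgroup of index `n > 1` embeds in `A_n` -/
theorem exists_hom {H : Type*} [Group H] [Finite H] [IsSimpleGroup H] (hH : ¬ IsMulCommutative H) {n : ℕ}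
    (h1 : n ≠ 1) (h2 : ∃ K : Subgroup H, K.index = n) :
    ∃ f : H →* ↥(alternatingGroup (Fin n)), Function.Injective f := by
  obtain ⟨K, rfl⟩ := h2
  exact Cfsg.Agent.S0991.result hH K (fun h => h1 (by rw [h, Subgroup.index_top]))

/-- the stabiliser of a dodecad and one of its points is `M₁₁` -/
def eM11 : ↥(MulAction.stabilizer M24 Spor.squareDodecad ⊓ MulAction.stabilizer M24 (some 0 : GolayPt)) ≃*
    Spor.M11 where
  toFun g := ⟨((g : M24) : Equiv.Perm GolayPt), ⟨(g : M24).2, g.2.1⟩, g.2.2⟩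
  invFun g := ⟨⟨(g : Equiv.Perm GolayPt), g.2.1.1⟩, g.2.1.2, g.2.2⟩
  left_inv _ := rfl
  right_inv _ := rfl
  map_mul' _ _ := rfl

theorem zero_mem : (some 0 : GolayPt) ∈ Spor.squareDodecad := by decide +kernel

theorem card_M11 : Nat.card Spor.M11 = 7920 := by
  rw [← Nat.card_congr eM11.toEquiv]
  exact Cfsg.Agent.S0387.result _ Cfsg.Agent.Schreier.MTwelve.squareDodecad_mem _ zero_mem

theorem exists_index_M12 : ∃ K : Subgroup ↥Cfsg.Spor.M12, K.index = 12 := by
  refine ⟨Cfsg.Spor.M11.subgroupOf Cfsg.Spor.M12, ?_⟩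
  have hle : Cfsg.Spor.M11 ≤ Cfsg.Spor.M12 := inf_le_left
  have h1 : Nat.card ↥(Cfsg.Spor.M11.subgroupOf Cfsg.Spor.M12) = 7920 := by
    rw [Nat.card_congr (Subgroup.subgroupOfEquivOfLe hle).toEquiv, card_M11]
  have h2 := (Cfsg.Spor.M11.subgroupOf Cfsg.Spor.M12).card_mul_index
  rw [h1, Cfsg.Agent.MTwelveType.SylowModel.card_M12] at h2
  omega

theorem exists_hom_M12 : ∃ f : ↥Cfsg.Spor.M12 →* ↥(alternatingGroup (Fin 12)), Function.Injective f := by
  have := Cfsg.Agent.Schreier.MTwelve.isSimpleGroup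
  exact exists_hom Cfsg.Agent.Schreier.MTwelve.not_isMulCommutative (by norm_num) exists_index_M12

/-- **A2.** `M₁₂ ≤ A₁₂` -/
theorem alt12_m12 : Sub.{u} (.alt 12) .m12 := by
  obtain ⟨f, hf⟩ := exists_hom_M12
  exact sub_of_hom rfl f hf (fun Y _ h => h)

/-- **A2.** `M₁₁ ≤ A₁₂` -/
theorem alt12_m11 : Sub.{u} (.alt 12) .m11 := by
  obtain ⟨f, hf⟩ := exists_hom_M12
  have hle : Cfsg.Spor.M11 ≤ Cfsg.Spor.M12 := inf_le_left
  exact sub_of_hom rfl (f.comp (Subgroup.inclusion hle)) (hf.comp (Subgroup.inclusion_injective hle))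
    (fun Y _ h => h)

section psl

variable {F : Type*} [Field F] [Fintype F]

theorem not_comm_psl (h3 : 3 < Fintype.card F) :
    ¬ IsMulCommutative (Matrix.ProjectiveSpecialLinearGroup (Fin 2) F) := by
  intro h
  have h1 := TwoFusion.SLTwoFacts.commutator_eq_top h3
  have h2 := Subgroup.map_commutator (⊤ : Subgroup (Matrix.SpecialLinearGroup (Fin 2) F)) ⊤
    (QuotientGroup.mk' (Subgroup.center (Matrix.SpecialLinearGroup (Fin 2) F)))
  have h4 : ⁅(⊤ : Subgroup (Matrix.SpecialLinearGroup (Fin 2) F)), ⊤⁆ = ⊤ := h1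
  have h6 : (⊤ : Subgroup (Matrix.SpecialLinearGroup (Fin 2) F)).map
      (QuotientGroup.mk' (Subgroup.center (Matrix.SpecialLinearGroup (Fin 2) F))) = ⊤ :=
    Subgroup.map_top_of_surjective _ (QuotientGroup.mk'_surjective _)
  rw [h4, h6] at h2
  have h5 : ⁅(⊤ : Subgroup (Matrix.SpecialLinearGroup (Fin 2) F ⧸
      Subgroup.center (Matrix.SpecialLinearGroup (Fin 2) F))),
      (⊤ : Subgroup (Matrix.SpecialLinearGroup (Fin 2) F ⧸
        Subgroup.center (Matrix.SpecialLinearGroup (Fin 2) F)))⁆ = ⊥ := by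
    rw [Subgroup.commutator_eq_bot_iff_le_centralizer]
    intro x _
    rw [Subgroup.mem_centralizer_iff]
    intro y _
    exact h.is_comm.comm y x
  rw [h5] at h2
  have := (TwoFusion.SLTwoFacts.isSimpleGroup_psl h3).toNontrivial
  exact top_ne_bot (α := Subgroup (Matrix.ProjectiveSpecialLinearGroup (Fin 2) F)) h2

theorem exists_hom_psl (h3 : 3 < Fintype.card F) :
    ∃ f : Matrix.ProjectiveSpecialLinearGroup (Fin 2) F →* ↥(alternatingGroup (Fin (Fintype.card F + 1))),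
      Function.Injective f := by
  have := TwoFusion.SLTwoFacts.isSimpleGroup_psl h3
  refine exists_hom (not_comm_psl h3) (by omega) ?_
  obtain ⟨K, hK⟩ := Cfsg.Agent.S0806.exists_index (F := F)
  exact ⟨K, by rw [hK, Nat.card_eq_fintype_card]⟩

end psl

/-- `L₂(q) ≤ A_{q+1}` -/
theorem alt_psl {q : ℕ} (h3 : 3 < q) (hq : IsPrimePow q) : Sub.{u} (.alt (q + 1)) (.psl 2 q) := by
  obtain ⟨p, k, hp, hk, rfl⟩ := hq
  have : Fact p.Prime := ⟨hp.nat_prime⟩
  have : Finite (GaloisField p k) := by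
    apply Nat.finite_of_card_ne_zero
    rw [GaloisField.card p k hk.ne']
    exact pow_ne_zero _ hp.nat_prime.ne_zero
  have : Fintype (GaloisField p k) := Fintype.ofFinite _
  have hc : Fintype.card (GaloisField p k) = p ^ k := by
    rw [← Nat.card_eq_fintype_card]
    exact GaloisField.card p k hk.ne'
  obtain ⟨f, hf⟩ := exists_hom_psl (F := GaloisField p k) (by rw [hc]; exact h3)
  refine sub_of_hom (g := .alt (p ^ k + 1)) (n := Fintype.card (GaloisField p k) + 1) (by rw [hc]) f hf ?_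
  intro Y _ h
  exact ⟨GaloisField p k, inferInstance, inferInstance, hc, h⟩

/-- **A2.** `L₂(11) ≤ A₁₂` -/
theorem alt12_psl11 : Sub.{u} (.alt 12) (.psl 2 11) :=
  alt_psl (q := 11) (by norm_num) (Nat.Prime.isPrimePow (by norm_num))

/-- **A2.** `L₂(7) ≤ A₈` -/
theorem alt8_psl7 : Sub.{u} (.alt 8) (.psl 2 7) :=
  alt_psl (q := 7) (by norm_num) (Nat.Prime.isPrimePow (by norm_num))

/-- **A2.** `L₂(8) ≤ A₉` -/
theorem alt9_psl8 : Sub.{u} (.alt 9) (.psl 2 8) :=
  alt_psl (q := 8) (by norm_num) ⟨2, 3, Nat.prime_two.prime, by norm_num, by norm_num⟩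

end Cfsg.Agent.H767.TSAlt
end

-- part: H446/TSub
section
/-!
# Embeddings for S5741: `U₅(2) ≤ Ω₁₀⁻(2)`, `U₄(2) ≤ U₅(2) ≤ U₆(2)`, `L₃(4) ≤ U₆(2)`
-/

set_option autoImplicit false

namespace Cfsg.Agent.H446.TSub

open Cfsg Cfsg.Agent.OrdDiv Cfsg.Agent.H944.TS Matrix
open Cfsg.Agent.H674.SUBlock Cfsg.Agent.H674.SUTools Cfsg.Agent.LieClassical

universe u

theorem center_bot {F : Type} [Field F] [Fintype F] (hF : Fintype.card F = 2 ^ 2) {n : ℕ} (hn : 3 ≤ n)
    (hc : Nat.gcd n (2 + 1) = 1) : Subgroup.center (Cfsg.SU n F 2) = ⊥ := by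
  rw [← Subgroup.card_eq_one, Cfsg.Agent.S0279.result hF n hn, hc]

/-- `PSU = SU` if the centre is trivial -/
theorem psu_equiv {F : Type} [Field F] [Fintype F] (hF : Fintype.card F = 2 ^ 2) {n : ℕ} (hn : 3 ≤ n)
    (hc : Nat.gcd n (2 + 1) = 1) : Nonempty (Cfsg.PSU n F 2 ≃* Cfsg.SU n F 2) :=
  ⟨(QuotientGroup.quotientMulEquivOfEq (center_bot hF hn hc)).trans QuotientGroup.quotientBot⟩

/-- `SU_n → GU_n` -/
def suGu (n : ℕ) (F : Type) [Field F] (q : ℕ) : Cfsg.SU n F q →* Cfsg.GU n F q :=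
  MonoidHom.codRestrict ((SpecialLinearGroup.toGL).comp (Cfsg.SU n F q).subtype) (Cfsg.GU n F q) (fun x => x.2)

theorem suGu_injective (n : ℕ) (F : Type) [Field F] (q : ℕ) : Function.Injective (suGu n F q) := by
  intro x y h
  have h1 : SpecialLinearGroup.toGL (x : _root_.Matrix.SpecialLinearGroup (Fin n) F) =
      SpecialLinearGroup.toGL (y : _root_.Matrix.SpecialLinearGroup (Fin n) F) := congrArg Subtype.val h
  apply Subtype.ext
  apply Subtype.ext
  have h2 := congrArg (fun z : GL (Fin n) F => (z : Matrix (Fin n) (Fin n) F)) h1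
  exact h2

/-- a homomorphism from a simple non-abelian group which is injective stays injective modulo the centre -/
theorem injective_mod_center {S G : Type*} [Group S] [Group G] [IsSimpleGroup S] (hS : ¬ ∀ a b : S, a * b = b * a)
    (f : S →* G) (hf : Function.Injective f) :
    Function.Injective ((QuotientGroup.mk' (Subgroup.center G)).comp f) := by
  rw [← MonoidHom.ker_eq_bot_iff]
  rcases Subgroup.Normal.eq_bot_or_eq_top (inferInstance :
    ((QuotientGroup.mk' (Subgroup.center G)).comp f).ker.Normal) with h | h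
  · exact h
  · exfalso
    apply hS
    intro a b
    apply hf
    have ha : f a ∈ Subgroup.center G := by
      have : a ∈ ((QuotientGroup.mk' (Subgroup.center G)).comp f).ker := by rw [h]; trivial
      exact (QuotientGroup.eq_one_iff _).1 this
    rw [map_mul, map_mul]
    exact ((Subgroup.mem_center_iff.1 ha) (f b)).symm

/-- range of an injective homomorphism from a group in `Type` -/
theorem of_range {g : Grp} {X : Type u} [Group X] {Y : Type} [Group Y] (f : Y →* X)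
    (hf : Function.Injective f) (h : ∀ (L : Type u) [Group L], Nonempty (L ≃* Y) → Real g L) :
    ∃ L : Subgroup X, Real g ↥L :=
  ⟨f.range, h _ ⟨(MonoidHom.ofInjective hf).symm⟩⟩

/-- **X1** -/
theorem ominus_psu5 : Sub.{u} (.ominus 5 2) (.psu 5 2) := by
  intro X _ hX
  obtain ⟨F, i1, i2, a, b, hF, hab, ⟨e⟩⟩ := hX
  let _i : Fintype (GaloisField 2 2) := Fintype.ofFinite _
  have hK : Fintype.card (GaloisField 2 2) = 2 ^ 2 := by
    rw [← Nat.card_eq_fintype_card, GaloisField.card 2 2 (by norm_num)]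
  obtain ⟨φ, hφ⟩ := Cfsg.Agent.S2641.result (K := GaloisField 2 2) hK hF 5 (by decide) a b hab
  obtain ⟨e2⟩ := psu_equiv hK (n := 5) (by norm_num) (by norm_num)
  have hs : IsSimpleGroup (Cfsg.PSU 5 (GaloisField 2 2) 2) := Cfsg.Agent.S0283.result hK 5 (by norm_num) (by norm_num)
  have hperf : commutator (Cfsg.SU 5 (GaloisField 2 2) 2) = ⊤ :=
    Cfsg.Agent.LieClassical.HermPerfect.commutator_SU_eq_top hK (by norm_num) (by norm_num)
  set! f0 : Cfsg.SU 5 (GaloisField 2 2) 2 →* ↥(isometryGroup F (quadFormMinus (5 - 1) F a b)) :=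
    φ.comp (suGu 5 (GaloisField 2 2) 2) with hf0
  have hf0i : Function.Injective f0 := hφ.comp (suGu_injective _ _ _)
  have hmem : ∀ x, f0 x ∈ commutator ↥(isometryGroup F (quadFormMinus (5 - 1) F a b)) := by
    intro x
    have h1 : x ∈ commutator (Cfsg.SU 5 (GaloisField 2 2) 2) := by rw [hperf]; trivial
    have h2 : f0 x ∈ (commutator (Cfsg.SU 5 (GaloisField 2 2) 2)).map f0 := ⟨x, h1, rfl⟩
    have h3 : (commutator (Cfsg.SU 5 (GaloisField 2 2) 2)).map f0 ≤
        commutator ↥(isometryGroup F (quadFormMinus (5 - 1) F a b)) := by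
      rw [commutator_def, commutator_def, Subgroup.map_commutator]
      exact Subgroup.commutator_mono le_top le_top
    exact h3 h2
  let f1 : Cfsg.SU 5 (GaloisField 2 2) 2 →* ↥(Cfsg.Omega F (quadFormMinus (5 - 1) F a b)) :=
    MonoidHom.codRestrict f0 _ hmem
  have hf1i : Function.Injective f1 := by
    intro x y h
    exact hf0i (congrArg Subtype.val h)
  let f2 : Cfsg.PSU 5 (GaloisField 2 2) 2 →* ↥(Cfsg.Omega F (quadFormMinus (5 - 1) F a b)) :=
    f1.comp e2.toMonoidHom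
  have hf2i : Function.Injective f2 := hf1i.comp e2.injective
  have hnc : ¬ ∀ x y : Cfsg.PSU 5 (GaloisField 2 2) 2, x * y = y * x := by
    intro hc
    have h1 : Subsingleton (Cfsg.PSU 5 (GaloisField 2 2) 2) := by
      refine ⟨fun x y => e2.injective ?_⟩
      have h2 : commutator (Cfsg.SU 5 (GaloisField 2 2) 2) = ⊥ := by
        rw [commutator_def, Subgroup.commutator_eq_bot_iff_le_centralizer]
        intro s _ t _
        have := hc (e2.symm t) (e2.symm s)
        have h4 := congrArg e2 this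
        simpa only [_root_.map_mul, _root_.MulEquiv.apply_symm_apply] using h4
      have h3 : ∀ z : Cfsg.SU 5 (GaloisField 2 2) 2, z = 1 := by
        intro z
        have : z ∈ (⊤ : Subgroup (Cfsg.SU 5 (GaloisField 2 2) 2)) := trivial
        rw [← hperf, h2] at this
        exact this
      rw [h3 (e2 x), h3 (e2 y)]
    exact not_subsingleton _ h1
  have hf3 := injective_mod_center hnc f2 hf2i
  refine of_range (e.symm.toMonoidHom.comp ((QuotientGroup.mk' (Subgroup.center _)).comp f2))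
    (e.symm.injective.comp hf3) ?_
  intro L _ hL
  exact ⟨GaloisField 2 2, inferInstance, inferInstance, hK, hL⟩

/-- **X2** -/
theorem psu5_psu4 : Sub.{u} (.psu 5 2) (.psu 4 2) := by
  intro X _ hX
  obtain ⟨F, i1, i2, hF, ⟨e⟩⟩ := hX
  obtain ⟨e2⟩ := psu_equiv hF (n := 4) (by norm_num) (by norm_num)
  have h1 := pr_ext_injective (d := 4) (k := 1) hF (by norm_num) (by norm_num)
  refine of_range (e.symm.toMonoidHom.comp (((pr : Cfsg.SU (4 + 1) F 2 →* Cfsg.PSU (4 + 1) F 2).comp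
    (_root_.Cfsg.Agent.H674.SUBlock.ext hF 1 : Cfsg.SU 4 F 2 →* _)).comp e2.toMonoidHom)) (e.symm.injective.comp (h1.comp e2.injective)) ?_
  intro L _ hL
  exact ⟨F, i1, i2, hF, hL⟩

/-! ### `L₃(4)` in `U₆(2)` -/

section L34

variable {F : Type} [Field F] (w : F)

/-- the change of basis -/
def T : Matrix (Fin 3 ⊕ Fin 3) (Fin 3 ⊕ Fin 3) F := fromBlocks 1 1 1 (w • 1)

/-- its inverse -/
def T' : Matrix (Fin 3 ⊕ Fin 3) (Fin 3 ⊕ Fin 3) F := fromBlocks (w ^ 2 • 1) (w • 1) (w • 1) (w • 1)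

variable {w}

theorem T_mul (h2 : (2 : F) = 0) (hw : w ^ 2 + w + 1 = 0) : T w * T' w = 1 := by
  have e1 : w ^ 2 + w = 1 := by linear_combination hw - h2
  have e2 : w + w = 0 := by linear_combination w * h2
  have e3 : w ^ 2 + w * w = 0 := by linear_combination w ^ 2 * h2
  have e4 : w + w * w = 1 := by linear_combination hw - h2
  rw [T, T', fromBlocks_multiply, ← fromBlocks_one]
  simp only [one_mul, smul_mul_smul_comm, mul_one, ← add_smul, e1, e2, e3, e4, one_smul, zero_smul]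

theorem T_mul' (h2 : (2 : F) = 0) (hw : w ^ 2 + w + 1 = 0) : T' w * T w = 1 :=
  mul_eq_one_comm.1 (T_mul h2 hw)

theorem sm (a b c : F) (h : a + b = c) : a • (1 : Matrix (Fin 3) (Fin 3) F) + b • 1 = c • 1 := by
  rw [← add_smul, h]

variable [Fintype F] (hF : Fintype.card F = 2 ^ 2)

theorem T_form (h2 : (2 : F) = 0) (hw : w ^ 2 + w + 1 = 0) :
    (T w)ᵀ * (T w).map (GUOrder.frob hF) = fromBlocks 0 (w • 1) (w ^ 2 • 1) 0 := by
  have e0 := sm (1 : F) 1 0 (by linear_combination h2)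
  have e1 := sm 1 (w ^ 2) w (by linear_combination hw - w * h2)
  have e2 := sm 1 w (w ^ 2) (by linear_combination hw - w ^ 2 * h2)
  have e3 := sm 1 (w * w ^ 2) 0 (by linear_combination (w - 1) * hw + h2)
  have hm1 : (1 : Matrix (Fin 3) (Fin 3) F).map (GUOrder.frob hF) = 1 := by
    rw [Matrix.map_one _ (map_zero _) (map_one _)]
  have hm2 : (w • (1 : Matrix (Fin 3) (Fin 3) F)).map (GUOrder.frob hF) = w ^ 2 • 1 := by
    ext i j
    simp only [map_apply, Matrix.smul_apply, GUOrder.frob_apply]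
    by_cases hij : i = j
    · subst hij; simp
    · simp [hij]
  rw [one_smul] at e0 e1 e2 e3
  rw [T, fromBlocks_transpose, fromBlocks_map, fromBlocks_multiply, hm1, hm2]
  simp only [transpose_one, transpose_smul, smul_mul_smul_comm, mul_one, one_mul, e0, e1, e2, e3, zero_smul]

/-- the matrix of an element of `SL_3` -/
def cc : _root_.Matrix.SpecialLinearGroup (Fin 3) F →* Matrix (Fin 3) (Fin 3) F := SpecialLinearGroup.coeMonoidHom

omit [Fintype F] in
theorem cc_det (A : _root_.Matrix.SpecialLinearGroup (Fin 3) F) : (cc A).det = 1 := A.2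

omit [Fintype F] in
theorem cc_inv (A : _root_.Matrix.SpecialLinearGroup (Fin 3) F) : cc A⁻¹ * cc A = 1 := by
  rw [← map_mul, inv_mul_cancel, map_one]

/-- the block diagonal matrix `diag(A, (A^*)⁻¹)` -/
def D (A : _root_.Matrix.SpecialLinearGroup (Fin 3) F) : Matrix (Fin 3 ⊕ Fin 3) (Fin 3 ⊕ Fin 3) F :=
  fromBlocks (cc A) 0 0 ((cc A⁻¹)ᵀ.map (GUOrder.frob hF))

theorem D_one : D hF (1 : _root_.Matrix.SpecialLinearGroup (Fin 3) F) = 1 := by
  rw [D, inv_one, map_one, transpose_one, Matrix.map_one _ (map_zero _) (map_one _),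
    fromBlocks_one]

theorem D_mul (A B : _root_.Matrix.SpecialLinearGroup (Fin 3) F) : D hF (A * B) = D hF A * D hF B := by
  rw [D, D, D, fromBlocks_multiply, _root_.mul_inv_rev, map_mul, map_mul,
    transpose_mul, Matrix.map_mul]
  simp only [_root_.MulZeroClass.mul_zero, _root_.add_zero, _root_.MulZeroClass.zero_mul, _root_.zero_add]

theorem D_det (A : _root_.Matrix.SpecialLinearGroup (Fin 3) F) : (D hF A).det = 1 := by
  rw [D, det_fromBlocks_zero₁₂, cc_det, one_mul]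
  have h1 := (GUOrder.frob hF).map_det ((cc A⁻¹)ᵀ)
  rw [det_transpose, cc_det, map_one] at h1
  exact h1.symm

theorem frob_frob (A : Matrix (Fin 3) (Fin 3) F) : (A.map (GUOrder.frob hF)).map (GUOrder.frob hF) = A := by
  ext i j
  simp only [map_apply, GUOrder.frob_apply]
  exact HermBasic.pow_q_pow_q hF _

theorem D_form (A : _root_.Matrix.SpecialLinearGroup (Fin 3) F) :
    (D hF A)ᵀ * fromBlocks 0 (w • 1) (w ^ 2 • 1) 0 * (D hF A).map (GUOrder.frob hF) =
      fromBlocks 0 (w • 1) (w ^ 2 • 1) 0 := by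
  have h0 : (0 : Matrix (Fin 3) (Fin 3) F).map (GUOrder.frob hF) = 0 := Matrix.map_zero _ (map_zero _)
  have h1 : (cc A)ᵀ * (cc A⁻¹)ᵀ = 1 := by
    rw [← transpose_mul, cc_inv, transpose_one]
  have h2 : (cc A⁻¹).map (GUOrder.frob hF) * (cc A).map (GUOrder.frob hF) = 1 := by
    rw [← Matrix.map_mul, cc_inv, Matrix.map_one _ (map_zero _) (map_one _)]
  rw [D, fromBlocks_transpose, fromBlocks_map, frob_frob, h0, fromBlocks_multiply, fromBlocks_multiply]
  rw [transpose_map, transpose_transpose]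
  simp only [h1, h2, _root_.MulZeroClass.mul_zero, _root_.Matrix.transpose_zero, _root_.Algebra.mul_smul_comm, _root_.mul_one, _root_.smul_zero, _root_.add_zero, _root_.MulZeroClass.zero_mul, _root_.Algebra.smul_mul_assoc, _root_.zero_add]

/-- the matrix -/
def M (w : F) (A : _root_.Matrix.SpecialLinearGroup (Fin 3) F) : Matrix (Fin 3 ⊕ Fin 3) (Fin 3 ⊕ Fin 3) F :=
  T w * D hF A * T' w

theorem M_one (h2 : (2 : F) = 0) (hw : w ^ 2 + w + 1 = 0) : M hF w 1 = 1 := by
  rw [M, D_one, mul_one, T_mul h2 hw]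

theorem M_mul (h2 : (2 : F) = 0) (hw : w ^ 2 + w + 1 = 0) (A B : _root_.Matrix.SpecialLinearGroup (Fin 3) F) :
    M hF w (A * B) = M hF w A * M hF w B := by
  rw [M, M, M, D_mul]
  calc T w * (D hF A * D hF B) * T' w = T w * D hF A * 1 * D hF B * T' w := by simp only [mul_one, mul_assoc]
    _ = (T w * D hF A * T' w) * (T w * D hF B * T' w) := by rw [← T_mul' h2 hw]; simp only [mul_assoc]

theorem M_det (h2 : (2 : F) = 0) (hw : w ^ 2 + w + 1 = 0) (A : _root_.Matrix.SpecialLinearGroup (Fin 3) F) :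
    (M hF w A).det = 1 := by
  rw [M, det_mul, det_mul, D_det, mul_one, ← det_mul, T_mul h2 hw, det_one]

theorem M_form (h2 : (2 : F) = 0) (hw : w ^ 2 + w + 1 = 0) (A : _root_.Matrix.SpecialLinearGroup (Fin 3) F) :
    (M hF w A)ᵀ * (M hF w A).map (GUOrder.frob hF) = 1 := by
  rw [M, transpose_mul, transpose_mul, Matrix.map_mul, Matrix.map_mul]
  calc (T' w)ᵀ * ((D hF A)ᵀ * (T w)ᵀ) *
        ((T w).map (GUOrder.frob hF) * (D hF A).map (GUOrder.frob hF) * (T' w).map (GUOrder.frob hF))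
      = (T' w)ᵀ * ((D hF A)ᵀ * ((T w)ᵀ * (T w).map (GUOrder.frob hF)) * (D hF A).map (GUOrder.frob hF)) *
          (T' w).map (GUOrder.frob hF) := by simp only [mul_assoc]
    _ = ((T' w)ᵀ * (T w)ᵀ) * ((T w).map (GUOrder.frob hF) * (T' w).map (GUOrder.frob hF)) := by
        rw [T_form hF h2 hw, D_form, ← T_form hF h2 hw]; simp only [mul_assoc]
    _ = 1 := by
        rw [← transpose_mul, ← Matrix.map_mul, T_mul h2 hw, transpose_one,
          Matrix.map_one _ (map_zero _) (map_one _), mul_one]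

/-- the matrix of size 6 -/
def N (w : F) (A : _root_.Matrix.SpecialLinearGroup (Fin 3) F) : Matrix (Fin (3 + 3)) (Fin (3 + 3)) F :=
  Matrix.reindex finSumFinEquiv finSumFinEquiv (M hF w A)

/-- `SL₃(4) → SU₆(2)` -/
def hom (h2 : (2 : F) = 0) (hw : w ^ 2 + w + 1 = 0) : _root_.Matrix.SpecialLinearGroup (Fin 3) F →* Cfsg.SU (3 + 3) F 2 where
  toFun A := mkSU hF (N hF w A) (by rw [N, Matrix.det_reindex_self, M_det hF h2 hw]) (by
    rw [N, Matrix.transpose_reindex]
    have h3 : (Matrix.reindex finSumFinEquiv finSumFinEquiv (M hF w A)).map (GUOrder.frob hF) =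
        Matrix.reindex finSumFinEquiv finSumFinEquiv ((M hF w A).map (GUOrder.frob hF)) := rfl
    rw [h3, Matrix.reindex_apply, Matrix.reindex_apply, Matrix.submatrix_mul_equiv, M_form hF h2 hw]
    simp)
  map_one' := by
    apply cm_injective
    rw [cm_mkSU, map_one, N, M_one hF h2 hw]
    simp
  map_mul' A B := by
    apply cm_injective
    rw [cm_mkSU, map_mul, cm_mkSU, cm_mkSU, N, N, N, M_mul hF h2 hw, Matrix.reindex_apply, Matrix.reindex_apply,
      Matrix.reindex_apply, Matrix.submatrix_mul_equiv]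

theorem cm_hom (h2 : (2 : F) = 0) (hw : w ^ 2 + w + 1 = 0) (A : _root_.Matrix.SpecialLinearGroup (Fin 3) F) :
    cm (hom hF h2 hw A) = N hF w A := rfl

omit [Fintype F] in
theorem reindex_smul_one (c : F) : Matrix.reindex (finSumFinEquiv (m := 3) (n := 3)) finSumFinEquiv
    (c • (1 : Matrix (Fin 3 ⊕ Fin 3) (Fin 3 ⊕ Fin 3) F)) = c • 1 := by
  rw [Matrix.reindex_apply]
  ext i j
  simp only [submatrix_apply, Matrix.smul_apply]
  by_cases hij : i = j
  · subst hij; simp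
  · rw [one_apply_ne hij, one_apply_ne (fun h => hij ((finSumFinEquiv (m := 3) (n := 3)).symm.injective h))]

theorem mem_center (h2 : (2 : F) = 0) (hw : w ^ 2 + w + 1 = 0) {A : _root_.Matrix.SpecialLinearGroup (Fin 3) F}
    (h : A ∈ Subgroup.center (_root_.Matrix.SpecialLinearGroup (Fin 3) F)) :
    hom hF h2 hw A ∈ Subgroup.center (Cfsg.SU (3 + 3) F 2) := by
  obtain ⟨r, hr, hrA⟩ := Matrix.SpecialLinearGroup.mem_center_iff.1 h
  have hcc : cc A = r • 1 := by
    have : cc A = Matrix.scalar (Fin 3) r := hrA.symm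
    rw [this, Matrix.smul_one_eq_diagonal]; rfl
  have hr3 : r ^ 3 = 1 := by simpa using hr
  have hci : cc A⁻¹ = r ^ 2 • 1 := by
    have h1 := cc_inv A
    rw [hcc, mul_smul_comm, mul_one] at h1
    calc cc A⁻¹ = (r ^ 2 * r) • cc A⁻¹ := by rw [show r ^ 2 * r = 1 by rw [← hr3]; ring, one_smul]
      _ = r ^ 2 • (r • cc A⁻¹) := by rw [smul_smul]
      _ = r ^ 2 • 1 := by rw [h1]
  have hD : D hF A = r • 1 := by
    have h3 : ((cc A⁻¹)ᵀ.map (GUOrder.frob hF)) = r • 1 := by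
      rw [hci]
      ext i j
      by_cases hij : i = j
      · subst hij
        simp only [transpose_smul, transpose_one, map_apply, Matrix.smul_apply, one_apply_eq, smul_eq_mul, mul_one,
          GUOrder.frob_apply]
        calc (r ^ 2) ^ 2 = r ^ 3 * r := by ring
          _ = r := by rw [hr3, one_mul]
      · simp [hij]
    rw [D, h3, hcc, ← fromBlocks_one, fromBlocks_smul]
    simp
  have hM : M hF w A = r • 1 := by
    rw [M, hD, mul_smul_comm, mul_one, smul_mul_assoc, T_mul h2 hw]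
  rw [Subgroup.mem_center_iff]
  intro g
  apply cm_injective
  rw [map_mul, map_mul, cm_hom, N, hM, reindex_smul_one, mul_smul_comm, smul_mul_assoc, mul_one, one_mul]

theorem center_of (h2 : (2 : F) = 0) (hw : w ^ 2 + w + 1 = 0) {A : _root_.Matrix.SpecialLinearGroup (Fin 3) F}
    (h : hom hF h2 hw A ∈ Subgroup.center (Cfsg.SU (3 + 3) F 2)) :
    A ∈ Subgroup.center (_root_.Matrix.SpecialLinearGroup (Fin 3) F) := by
  obtain ⟨c, hc1, hc2, h1⟩ := (SUBasic.mem_center_SU_iff hF (by norm_num) _).1 h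
  have h3 : N hF w A = c • 1 := by
    have : N hF w A = Matrix.diagonal (fun _ => c) := congrArg cm h1
    rw [this, Matrix.smul_one_eq_diagonal]
  have h4 : M hF w A = c • 1 := by
    apply (Matrix.reindex (finSumFinEquiv (m := 3) (n := 3)) finSumFinEquiv).injective
    rw [← N, h3, reindex_smul_one]
  have h5 : D hF A = c • 1 := by
    calc D hF A = (T' w * T w) * D hF A * (T' w * T w) := by rw [T_mul' h2 hw, one_mul, mul_one]
      _ = T' w * M hF w A * T w := by rw [M]; simp only [mul_assoc]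
      _ = c • 1 := by rw [h4, mul_smul_comm, mul_one, smul_mul_assoc, T_mul' h2 hw]
  have h6 : cc A = c • 1 := by
    rw [D, ← fromBlocks_one, fromBlocks_smul, fromBlocks_inj] at h5
    exact h5.1
  rw [Subgroup.mem_center_iff]
  intro g
  have h7 : Function.Injective (cc : _root_.Matrix.SpecialLinearGroup (Fin 3) F →* Matrix (Fin 3) (Fin 3) F) :=
    SpecialLinearGroup.coeMonoidHom_injective
  apply h7
  rw [map_mul, map_mul, h6, mul_smul_comm, smul_mul_assoc, mul_one, one_mul]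

include hF in
theorem exists_hom : ∃ f : ProjectiveSpecialLinearGroup (Fin 3) F →* Cfsg.PSU 6 F 2, Function.Injective f := by
  have h2 : (2 : F) = 0 := by
    have h := FiniteField.cast_card_eq_zero F
    rw [hF] at h
    have h' : (2 : F) ^ 2 = 0 := by exact_mod_cast h
    exact pow_eq_zero_iff (by norm_num) |>.1 h'
  obtain ⟨w, hw⟩ : ∃ w : F, w ^ 2 + w + 1 = 0 := by
    classical
    have h3 : ∃ x ∈ (Finset.univ : Finset F), x ∉ ({0, 1} : Finset F) := by
      apply Finset.exists_mem_notMem_of_card_lt_card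
      rw [Finset.card_univ, hF]
      exact lt_of_le_of_lt Finset.card_le_two (by norm_num)
    obtain ⟨x, -, hx⟩ := h3
    simp only [Finset.mem_insert, Finset.mem_singleton, not_or] at hx
    refine ⟨x, ?_⟩
    have h4 : x ^ 3 = 1 := by
      have := FiniteField.pow_card_sub_one_eq_one x hx.1
      rwa [hF] at this
    have h5 : (x - 1) * (x ^ 2 + x + 1) = 0 := by linear_combination h4
    rcases mul_eq_zero.1 h5 with h6 | h6
    · exact absurd (sub_eq_zero.1 h6) hx.2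
    · exact h6
  let g : _root_.Matrix.SpecialLinearGroup (Fin 3) F →* Cfsg.PSU (3 + 3) F 2 := pr.comp (hom hF h2 hw)
  refine ⟨QuotientGroup.lift _ g fun A hA => (pr_eq_one_iff _).2 (mem_center hF h2 hw hA), ?_⟩
  rw [injective_iff_map_eq_one]
  intro x
  induction x using QuotientGroup.induction_on with
  | H A =>
    intro hx
    exact (QuotientGroup.eq_one_iff A).2 (center_of hF h2 hw ((pr_eq_one_iff _).1 hx))

end L34

/-- **X4** -/
theorem psu6_psl34 : Sub.{u} (.psu 6 2) (.psl 3 4) := by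
  intro X _ hX
  obtain ⟨F, i1, i2, hF, ⟨e⟩⟩ := hX
  obtain ⟨f, hf⟩ := exists_hom hF
  refine of_range (e.symm.toMonoidHom.comp f) (e.symm.injective.comp hf) ?_
  intro L _ hL
  exact ⟨F, i1, i2, by rw [hF]; norm_num, hL⟩

end Cfsg.Agent.H446.TSub
end

-- part: H860/TS/SpSix
section
/-!
# `PSU₃(3)` is a subgroup of `PSp₆(2)` (helper860)

The 63 non-isotropic points of the unitary plane are 63 lines of the symplectic space of dimension 6 over the field with
two elements (the lines of the generalised hexagon).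
-/

set_option autoImplicit false
set_option maxRecDepth 100000

namespace Cfsg.Agent.H860.TS.SpSix

open Matrix Cfsg Cfsg.Agent.OrdDiv Cfsg.Agent.H944.TS Cfsg.Agent.J2

universe u

/-- coordinates -/
def idx6 : Fin 3 ⊕ Fin 3 → ℕ := Sum.elim (fun i => i.val) (fun i => 3 + i.val)

abbrev V := Fin 3 ⊕ Fin 3 → ZMod 2

/-- a packed matrix -/
def mk (T : ℕ) : Matrix (Fin 3 ⊕ Fin 3) (Fin 3 ⊕ Fin 3) (ZMod 2) :=
  Matrix.of fun i j => if Nat.testBit T (6 * idx6 i + idx6 j) then 1 else 0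

/-- a packed vector -/
def vc (T : ℕ) : V := fun i => if Nat.testBit T (idx6 i) then 1 else 0

/-- the matrices -/
def mL : List ℕ := [35301485235, 12827242630, 20497111297, 52889141697]

/-- the lines, packed -/
def lC : ℕ := 91681698318195202762278796785353540947652598000386842383723248715651963120707077467444291541504505590296349606639221080478549779341812547390487157294371696318948961866541588675491172996133361672812803338990038059887233143728614987238702414600947444571967112009779885422631268409271739365815336512861205938947378453387731600833492680729440385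

def mC (s : Fin 4) : ℕ := mL.getD s.val 0
/-- the points of the lines -/
def pt (i : Fin 63) (t : Fin 3) : V := vc (lC / 64 ^ (3 * i.val + t.val) % 64)

abbrev Sp := Matrix.symplecticGroup (Fin 3) (ZMod 2)

/-- the pairs (matrix, permutation) compatible with a relation -/
def Lg (P : Fin 63 → V → Prop) : Subgroup (Sp × Equiv.Perm (Fin 63)) where
  carrier := {x | ∀ i v, P i v ↔ P (x.2 i) ((x.1 : Matrix _ _ (ZMod 2)) *ᵥ v)}
  one_mem' := by
    intro i v
    rw [Prod.fst_one, Prod.snd_one, Submonoid.coe_one, Matrix.one_mulVec, Equiv.Perm.one_apply]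
  mul_mem' := by
    intro a b ha hb i v
    rw [Prod.fst_mul, Prod.snd_mul, Submonoid.coe_mul, ← Matrix.mulVec_mulVec, Equiv.Perm.mul_apply, ← ha, ← hb]
  inv_mem' := by
    intro a ha i v
    rw [Prod.fst_inv, Prod.snd_inv]
    have h1 := ha (a.2⁻¹ i) (((a.1⁻¹ : Sp) : Matrix _ _ (ZMod 2)) *ᵥ v)
    have h0 : a.2 (a.2⁻¹ i) = i := Equiv.apply_symm_apply a.2 i
    rw [Matrix.mulVec_mulVec, h0] at h1
    have h2 : (a.1 : Matrix (Fin 3 ⊕ Fin 3) (Fin 3 ⊕ Fin 3) (ZMod 2)) * ((a.1⁻¹ : Sp) : Matrix _ _ (ZMod 2)) = 1 := by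
      rw [← Submonoid.coe_mul, mul_inv_cancel, Submonoid.coe_one]
    rw [h2, Matrix.one_mulVec] at h1
    exact h1.symm

theorem memA : ∀ s : Fin 4, mk (mC s) * Matrix.J (Fin 3) (ZMod 2) * (mk (mC s))ᵀ = Matrix.J (Fin 3) (ZMod 2) := by
  (set_option synthInstance.maxSize 20000 in open scoped Cfsg.Agent.Lib.MatDec in decide +kernel)

theorem a_a : ∀ s : Fin 4, mk (mC s) * mk (mC s) = 1 := by (delta Cfsg.Agent.H860.TS.SpSix.mk; set_option synthInstance.maxSize 20000 in open scoped Cfsg.Agent.Lib.MatDec in (simp only [Cfsg.Agent.Lib.MatDec.sw_dec, Cfsg.Agent.Lib.MatDec.sw_ite, Cfsg.Agent.Lib.MatDec.sw_beq, Cfsg.Agent.Lib.MatDec.sw_bne]; decide +kernel))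

/-- the four symplectic matrices -/
def gA (s : Fin 4) : Sp := ⟨mk (mC s), memA s⟩

private noncomputable def _root_.Cfsg.Agent.LsF.fdc16eb_28 : {f // @Cfsg.Agent.H860.TS.SpSix.mC = f} := ⟨_, by first | (delta Cfsg.Agent.H860.TS.SpSix.mC; rewrite [Cfsg.Agent.LsF.getD_eq]; exact rfl) | exact rfl⟩
private noncomputable def _root_.Cfsg.Agent.LsF.fdc16eb_29 : {f // @Cfsg.Agent.H860.TS.SpSix.idx6 = f} := ⟨_, by first | (delta Cfsg.Agent.H860.TS.SpSix.idx6; rewrite [Cfsg.Agent.LsF.nadd_pat]; exact rfl) | exact rfl⟩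
private noncomputable def _root_.Cfsg.Agent.LsF.fdc16eb_30 : {f // @Cfsg.Agent.J2.U33.tab = f} := ⟨_, by first | (delta Cfsg.Agent.J2.U33.tab; rewrite [Cfsg.Agent.LsF.getD_eq]; exact rfl) | exact rfl⟩
theorem act : ∀ (s : Fin 4) (i : Fin 63) (t : Fin 3), ∃ t' : Fin 3, mk (mC s) *ᵥ pt i t = pt (U33.tab s i) t' := by
  (delta Cfsg.Agent.H860.TS.SpSix.mk Cfsg.Agent.H860.TS.SpSix.pt Cfsg.Agent.H860.TS.SpSix.vc; set_option synthInstance.maxSize 20000 in open scoped Cfsg.Agent.Lib.MatDec in (simp only [Cfsg.Agent.Lib.MatDec.sw_dec, Cfsg.Agent.Lib.MatDec.sw_ite, Cfsg.Agent.Lib.MatDec.sw_beq, Cfsg.Agent.Lib.MatDec.sw_bne]; (refine of_decide_eq_true ?_; (try (delta Cfsg.Agent.Lib.MatDec.decV; rewrite [Cfsg.Agent.LsF.fdc16eb_28.2, Cfsg.Agent.LsF.fdc16eb_29.2, Cfsg.Agent.LsF.fdc16eb_30.2, Cfsg.Agent.LsF.mof_pat, Cfsg.Agent.LsF.nadd_pat, Cfsg.Agent.LsF.nmul_pat, Cfsg.Agent.LsF.ndiv_pat, Cfsg.Agent.LsF.nmod_pat, Cfsg.Agent.LsF.npow_pat, Cfsg.Agent.LsF.finFintype_eq,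 Cfsg.Agent.LsF.testBit_eq, Cfsg.Agent.LsF.dBoolEq_eq, Cfsg.Agent.LsF.decide_eq])); decide +kernel)))

/-- membership in a line -/
def On (i : Fin 63) (v : V) : Prop := ∃ t : Fin 3, v = pt i t

instance onDec (i : Fin 63) (v : V) : Decidable (On i v) := by unfold On; infer_instance

/-- different lines have different points -/
theorem line_inj : ∀ i j : Fin 63, (∀ t : Fin 3, On j (pt i t)) → i = j := by (delta Cfsg.Agent.H860.TS.SpSix.On; set_option synthInstance.maxSize 20000 in open scoped Cfsg.Agent.Lib.MatDec in decide +kernel)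

/-- the basis vectors are intersections of two lines -/
def b1 : Fin 3 ⊕ Fin 3 → Fin 63 := Sum.elim ![0, 0, 2] ![12, 3, 13]
def b2 : Fin 3 ⊕ Fin 3 → Fin 63 := Sum.elim ![1, 11, 3] ![26, 29, 14]

theorem basis_on : ∀ k, On (b1 k) (Pi.single k 1) ∧ On (b2 k) (Pi.single k 1) := by decide +kernel
theorem basis_uniq : ∀ k (t t' : Fin 3), pt (b1 k) t = pt (b2 k) t' → pt (b1 k) t = Pi.single k 1 := by decide +kernel

/-- the pairs (matrix, permutation) compatible with the lines -/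
abbrev L : Subgroup (Sp × Equiv.Perm (Fin 63)) := Lg On

theorem fst_one {σ : Equiv.Perm (Fin 63)} (h : ((1 : Sp), σ) ∈ L) : σ = 1 := by
  ext1 i
  symm
  apply line_inj i (σ i)
  intro t
  have h1 := (h i (pt i t)).1 ⟨t, rfl⟩
  have h2 : (((1 : Sp) : Matrix (Fin 3 ⊕ Fin 3) (Fin 3 ⊕ Fin 3) (ZMod 2))) *ᵥ pt i t = pt i t := Matrix.one_mulVec _
  rw [h2] at h1
  exact h1

theorem snd_one {g : Sp} (h : (g, (1 : Equiv.Perm (Fin 63))) ∈ L) : g = 1 := by
  apply Subtype.ext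
  have key : ∀ k, (g : Matrix (Fin 3 ⊕ Fin 3) (Fin 3 ⊕ Fin 3) (ZMod 2)) *ᵥ Pi.single k 1 = Pi.single k 1 := by
    intro k
    obtain ⟨h1, h2⟩ := basis_on k
    obtain ⟨t, ht⟩ := (h _ _).1 h1
    obtain ⟨t', ht'⟩ := (h _ _).1 h2
    have h3 : pt (b1 k) t = pt (b2 k) t' := ht.symm.trans ht'
    exact ht.trans (basis_uniq k t t' h3)
  show (g : Matrix (Fin 3 ⊕ Fin 3) (Fin 3 ⊕ Fin 3) (ZMod 2)) = 1
  apply Matrix.ext
  intro i k
  have h1 := congrFun (key k) i
  rw [Matrix.mulVec_single_one] at h1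
  rw [Matrix.one_apply]
  simpa [Pi.single_apply] using h1

theorem mem_L (s : Fin 4) : (gA s, U33.sig s) ∈ L := by
  have hf : ∀ i v, On i v → On (U33.sig s i) (mk (mC s) *ᵥ v) := by
    rintro i _ ⟨t, rfl⟩
    exact act s i t
  intro i v
  refine ⟨hf i v, fun h => ?_⟩
  have h1 := hf _ _ h
  have h2 : U33.sig s (U33.sig s i) = i := U33.tab_tab s i
  have h3 : mk (mC s) *ᵥ (((gA s : Sp) : Matrix _ _ (ZMod 2)) *ᵥ v) = v := by
    show mk (mC s) *ᵥ (mk (mC s) *ᵥ v) = v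
    rw [Matrix.mulVec_mulVec, a_a, Matrix.one_mulVec]
  rw [h3] at h1
  have h4 : On (U33.sig s (U33.sig s i)) v := h1
  rwa [h2] at h4

/-- the group generated by the four pairs -/
def S : Subgroup (Sp × Equiv.Perm (Fin 63)) := Subgroup.closure (Set.range fun s => (gA s, U33.sig s))

theorem S_le : S ≤ L := by
  unfold S
  rw [Subgroup.closure_le]
  rintro _ ⟨s, rfl⟩
  exact mem_L s

theorem fst_injective : Function.Injective ((MonoidHom.fst Sp (Equiv.Perm (Fin 63))).comp S.subtype) := by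
  rw [← MonoidHom.ker_eq_bot_iff, eq_bot_iff]
  rintro ⟨⟨g, σ⟩, hx⟩ h
  have hg : g = 1 := h
  subst hg
  have := fst_one (S_le hx)
  subst this
  rfl

theorem snd_injective : Function.Injective ((MonoidHom.snd Sp (Equiv.Perm (Fin 63))).comp S.subtype) := by
  rw [← MonoidHom.ker_eq_bot_iff, eq_bot_iff]
  rintro ⟨⟨g, σ⟩, hx⟩ h
  have hg : σ = 1 := h
  subst hg
  have := snd_one (S_le hx)
  subst this
  rfl

theorem snd_range : ((MonoidHom.snd Sp (Equiv.Perm (Fin 63))).comp S.subtype).range =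
    Subgroup.closure (Set.range U33.sig) := by
  rw [MonoidHom.range_comp, Subgroup.range_subtype]
  unfold S
  rw [MonoidHom.map_closure]
  congr 1
  ext σ
  constructor
  · rintro ⟨_, ⟨s, rfl⟩, rfl⟩
    exact ⟨s, rfl⟩
  · rintro ⟨s, rfl⟩
    exact ⟨_, ⟨s, rfl⟩, rfl⟩

theorem exists_hom : ∃ f : PSU 3 U33.K9 3 →* Sp, Function.Injective f := by
  obtain ⟨e⟩ := SporadicStructure.PsuMatch.psu_iso_closure_of_match (K := U33.K9) (X := Fin 63) (ι := Fin 4) (n := 3) (q := 3)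
    U33.card_k9 le_rfl U33.vec (fun i j c hc h => U33.vec_nonprop i j c hc h) U33.su U33.sig
    (fun j i => U33.su_mulVec j i) (by rw [HundredAbs.card_psu_three]; exact U33.card_closure_sig)
  let e1 : ↥S ≃* ↥((MonoidHom.snd Sp (Equiv.Perm (Fin 63))).comp S.subtype).range := MonoidHom.ofInjective snd_injective
  let e2 : PSU 3 U33.K9 3 ≃* ↥S := (e.trans (MulEquiv.subgroupCongr snd_range.symm)).trans e1.symm
  exact ⟨((MonoidHom.fst Sp (Equiv.Perm (Fin 63))).comp S.subtype).comp e2.toMonoidHom, fst_injective.comp e2.injective⟩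

theorem simple : IsSimpleGroup (PSU 3 U33.K9 3) :=
  S0283.result (by rw [U33.card_k9]; norm_num) 3 le_rfl (by norm_num)

theorem nc : ∃ a b : PSU 3 U33.K9 3, a * b ≠ b * a := by
  by_contra hcon
  push Not at hcon
  have hs := simple
  let _ : CommGroup (PSU 3 U33.K9 3) := { (inferInstance : Group (PSU 3 U33.K9 3)) with mul_comm := hcon }
  have hfin : Finite (PSU 3 U33.K9 3) := Nat.finite_of_card_ne_zero (by rw [HundredAbs.card_psu_three]; norm_num)
  have h1 := IsSimpleGroup.prime_card (α := PSU 3 U33.K9 3)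
  rw [HundredAbs.card_psu_three] at h1
  norm_num at h1

theorem exists_hom' : ∃ f : PSU 3 U33.K9 3 →* PSp 3 (ZMod 2), Function.Injective f := by
  obtain ⟨f, hf⟩ := exists_hom
  have hs := simple
  obtain ⟨a, b, hab⟩ := nc
  exact ⟨_, TS.Base.mk_injective hab f hf⟩

/-- **A5**: `U₃(3) ≤ Sp₆(2)` -/
theorem sub : Sub.{u} (.psp 3 2) (.psu 3 3) := by
  rintro X _ ⟨F, _, _, hF, ⟨e⟩⟩
  obtain ⟨f, hf⟩ := exists_hom'
  let σ : ZMod 2 ≃+* F := ZMod.ringEquivOfPrime F Nat.prime_two hF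
  let g : PSU 3 U33.K9 3 →* X :=
    (e.symm.toMonoidHom.comp (LieClassical.FieldTransfer.pspCongr 3 σ).toMonoidHom).comp f
  have hg : Function.Injective g := (e.symm.injective.comp (LieClassical.FieldTransfer.pspCongr 3 σ).injective).comp hf
  exact ⟨g.range, U33.K9, inferInstance, inferInstance, U33.card_k9', ⟨(MonoidHom.ofInjective hg).symm⟩⟩

end Cfsg.Agent.H860.TS.SpSix
end

-- part: H860/TS/OSeven
section
/-!
# `PSL₂(13)` is a subgroup of `Ω₇(3)` (helper860)

The matrices come from the extended quadratic residue code of length 14 over the field with three elements.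
-/

set_option autoImplicit false
set_option maxRecDepth 100000

namespace Cfsg.Agent.H860.TS.OSeven

open Matrix Cfsg Cfsg.Agent.OrdDiv Cfsg.Agent.H944.TS

universe u

/-- coordinates -/
def idx7 : Unit ⊕ (Fin 3 ⊕ Fin 3) → ℕ := Sum.elim (fun _ => 0) (Sum.elim (fun i => 1 + i.val) (fun i => 4 + i.val))

abbrev M := Matrix (Unit ⊕ (Fin 3 ⊕ Fin 3)) (Unit ⊕ (Fin 3 ⊕ Fin 3)) (ZMod 3)

/-- a packed matrix -/
def mk (T : ℕ) : M :=
  Matrix.of fun i j => ((T / 4 ^ (7 * idx7 i + idx7 j) % 4 : ℕ) : ZMod 3)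

/-- powers of the element of order 13 -/
def uL : List ℕ := [79229371458530977775699951617, 200010732226471764987199100057, 125534975260190426514793237058, 11245884051662664049752606729, 6815928592798977369391073945, 101634814564055474579971909142, 44575864958263457529836775702, 198160521031604760621050331410, 27705597654265859762026793030, 50859672836876172137667313921, 204885725986110018480637219985, 100621427183784851909175754818, 159719806729819568593988227073, 79229371458530977775699951617]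
/-- powers of the element of order 6 -/
def hL : List ℕ := [79229371458530977775699951617, 19895302248451676974277197826, 52465383158412372223926992897, 200004867146416273135484600322, 101820681947906951037554262017, 9915912548749709283409526786, 79229371458530977775699951617]
/-- the involution -/
def wC : ℕ := 2952314921062210442411119617

def uC (n : Fin 14) : ℕ := uL.getD n.val 0
def hC (n : Fin 7) : ℕ := hL.getD n.val 0

/-- the pairing of the coordinates -/
def sw : Unit ⊕ (Fin 3 ⊕ Fin 3) → Unit ⊕ (Fin 3 ⊕ Fin 3) :=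
  Sum.elim Sum.inl (Sum.elim (fun i => .inr (.inr i)) (fun i => .inr (.inl i)))

/-- the coefficients -/
def cc : Unit ⊕ (Fin 3 ⊕ Fin 3) → ZMod 3 := Sum.elim (fun _ => 2) (fun _ => 1)

/-- the polar form -/
def G : M := Matrix.of fun i j => if sw i = j then cc i else 0

theorem G_mulVec (v : Unit ⊕ (Fin 3 ⊕ Fin 3) → ZMod 3) (i : Unit ⊕ (Fin 3 ⊕ Fin 3)) : (G *ᵥ v) i = cc i * v (sw i) := by
  simp only [Matrix.mulVec, dotProduct, G, Matrix.of_apply, ite_mul, zero_mul]
  rw [Finset.sum_ite_eq Finset.univ (sw i) (fun j => cc i * v j), if_pos (Finset.mem_univ _)]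

theorem aux {R : Type*} [CommRing R] (h3 : (3 : R) = 0) (x S : R) : x ^ 2 + S = 2 * (x * (2 * x) + (S + S)) := by
  linear_combination (-(x ^ 2) - S) * h3

theorem G_form (v : Unit ⊕ (Fin 3 ⊕ Fin 3) → ZMod 3) : quadFormOdd 3 (ZMod 3) v = 2 * (v ⬝ᵥ G *ᵥ v) := by
  have h1 : v ⬝ᵥ G *ᵥ v = ∑ i, v i * (cc i * v (sw i)) := Finset.sum_congr rfl fun i _ => by rw [G_mulVec]
  rw [h1, Fintype.sum_sum_type, Fintype.sum_sum_type]
  simp only [quadFormOdd, cc, sw, Sum.elim_inl, Sum.elim_inr, Finset.univ_unique, Finset.sum_singleton, one_mul]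
  have h2 : ∑ i : Fin 3, v (.inr (.inr i)) * v (.inr (.inl i)) = ∑ i : Fin 3, v (.inr (.inl i)) * v (.inr (.inr i)) :=
    Finset.sum_congr rfl fun i _ => mul_comm _ _
  rw [h2]
  exact aux (by decide) _ _

theorem preserves {A : M} (hA : Aᵀ * G * A = G) (v : Unit ⊕ (Fin 3 ⊕ Fin 3) → ZMod 3) :
    quadFormOdd 3 (ZMod 3) (A *ᵥ v) = quadFormOdd 3 (ZMod 3) v := by
  have key : (A *ᵥ v) ⬝ᵥ (G *ᵥ (A *ᵥ v)) = v ⬝ᵥ (G *ᵥ v) := by
    conv_rhs => rw [← hA]
    rw [← Matrix.mulVec_mulVec, ← Matrix.mulVec_mulVec, Matrix.dotProduct_mulVec v, Matrix.vecMul_transpose]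
  rw [G_form, G_form, key]

theorem u_zero : mk (uC 0) = 1 := by decide +kernel
theorem u_last : mk (uC 13) = 1 := by decide +kernel
theorem h_zero : mk (hC 0) = 1 := by decide +kernel
theorem h_last : mk (hC 6) = 1 := by decide +kernel
private noncomputable def _root_.Cfsg.Agent.LsF.fdc16eb_36 : {f // @Cfsg.Agent.H860.TS.OSeven.idx7 = f} := ⟨_, by first | (delta Cfsg.Agent.H860.TS.OSeven.idx7; rewrite [Cfsg.Agent.LsF.nadd_pat]; exact rfl) | exact rfl⟩
private noncomputable def _root_.Cfsg.Agent.LsF.fdc16eb_37 : {f // @Cfsg.Agent.H860.TS.OSeven.mk = f} := ⟨_, by first | (delta Cfsg.Agent.H860.TS.OSeven.mk; rewrite [Cfsg.Agent.LsF.fdc16eb_36.2, Cfsg.Agent.LsF.mof_pat, Cfsg.Agent.LsF.nadd_pat, Cfsg.Agent.LsF.nmul_pat, Cfsg.Agent.LsF.ndiv_pat, Cfsg.Agent.LsF.nmod_pat, Cfsg.Agent.LsF.npow_pat, Cfsg.Agent.LsF.zcast_pat]; exact rfl) | exact rfl⟩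
private noncomputable def _root_.Cfsg.Agent.LsF.fdc16eb_38 : {f // @Cfsg.Agent.H860.TS.OSeven.uC = f} := ⟨_, by first | (delta Cfsg.Agent.H860.TS.OSeven.uC; rewrite [Cfsg.Agent.LsF.getD_eq]; exact rfl) | exact rfl⟩
private noncomputable def _root_.Cfsg.Agent.LsF.fdc16eb_39 : {f // @Fin.succ = f} := ⟨_, by first | (delta Fin.succ; (try delta Fin.succ.match_1); (try delta Fin.casesOn); exact rfl) | exact rfl⟩
theorem u_succ : ∀ n : Fin 13, mk (uC n.castSucc) * mk (uC 1) = mk (uC n.succ) := by (refine of_decide_eq_true ?_; (try (rewrite [Cfsg.Agent.LsF.fdc16eb_37.2, Cfsg.Agent.LsF.fdc16eb_38.2, Cfsg.Agent.LsF.fdc16eb_39.2, Cfsg.Agent.LsF.zdecEq_eq, Cfsg.Agent.LsF.finFintype_eq, Cfsg.Agent.LsF.dMat_eq, Cfsg.Agent.LsF.instMHMul_eq, Cfsg.Agent.LsF.instZMul_pat, Cfsg.Agent.LsF.zACM_pat, Cfsg.Agent.LsF.dForallFin_eq, Cfsg.Agent.LsF.decide_eq])); decide +kernel)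
private noncomputable def _root_.Cfsg.Agent.LsF.fdc16eb_40 : {f // @Cfsg.Agent.H860.TS.OSeven.hC = f} := ⟨_, by first | (delta Cfsg.Agent.H860.TS.OSeven.hC; rewrite [Cfsg.Agent.LsF.getD_eq]; exact rfl) | exact rfl⟩
theorem h_succ : ∀ n : Fin 6, mk (hC n.castSucc) * mk (hC 1) = mk (hC n.succ) := by (refine of_decide_eq_true ?_; (try (rewrite [Cfsg.Agent.LsF.fdc16eb_37.2, Cfsg.Agent.LsF.fdc16eb_40.2, Cfsg.Agent.LsF.fdc16eb_39.2, Cfsg.Agent.LsF.zdecEq_eq, Cfsg.Agent.LsF.finFintype_eq, Cfsg.Agent.LsF.dMat_eq, Cfsg.Agent.LsF.instMHMul_eq, Cfsg.Agent.LsF.instZMul_pat, Cfsg.Agent.LsF.zACM_pat, Cfsg.Agent.LsF.dForallFin_eq, Cfsg.Agent.LsF.decide_eq])); decide +kernel)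

theorem u_pw (n : ℕ) (h : n < 14) : mk (uC ⟨n, h⟩) = mk (uC 1) ^ n := by
  induction n with
  | zero => exact u_zero.trans (pow_zero _).symm
  | succ n ih =>
    rw [pow_succ, ← ih (by omega)]
    exact (u_succ ⟨n, by omega⟩).symm

theorem h_pw (n : ℕ) (h : n < 7) : mk (hC ⟨n, h⟩) = mk (hC 1) ^ n := by
  induction n with
  | zero => exact h_zero.trans (pow_zero _).symm
  | succ n ih =>
    rw [pow_succ, ← ih (by omega)]
    exact (h_succ ⟨n, by omega⟩).symm

theorem mem_pw {A : M} (h : Aᵀ * G * A = G) (n : ℕ) : (A ^ n)ᵀ * G * A ^ n = G := by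
  induction n with
  | zero => rw [pow_zero, Matrix.transpose_one, Matrix.one_mul, Matrix.mul_one]
  | succ n ih =>
    have e : (A ^ n * A)ᵀ * G * (A ^ n * A) = Aᵀ * ((A ^ n)ᵀ * G * A ^ n) * A := by
      rw [Matrix.transpose_mul]
      simp only [Matrix.mul_assoc]
    rw [pow_succ, e, ih, h]

theorem memU : ∀ n : Fin 14, (mk (uC n))ᵀ * G * mk (uC n) = G := fun n => by
  rw [show mk (uC n) = _ from u_pw n.1 n.2]
  exact mem_pw (by decide +kernel) _
theorem memH : ∀ n : Fin 7, (mk (hC n))ᵀ * G * mk (hC n) = G := fun n => by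
  rw [show mk (hC n) = _ from h_pw n.1 n.2]
  exact mem_pw (by decide +kernel) _
theorem memW : (mk wC)ᵀ * G * mk wC = G := by decide +kernel

theorem u_inv : ∀ n : Fin 14, mk (uC n) * mk (uC (Fin.rev n)) = 1 ∧ mk (uC (Fin.rev n)) * mk (uC n) = 1 := fun n => by
  have e : mk (uC 1) ^ 13 = 1 := (u_pw 13 (by decide)).symm.trans u_last
  have h := n.2
  rw [show mk (uC n) = _ from u_pw n.1 n.2, show mk (uC (Fin.rev n)) = _ from u_pw (Fin.rev n).1 (Fin.rev n).2,
    ← pow_add, ← pow_add, Fin.val_rev, show n.1 + (14 - (n.1 + 1)) = 13 by omega,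
    show 14 - (n.1 + 1) + n.1 = 13 by omega]
  exact ⟨e, e⟩
theorem h_inv : ∀ n : Fin 7, mk (hC n) * mk (hC (Fin.rev n)) = 1 ∧ mk (hC (Fin.rev n)) * mk (hC n) = 1 := fun n => by
  have e : mk (hC 1) ^ 6 = 1 := (h_pw 6 (by decide)).symm.trans h_last
  have h := n.2
  rw [show mk (hC n) = _ from h_pw n.1 n.2, show mk (hC (Fin.rev n)) = _ from h_pw (Fin.rev n).1 (Fin.rev n).2,
    ← pow_add, ← pow_add, Fin.val_rev, show n.1 + (7 - (n.1 + 1)) = 6 by omega,
    show 7 - (n.1 + 1) + n.1 = 6 by omega]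
  exact ⟨e, e⟩
theorem w_w : mk wC * mk wC = 1 := by decide +kernel

/-- the isometry group -/
abbrev O7 := ↥(isometryGroup (ZMod 3) (quadFormOdd 3 (ZMod 3)))

def gU (n : Fin 14) : O7 := ⟨⟨mk (uC n), mk (uC (Fin.rev n)), (u_inv n).1, (u_inv n).2⟩, fun v _ => preserves (memU n) v⟩
def gH (n : Fin 7) : O7 := ⟨⟨mk (hC n), mk (hC (Fin.rev n)), (h_inv n).1, (h_inv n).2⟩, fun v _ => preserves (memH n) v⟩
def gW : O7 := ⟨⟨mk wC, mk wC, w_w, w_w⟩, fun v _ => preserves memW v⟩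

theorem ext' {a b : O7} (h : (a.1.1 : M) = b.1.1) : a = b := Subtype.ext (Units.ext h)

theorem u_ne : mk (uC 1) ≠ 1 := by decide +kernel
theorem h_u : mk (hC 1) * mk (uC 1) = mk (uC 4) * mk (hC 1) := by decide +kernel
theorem wh : mk wC * mk (hC 1) * (mk wC * mk (hC 1)) = 1 := by (refine of_decide_eq_true ?_; (try (rewrite [Cfsg.Agent.LsF.fdc16eb_37.2, Cfsg.Agent.LsF.fdc16eb_40.2, Cfsg.Agent.LsF.zdecEq_eq, Cfsg.Agent.LsF.finFintype_eq, Cfsg.Agent.LsF.dMat_eq, Cfsg.Agent.LsF.instMHMul_eq, Cfsg.Agent.LsF.instMOne_eq, Cfsg.Agent.LsF.instZMul_pat, Cfsg.Agent.LsF.zACM_pat, Cfsg.Agent.LsF.dFinEq_eq, Cfsg.Agent.LsF.decide_eq])); decide +kernel)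
theorem wu : mk wC * mk (uC 1) * (mk wC * mk (uC 1)) * (mk wC * mk (uC 1)) = 1 := by (refine of_decide_eq_true ?_; (try (rewrite [Cfsg.Agent.LsF.fdc16eb_37.2, Cfsg.Agent.LsF.fdc16eb_38.2, Cfsg.Agent.LsF.zdecEq_eq, Cfsg.Agent.LsF.finFintype_eq, Cfsg.Agent.LsF.dMat_eq, Cfsg.Agent.LsF.instMHMul_eq, Cfsg.Agent.LsF.instMOne_eq, Cfsg.Agent.LsF.instZMul_pat, Cfsg.Agent.LsF.zACM_pat, Cfsg.Agent.LsF.dFinEq_eq, Cfsg.Agent.LsF.decide_eq])); decide +kernel)
theorem wuk : mk wC * mk (uC 2) * mk wC = mk (uC 6) * mk wC * mk (hC 1) * mk (uC 6) := by (refine of_decide_eq_true ?_; (try (rewrite [Cfsg.Agent.LsF.fdc16eb_37.2, Cfsg.Agent.LsF.fdc16eb_38.2, Cfsg.Agent.LsF.fdc16eb_40.2, Cfsg.Agent.LsF.zdecEq_eq, Cfsg.Agent.LsF.finFintype_eq, Cfsg.Agent.LsF.dMat_eq, Cfsg.Agent.LsF.instMHMul_eq, Cfsg.Agent.LsF.instZMul_pat, Cfsg.Agent.LsF.zACM_pat, Cfsg.Agent.LsF.decide_eq])); decide +kernel)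

theorem gU_pow : ∀ n : ℕ, (hn : n < 14) → gU 1 ^ n = gU ⟨n, hn⟩ := by
  intro n
  induction n with
  | zero => intro _; rw [pow_zero]; exact ext' u_zero.symm
  | succ n ih =>
    intro hn
    rw [pow_succ, ih (by omega)]
    exact ext' (u_succ ⟨n, by omega⟩)

theorem gH_pow : ∀ n : ℕ, (hn : n < 7) → gH 1 ^ n = gH ⟨n, hn⟩ := by
  intro n
  induction n with
  | zero => intro _; rw [pow_zero]; exact ext' h_zero.symm
  | succ n ih =>
    intro hn
    rw [pow_succ, ih (by omega)]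
    exact ext' (h_succ ⟨n, by omega⟩)

instance fact13 : Fact (Nat.Prime 13) := ⟨by norm_num⟩

theorem exists_hom : ∃ f : ProjectiveSpecialLinearGroup (Fin 2) (ZMod 13) →* O7, Function.Injective f := by
  refine TS.Base.exists_hom (p := 13) (gU 1) (gH 1) gW 2 6 ?_ (by decide) (by norm_num) (by decide) ?_ ?_ ?_ ?_ ?_ ?_ ?_ ?_
  · have h : ∀ a : ZMod 13, a ≠ 0 → ∃ n : Fin 12, a = ((2 : ℕ) : ZMod 13) ^ n.val := by decide +kernel
    intro a ha
    obtain ⟨n, hn⟩ := h a ha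
    exact ⟨n.val, hn⟩
  · rw [gU_pow 13 (by norm_num)]
    exact ext' u_last
  · rw [gH_pow ((13 - 1) / 2) (by norm_num)]
    exact ext' h_last
  · rw [gU_pow (2 * 2) (by norm_num)]
    exact ext' h_u
  · exact ext' w_w
  · exact ext' wh
  · exact ext' wu
  · rw [gU_pow 2 (by norm_num), gU_pow 6 (by norm_num)]
    exact ext' wuk
  · intro h
    exact u_ne (congrArg (fun a : O7 => (a.1.1 : M)) h)

theorem exists_hom' : ∃ f : ProjectiveSpecialLinearGroup (Fin 2) (ZMod 13) →* POmega (ZMod 3) (quadFormOdd 3 (ZMod 3)),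
    Function.Injective f := by
  obtain ⟨f, hf⟩ := exists_hom
  have hc : 3 < Fintype.card (ZMod 13) := by rw [ZMod.card]; norm_num
  have hs : IsSimpleGroup (ProjectiveSpecialLinearGroup (Fin 2) (ZMod 13)) := TwoFusion.SLTwoFacts.isSimpleGroup_psl hc
  obtain ⟨a, b, hab⟩ := TS.Base.psl_nc (F := ZMod 13) hc
  obtain ⟨g, hg⟩ := TS.Base.exists_commutator (TS.Base.psl_perfect hc) f hf
  exact ⟨_, TS.Base.mk_injective hab g hg⟩

/-- **A7**: `L₂(13) ≤ Ω₇(3)` -/
theorem sub : Sub.{u} (.oodd 3 3) (.psl 2 13) := by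
  rintro X _ ⟨F, _, _, hF, ⟨e⟩⟩
  obtain ⟨f, hf⟩ := exists_hom'
  obtain ⟨e'⟩ := Cfsg.Agent.UGT.U2.Rec.Congr.nonempty_POmegaOdd (ZMod.ringEquivOfPrime F Nat.prime_three hF) 3
  let g : ProjectiveSpecialLinearGroup (Fin 2) (ZMod 13) →* X :=
    (e.symm.toMonoidHom.comp e'.toMonoidHom).comp f
  have hg : Function.Injective g := (e.symm.injective.comp e'.injective).comp hf
  exact ⟨g.range, ZMod 13, inferInstance, inferInstance, ZMod.card 13, ⟨(MonoidHom.ofInjective hg).symm⟩⟩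

end Cfsg.Agent.H860.TS.OSeven
end

-- part: H958/TS/BFour
section
/-!
# The subsystem `B₄` of the relative root system `F₄` of `²E₆(q)` (S5741, TEAM EXCSUB, helper958)

Base `(-ρ, α₀, α₁, α₂)`; a root `z` of `F₄` lies in it iff `z 3` is even.
-/

set_option autoImplicit false
set_option linter.unusedSectionVars false

namespace Cfsg.Agent.H958.TS.BFour

open CoxeterSystem Cfsg.Agent.ChevalleyStructure.CoxeterGeom Cfsg.Agent.Tits.Roots Cfsg.Agent.Tits.Core
  Cfsg.Agent.Nodes.Reps Cfsg.Agent.Nodes.BNOf Cfsg.Agent.Nodes.RGDTwE6 Cfsg.Agent.Nodes.SubComb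
  Cfsg.Agent.KFacts.TwESix.Comb

set_option backward.isDefEq.respectTransparency false in
/-- the Coxeter matrix of type `B₄` -/
def MB : CoxeterMatrix (Fin 4) where
  M := !![1, 3, 2, 2;
          3, 1, 3, 2;
          2, 3, 1, 4;
          2, 2, 4, 1]

/-- the Cartan matrix of type `B₄`, node `3` short -/
def A4 : Fin 4 → Fin 4 → ℤ := ![![2, -1, 0, 0], ![-1, 2, -1, 0], ![0, -1, 2, -1], ![0, 0, -2, 2]]

set_option backward.isDefEq.respectTransparency false in
theorem isCartan4 : IsCartan MB A4 := by constructor <;> decide +kernel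

/-- the base -/
def β : Fin 4 → Fin 4 → ℤ := ![-rho, sr 0, sr 1, sr 2]

theorem iota_eq (c : Fin 4 → ℤ) :
    iota β c = ![c 1 - 2 * c 0, c 2 - 3 * c 0, c 3 - 4 * c 0, -2 * c 0] := by
  rw [iota_apply, Fin.sum_univ_four]
  have h0 : β 0 = ![-2, -3, -4, -2] := by decide
  have h1 : β 1 = ![1, 0, 0, 0] := by decide
  have h2 : β 2 = ![0, 1, 0, 0] := by decide
  have h3 : β 3 = ![0, 0, 1, 0] := by decide
  rw [h0, h1, h2, h3]
  funext k
  (revert k; simp only [_root_.Fin.forall_fin_succ, Fin.isValue, _root_.Nat.succ_eq_add_one, Nat.reduceAdd, Int.reduceNeg, _root_.Matrix.smul_cons, _root_.Int.zsmul_eq_mul, _root_.mul_neg, _root_.Matrix.smul_empty, _root_.mul_one, _root_.MulZeroClass.mul_zero, _root_.Matrix.add_cons, _root_.Matrix.head_cons, _root_.Matrix.tail_cons, _root_.add_zero, _root_.Matrix.empty_add_empty, _root_.Pi.add_apply, _root_.neg_mul, _root_.Matrix.cons_val_zero, _root_.Matrix.cons_val_succ, _root_.Matrix.cons_val_fin_one,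 _root_.neg_inj, _root_.forall_const]) <;> (repeat' with_reducible apply And.intro) <;> ring

/-- the coordinates -/
def κ (z : Fin 4 → ℤ) : Fin 4 → ℤ := ![-(z 3 / 2), z 0 - z 3, z 1 - 3 * (z 3 / 2), z 2 - 2 * z 3]

theorem κ_iota (c : Fin 4 → ℤ) : κ (iota β c) = c := by
  rw [iota_eq]
  funext k
  fin_cases k
  · simp only [κ, _root_.Nat.succ_eq_add_one, _root_.Nat.reduceAdd, _root_.Fin.isValue, _root_.Int.reduceNeg, _root_.neg_mul, _root_.Matrix.cons_val, _root_.Matrix.cons_val_zero, _root_.sub_neg_eq_add, _root_.sub_add_cancel, _root_.Matrix.cons_val_one, _root_.mul_neg, _root_.Fin.zero_eta]; omega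
  · simp only [κ, _root_.Nat.succ_eq_add_one, _root_.Nat.reduceAdd, _root_.Fin.isValue, _root_.Int.reduceNeg, _root_.neg_mul, _root_.Matrix.cons_val, _root_.Matrix.cons_val_zero, _root_.sub_neg_eq_add, _root_.sub_add_cancel, _root_.Matrix.cons_val_one, _root_.mul_neg, _root_.Fin.mk_one]
  · simp only [κ, _root_.Nat.succ_eq_add_one, _root_.Nat.reduceAdd, _root_.Fin.isValue, _root_.Int.reduceNeg, _root_.neg_mul, _root_.Matrix.cons_val, _root_.Matrix.cons_val_zero, _root_.sub_neg_eq_add, _root_.sub_add_cancel, _root_.Matrix.cons_val_one, _root_.mul_neg, _root_.Fin.reduceFinMk]; omega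
  · simp only [κ, _root_.Nat.succ_eq_add_one, _root_.Nat.reduceAdd, _root_.Fin.isValue, _root_.Int.reduceNeg, _root_.neg_mul, _root_.Matrix.cons_val, _root_.Matrix.cons_val_zero, _root_.sub_neg_eq_add, _root_.sub_add_cancel, _root_.Matrix.cons_val_one, _root_.mul_neg, _root_.Fin.reduceFinMk]; ring

theorem iota_κ {z : Fin 4 → ℤ} (hz : z 3 % 2 = 0) : iota β (κ z) = z := by
  rw [iota_eq]
  funext k
  fin_cases k
  · simp [κ]; omega
  · simp [κ]
  · simp [κ]; omega
  · simp [κ]; omega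

theorem even_iota (c : Fin 4 → ℤ) : iota β c 3 % 2 = 0 := by
  rw [iota_eq]
  simp

variable {W : Type*} [Group W] (cs : CoxeterSystem CoxeterMatrix.F₄ W)

theorem sign_rts : ∀ z ∈ rts, z 3 % 2 = 0 → (∀ i, 0 ≤ κ z i) ∨ (∀ i, κ z i ≤ 0) := by decide +kernel

theorem hbase (c : Fin 4 → ℤ) (hc : IsRoot cs isCartan (iota β c)) : 0 ≤ c ∨ c ≤ 0 := by
  have h1 := sign_rts _ ((mem_rts cs).1 hc) (even_iota c)
  rw [κ_iota] at h1
  exact h1

/-- the reflections -/
def ii : Fin 4 → Fin 4 := ![0, 0, 1, 2]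

theorem exists_subSys : ∃ w : Fin 4 → W, SubSys cs isCartan A4 β w ii := by
  obtain ⟨v, hv⟩ := exists_rep_long cs (x := -rho) (rho_root cs).neg
    (by rw [bf_neg_left, bf_neg_right, neg_neg]; exact rho_long)
  refine ⟨![v, 1, 1, 1], fun j => ?_, fun j k => ?_, fun c hc => ?_⟩
  · fin_cases j
    · exact hv.symm
    · show sr 0 = rep cs isCartan 1 (sr 0)
      rw [map_one, Module.End.one_apply]
    · show sr 1 = rep cs isCartan 1 (sr 1)
      rw [map_one, Module.End.one_apply]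
    · show sr 2 = rep cs isCartan 1 (sr 2)
      rw [map_one, Module.End.one_apply]
  · have h0 : ∀ k, pairing A 0 (rep cs isCartan v⁻¹ (β k)) = A4 0 k := by
      intro k
      have h1 := two_bf_sr (rep cs isCartan v⁻¹ (β k)) 0
      rw [sr_norm.1, bf_comm, ← bf_rep_left, hv] at h1
      have h2 : ∀ k : Fin 4, 2 * bf (-rho) (β k) = A4 0 k * 4 := by decide +kernel
      rw [h2 k] at h1
      omega
    have h1 : ∀ j : Fin 4, j ≠ 0 → ∀ k, pairing A (ii j) (β k) = A4 j k := by decide +kernel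
    rcases eq_or_ne j 0 with rfl | hj
    · exact h0 k
    · have h2 : (![v, 1, 1, 1] : Fin 4 → W) j = 1 := by
        fin_cases j
        · exact absurd rfl hj
        · rfl
        · rfl
        · rfl
      rw [h2, inv_one, map_one, Module.End.one_apply]
      exact h1 j hj k
  · rw [← κ_iota c, hc]
    funext k
    (revert k; simp only [κ, _root_.Fin.forall_fin_succ, _root_.Pi.zero_apply, _root_.EuclideanDomain.zero_div, _root_.neg_zero, _root_.sub_self, _root_.MulZeroClass.mul_zero, Fin.isValue, _root_.Matrix.cons_val_zero, _root_.Matrix.cons_val_succ, _root_.Matrix.cons_val_fin_one, _root_.implies_true, _root_.and_self])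

/-! ### The roots -/

/-- the positive roots of `B₄` -/
def pos : Finset (Fin 4 → ℤ) :=
  ((rts.filter fun z => decide (z 3 % 2 = 0 ∧ ∀ i, 0 ≤ κ z i)).map κ).toFinset

variable {W' : Type*} [Group W'] (cs' : CoxeterSystem MB W')

theorem isRoot_iff (cs : CoxeterSystem CoxeterMatrix.F₄ W) (c : Fin 4 → ℤ) :
    IsRoot cs' isCartan4 c ↔ iota β c ∈ rts := by
  obtain ⟨w, S⟩ := exists_subSys cs
  have : Finite W := finiteW cs
  rw [← mem_rts cs]
  exact ⟨fun h => S.isRoot_iota h, fun h => S.isRoot_of_iota cs' isCartan4 (hbase cs) h⟩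

theorem coe_pos : (pos : Set (Fin 4 → ℤ)) = RGD.Pos cs' isCartan4 := by
  ext c
  have h1 := isRoot_iff cs' (CoxeterMatrix.F₄.toCoxeterSystem) c
  rw [Finset.mem_coe, pos, List.mem_toFinset, List.mem_map]
  constructor
  · rintro ⟨z, hz, rfl⟩
    rw [List.mem_filter, decide_eq_true_eq] at hz
    obtain ⟨hz, he, hp⟩ := hz
    refine ⟨(isRoot_iff cs' (CoxeterMatrix.F₄.toCoxeterSystem) _).2 ?_, hp⟩
    rw [iota_κ he]; exact hz
  · rintro ⟨hc, hp⟩
    refine ⟨iota β c, List.mem_filter.2 ⟨h1.1 hc, ?_⟩, κ_iota c⟩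
    rw [decide_eq_true_eq, κ_iota]
    exact ⟨even_iota c, hp⟩

theorem prod_pos : ∏ c ∈ pos, (if bf (iota β c) (iota β c) = 4 then 2 else 4) = 2 ^ 20 := by decide +kernel

private noncomputable def _root_.Cfsg.Agent.LsF.fdc16eb_41 : {f // @Cfsg.Agent.KFacts.TwESix.Comb.rts = f} := ⟨_, by first | (delta Cfsg.Agent.KFacts.TwESix.Comb.rts; rewrite [Cfsg.Agent.LsF.ineg_pat, Cfsg.Agent.LsF.vecCons_eq]; exact rfl) | exact rfl⟩
private noncomputable def _root_.Cfsg.Agent.LsF.fdc16eb_42 : {f // @Cfsg.Agent.KFacts.TwESix.Comb.bf = f} := ⟨_, by first | (delta Cfsg.Agent.KFacts.TwESix.Comb.bf; rewrite [Cfsg.Agent.LsF.iadd_pat, Cfsg.Agent.LsF.imul_pat, Cfsg.Agent.LsF.isub_pat]; exact rfl) | exact rfl⟩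
/-- a long root of `B₄` is a sum of two long roots at `120` degrees -/
theorem long_sum : ∀ z ∈ rts, z 3 % 2 = 0 → bf z z = 4 → ∃ x ∈ rts, ∃ y ∈ rts, x 3 % 2 = 0 ∧ y 3 % 2 = 0 ∧
    bf x x = 4 ∧ bf y y = 4 ∧ bf x y = -2 ∧ x + y = z := by (set_option synthInstance.maxSize 20000 in open scoped Cfsg.Agent.Lib.MatDec in (refine of_decide_eq_true ?_; (try (rewrite [Cfsg.Agent.LsF.padd_pat, Cfsg.Agent.LsF.dPiF_pat, Cfsg.Agent.LsF.fdc16eb_41.2, Cfsg.Agent.LsF.fdc16eb_42.2, Cfsg.Agent.LsF.iadd_pat, Cfsg.Agent.LsF.imod_pat, Cfsg.Agent.LsF.ineg_pat, Cfsg.Agent.LsF.instIDecEq_eq, Cfsg.Agent.LsF.dAnd_eq, Cfsg.Agent.LsF.dAllP_eq, Cfsg.Agent.LsF.decide_eq])); decide +kernel))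

/-- a short root of `B₄` is a sum of a long and a short root -/
theorem short_sum : ∀ z ∈ rts, z 3 % 2 = 0 → bf z z = 2 → ∃ x ∈ rts, ∃ y ∈ rts, x 3 % 2 = 0 ∧ y 3 % 2 = 0 ∧
    bf x x = 4 ∧ bf y y = 2 ∧ x + y = z := by (set_option synthInstance.maxSize 20000 in open scoped Cfsg.Agent.Lib.MatDec in (refine of_decide_eq_true ?_; (try (rewrite [Cfsg.Agent.LsF.padd_pat, Cfsg.Agent.LsF.dPiF_pat, Cfsg.Agent.LsF.fdc16eb_41.2, Cfsg.Agent.LsF.fdc16eb_42.2, Cfsg.Agent.LsF.iadd_pat, Cfsg.Agent.LsF.imod_pat, Cfsg.Agent.LsF.instIDecEq_eq, Cfsg.Agent.LsF.dAnd_eq, Cfsg.Agent.LsF.dAllP_eq, Cfsg.Agent.LsF.decide_eq])); decide +kernel))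

set_option backward.isDefEq.respectTransparency false in
theorem conn_bool : ∀ f : Fin 4 → Bool, (∃ a, f a = true) → (∃ a, f a = false) →
      ∃ a, f a = true ∧ ∃ b, f b = false ∧ MB.M a b ≠ 2 := by decide +kernel

theorem conn : ∀ J : Set (Fin 4), J.Nonempty → J ≠ Set.univ →
    ∃ a ∈ J, ∃ b, b ∉ J ∧ MB a b ≠ 2 := by
  classical
  intro J hJ hJ'
  by_contra hcon
  push Not at hcon
  obtain ⟨a, ha⟩ := hJ
  obtain ⟨b, hb⟩ := (Set.ne_univ_iff_exists_notMem J).1 hJ'
  obtain ⟨x, hx, y, hy, hxy⟩ := conn_bool (fun a => decide (a ∈ J)) ⟨a, by simpa using ha⟩ ⟨b, by simpa using hb⟩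
  exact hxy (hcon x (by simpa using hx) y (by simpa using hy))

end Cfsg.Agent.H958.TS.BFour
end

-- part: H958/TS/OrdLie
section
/-!
# The divisibility order engine for groups of Lie type (S5741, TEAM EXCSUB, helper958)

`exists_good_char` : `OrdDiv.exists_good` for `IsLieTypeChar p S`, without the sporadic groups.
-/

set_option autoImplicit false

namespace Cfsg.Agent.H958.TS

open Cfsg Cfsg.Agent.OrdDiv

universe u

/-- **The engine for groups of Lie type.** -/
theorem exists_good_char {p : ℕ} {S : Type u} [Group S] (h : IsLieTypeChar p S)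
    {l : List (ℕ × ℕ)} {N : ℕ} (hv : valid l N = true) (hd : Nat.card S ∣ N) : Good l N S := by
  rcases h with h | h | h | h | h | h | h | h | h | h | h
  · obtain ⟨F, _, _, _, n, hn, hn2, ⟨e⟩⟩ := h
    rw [Nat.card_congr e.toEquiv] at hd
    obtain ⟨h1, h2⟩ := psl_mem hv hn hn2 hd
    exact ⟨.psl n (Fintype.card F), mem_cands 1 (List.mem_map.2 ⟨_, h1, rfl⟩),
      ⟨F, inferInstance, inferInstance, rfl, ⟨e⟩⟩, (Nat.card_congr e.toEquiv).trans h2⟩
  · obtain ⟨F, _, _, _, n, hn, hn2, ⟨e⟩⟩ := h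
    rw [Nat.card_congr e.toEquiv] at hd
    obtain ⟨h1, h2⟩ := psp_mem hv hn hn2 hd
    exact ⟨.psp n (Fintype.card F), mem_cands 2 (List.mem_map.2 ⟨_, h1, rfl⟩),
      ⟨F, inferInstance, inferInstance, rfl, ⟨e⟩⟩, (Nat.card_congr e.toEquiv).trans h2⟩
  · obtain ⟨F, _, _, _, n, q, hF, hn, hn2, ⟨e⟩⟩ := h
    rw [Nat.card_congr e.toEquiv] at hd
    obtain ⟨h1, h2⟩ := psu_mem hv hF hn hn2 hd
    exact ⟨.psu n q, mem_cands 3 (List.mem_map.2 ⟨_, h1, rfl⟩),
      ⟨F, inferInstance, inferInstance, hF, ⟨e⟩⟩, (Nat.card_congr e.toEquiv).trans h2⟩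
  · obtain ⟨F, _, _, _, n, hn, ho, ⟨e⟩⟩ := h
    rw [Nat.card_congr e.toEquiv] at hd
    obtain ⟨h1, h2⟩ := oodd_mem hv hn ho hd
    exact ⟨.oodd n (Fintype.card F), mem_cands 4 (List.mem_map.2 ⟨_, h1, rfl⟩),
      ⟨F, inferInstance, inferInstance, rfl, ⟨e⟩⟩, (Nat.card_congr e.toEquiv).trans h2⟩
  · obtain ⟨F, _, _, _, n, hn, ⟨e⟩⟩ := h
    rw [Nat.card_congr e.toEquiv] at hd
    obtain ⟨h1, h2⟩ := oplus_mem hv hn hd
    exact ⟨.oplus n (Fintype.card F), mem_cands 5 (List.mem_map.2 ⟨_, h1, rfl⟩),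
      ⟨F, inferInstance, inferInstance, rfl, ⟨e⟩⟩, (Nat.card_congr e.toEquiv).trans h2⟩
  · obtain ⟨F, _, _, _, n, a, b, hn, hab, ⟨e⟩⟩ := h
    rw [Nat.card_congr e.toEquiv] at hd
    obtain ⟨h1, h2⟩ := ominus_mem hv hn hab hd
    exact ⟨.ominus n (Fintype.card F), mem_cands 6 (List.mem_map.2 ⟨_, h1, rfl⟩),
      ⟨F, inferInstance, inferInstance, a, b, rfl, hab, ⟨e⟩⟩, (Nat.card_congr e.toEquiv).trans h2⟩
  · obtain ⟨F, _, _, _, h⟩ := h
    rcases h with ⟨hq, ⟨e⟩⟩ | ⟨⟨e⟩⟩ | ⟨⟨e⟩⟩ | ⟨⟨e⟩⟩ | ⟨⟨e⟩⟩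
    · rw [Nat.card_congr e.toEquiv] at hd
      obtain ⟨h1, h2⟩ : (0, Fintype.card F) ∈ cand l N fG2 ∧ _ :=
        one_mem hv (by norm_num) Fintype.isPrimePow_card_of_field (by rw [Nat.ble_eq]; exact hq)
          (by rw [S1059.result (F := F) rfl]; ring) (Nat.coprime_one_left _) hd
      exact ⟨.g2 (Fintype.card F), mem_cands 7 (List.mem_map.2 ⟨_, h1, rfl⟩),
        ⟨F, inferInstance, inferInstance, rfl, ⟨e⟩⟩, (Nat.card_congr e.toEquiv).trans h2⟩
    · rw [Nat.card_congr e.toEquiv] at hd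
      obtain ⟨h1, h2⟩ : (0, Fintype.card F) ∈ cand l N fF4 ∧ _ :=
        one_mem hv (by norm_num) Fintype.isPrimePow_card_of_field rfl
          (by rw [S1062.result (F := F) rfl]; ring) (Nat.coprime_one_left _) hd
      exact ⟨.f4 (Fintype.card F), mem_cands 8 (List.mem_map.2 ⟨_, h1, rfl⟩),
        ⟨F, inferInstance, inferInstance, rfl, ⟨e⟩⟩, (Nat.card_congr e.toEquiv).trans h2⟩
    · rw [Nat.card_congr e.toEquiv] at hd
      have h0 := cop_sub (q := Fintype.card F) (k := 1) Fintype.card_pos le_rfl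
      rw [pow_one] at h0
      obtain ⟨h1, h2⟩ : (0, Fintype.card F) ∈ cand l N fE6 ∧ _ :=
        one_mem hv (by norm_num) Fintype.isPrimePow_card_of_field rfl
          (by rw [S1063.result (F := F) rfl]; ring) (Nat.Coprime.coprime_dvd_left (Nat.gcd_dvd_right _ _) h0) hd
      exact ⟨.e6 (Fintype.card F), mem_cands 9 (List.mem_map.2 ⟨_, h1, rfl⟩),
        ⟨F, inferInstance, inferInstance, rfl, ⟨e⟩⟩, (Nat.card_congr e.toEquiv).trans h2⟩
    · rw [Nat.card_congr e.toEquiv] at hd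
      have h0 := cop_sub (q := Fintype.card F) (k := 1) Fintype.card_pos le_rfl
      rw [pow_one] at h0
      obtain ⟨h1, h2⟩ : (0, Fintype.card F) ∈ cand l N fE7 ∧ _ :=
        one_mem hv (by norm_num) Fintype.isPrimePow_card_of_field rfl
          (by rw [S1064.result (F := F) rfl]; ring) (Nat.Coprime.coprime_dvd_left (Nat.gcd_dvd_right _ _) h0) hd
      exact ⟨.e7 (Fintype.card F), mem_cands 10 (List.mem_map.2 ⟨_, h1, rfl⟩),
        ⟨F, inferInstance, inferInstance, rfl, ⟨e⟩⟩, (Nat.card_congr e.toEquiv).trans h2⟩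
    · rw [Nat.card_congr e.toEquiv] at hd
      obtain ⟨h1, h2⟩ : (0, Fintype.card F) ∈ cand l N fE8 ∧ _ :=
        one_mem hv (by norm_num) Fintype.isPrimePow_card_of_field rfl
          (by rw [S1065.result (F := F) rfl]; ring) (Nat.coprime_one_left _) hd
      exact ⟨.e8 (Fintype.card F), mem_cands 11 (List.mem_map.2 ⟨_, h1, rfl⟩),
        ⟨F, inferInstance, inferInstance, rfl, ⟨e⟩⟩, (Nat.card_congr e.toEquiv).trans h2⟩
  · obtain ⟨F, _, _, _, q, hq, h⟩ := h
    rcases h with ⟨hF, ⟨e⟩⟩ | ⟨hF, ⟨e⟩⟩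
    · rw [Nat.card_congr e.toEquiv] at hd
      have h0 := cop_add (q := q) (k := 1) le_rfl
      rw [pow_one] at h0
      obtain ⟨h1, h2⟩ : (0, q) ∈ cand l N fTE6 ∧ _ :=
        one_mem hv (by norm_num) hq rfl
          (by rw [S1066.result hq hF]; ring) (Nat.Coprime.coprime_dvd_left (Nat.gcd_dvd_right _ _) h0) hd
      exact ⟨.te6 q, mem_cands 12 (List.mem_map.2 ⟨_, h1, rfl⟩),
        ⟨F, inferInstance, inferInstance, hF, ⟨e⟩⟩, (Nat.card_congr e.toEquiv).trans h2⟩
    · rw [Nat.card_congr e.toEquiv] at hd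
      obtain ⟨h1, h2⟩ : (0, q) ∈ cand l N fTD4 ∧ _ :=
        one_mem hv (by norm_num) hq rfl (by rw [S1067.result hq hF]; ring) (Nat.coprime_one_left _) hd
      exact ⟨.td4 q, mem_cands 13 (List.mem_map.2 ⟨_, h1, rfl⟩),
        ⟨F, inferInstance, inferInstance, hF, ⟨e⟩⟩, (Nat.card_congr e.toEquiv).trans h2⟩
  · obtain ⟨-, F, _, _, m, hm, hF, ⟨e⟩⟩ := h
    rw [Nat.card_congr e.toEquiv] at hd
    obtain ⟨h1, h2⟩ : (0, 2 ^ (2 * m + 1)) ∈ cand l N fSz ∧ _ :=
      one_mem hv (by norm_num) (Nat.prime_two.isPrimePow.pow (by omega)) (ok_two hm)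
        (by rw [(S1163.result (F := F) hm hF).1]; ring) (Nat.coprime_one_left _) hd
    exact ⟨.sz (2 ^ (2 * m + 1)), mem_cands 14 (List.mem_map.2 ⟨_, h1, rfl⟩),
      ⟨F, inferInstance, inferInstance, m, hm, hF, rfl, ⟨e⟩⟩, (Nat.card_congr e.toEquiv).trans h2⟩
  · obtain ⟨-, F, _, _, m, hm, hF, ⟨e⟩⟩ := h
    rw [Nat.card_congr e.toEquiv] at hd
    obtain ⟨h1, h2⟩ : (0, 2 ^ (2 * m + 1)) ∈ cand l N fTF4 ∧ _ :=
      one_mem hv (by norm_num) (Nat.prime_two.isPrimePow.pow (by omega)) (ok_two hm)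
        (by rw [S1068.result (K := F) hF]; ring) (Nat.coprime_one_left _) hd
    exact ⟨.tf4 (2 ^ (2 * m + 1)), mem_cands 16 (List.mem_map.2 ⟨_, h1, rfl⟩),
      ⟨F, inferInstance, inferInstance, m, hm, hF, rfl, ⟨e⟩⟩, (Nat.card_congr e.toEquiv).trans h2⟩
  · obtain ⟨-, F, _, _, m, hm, hF, ⟨e⟩⟩ := h
    rw [Nat.card_congr e.toEquiv] at hd
    obtain ⟨h1, h2⟩ : (0, 3 ^ (2 * m + 1)) ∈ cand l N fRee ∧ _ :=
      one_mem hv (by norm_num) (Nat.prime_three.isPrimePow.pow (by omega)) (ok_three hm)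
        (by rw [S1069.result (K := F) hF]; ring) (Nat.coprime_one_left _) hd
    exact ⟨.ree (3 ^ (2 * m + 1)), mem_cands 15 (List.mem_map.2 ⟨_, h1, rfl⟩),
      ⟨F, inferInstance, inferInstance, m, hm, hF, rfl, ⟨e⟩⟩, (Nat.card_congr e.toEquiv).trans h2⟩

/-- the version with a condition on the order -/
theorem exists_real_char {p : ℕ} {S : Type u} [Group S] (h : IsLieTypeChar p S)
    {l : List (ℕ × ℕ)} {N : ℕ} (hv : valid l N = true) (hd : Nat.card S ∣ N) (P : ℕ → Bool)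
    (hP : P (Nat.card S) = true) : ∃ g ∈ (cands l N).filter (fun g => P (ordN g)), Real g S := by
  obtain ⟨g, h1, h2, h3⟩ := exists_good_char h hv hd
  exact ⟨g, List.mem_filter.2 ⟨h1, by rw [← h3]; exact hP⟩, h2⟩

end Cfsg.Agent.H958.TS
end

-- part: H958/TS/OmegaTen
section
/-!
# `Ω₁₀⁻(2)` is a subgroup of `²E₆(2)` (S5741, task 980, TEAM EXCSUB, helper958)

The subgroup generated by the root groups of the subsystem `B₄` of the relative root system `F₄`.
-/

set_option autoImplicit false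
set_option linter.unusedSectionVars false
set_option maxHeartbeats 400000

namespace Cfsg.Agent.H958.TS.OmegaTen

open CoxeterSystem Cfsg.Agent.ChevalleyStructure.CoxeterGeom Cfsg.Agent.Tits.Roots Cfsg.Agent.Tits.Core
  Cfsg.Agent.Nodes.Reps Cfsg.Agent.Nodes.BNOf Cfsg.Agent.Nodes.RGDTwGen Cfsg.Agent.Nodes.RGDChev
  Cfsg.Agent.Nodes.RGDFold Cfsg.Agent.Nodes.RGDLib Cfsg.Agent.Nodes.SubComb Cfsg.Agent.Nodes.Sub
  Cfsg.Agent.Nodes.RGDFoldSL Cfsg.Agent.Nodes.RGDTwE6 Cfsg.Agent.Nodes.RGDTwTab Cfsg.Agent.Nodes.RGDTwCoordE6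
  Cfsg.Agent.Nodes.RGDTwCoord Cfsg.Agent.Nodes.RGDTwComE6 Cfsg.Agent.Nodes.RGDTwActE6
open Cfsg.Lie Cfsg.Agent.ChevalleyStructure
open Cfsg.Agent.KFacts.RgdBorelTits Cfsg.Agent.KFacts.RgdFilt
open Cfsg.Agent.KFacts.TwESix.Comb
open Cfsg.Agent.KFacts.MulOdd.Inst Cfsg.Agent.KFacts.MulOdd.Shrink
open Cfsg.Agent.Nodes.RGDTwNode.E6 (nodeOK eps_one rest)
open Cfsg.Agent.OddHalf.NI
open Cfsg.Agent.H958.TS.BFour Cfsg.Agent.H958.TS.TwCommon
open scoped commutatorElement MatrixGroups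

universe u

theorem Qv_eq (z : Fin 4 → ℤ) : Qv z = bf z z := by unfold Qv Q4 bf; ring

theorem lg_iff {z : Fin 4 → ℤ} : Lg z ↔ bf z z = 4 := by unfold Lg; rw [Qv_eq]
theorem st_iff {z : Fin 4 → ℤ} : St z ↔ bf z z = 2 := by unfold St; rw [Qv_eq]

variable {K : Type u} [Field K] [Fintype K] {q : ℕ} {φ : K →+* K} (hφ : ∀ x, φ x = x ^ q)
  (hqq : ∀ t : K, (t ^ q) ^ q = t) {W : Type*} [Group W] {cs : CoxeterSystem CoxeterMatrix.F₄ W}
  {W' : Type*} [Group W'] {cs' : CoxeterSystem MB W'}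

/-- the root groups of the subsystem -/
noncomputable def X4 (φ : K →+* K) (q : ℕ) (c : Fin 4 → ℤ) : Subgroup ↥(twistedE6 K q) := X φ q (iota β c)

/-- the subgroup generated by them -/
noncomputable def L4 (cs' : CoxeterSystem MB W') (φ : K →+* K) (q : ℕ) :
    Subgroup ↥(twistedE6 K q) := G1 cs' isCartan4 (X4 φ q)

theorem X_le {z : Fin 4 → ℤ} (hz : z ∈ rts) (he : z 3 % 2 = 0) : X φ q z ≤ L4 cs' φ q := by
  have h1 : IsRoot cs' isCartan4 (κ z) :=
    (_root_.Cfsg.Agent.H958.TS.BFour.isRoot_iff cs' (CoxeterMatrix.F₄.toCoxeterSystem) _).2 (by rw [iota_κ he]; exact hz)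
  have h2 := X_le_G1 (X := X4 φ q) h1
  unfold X4 at h2
  rwa [iota_κ he] at h2

include hφ hqq

/-- **The root group datum of the subsystem.** -/
theorem exists_rgd (p : ℕ) [Fact p.Prime] [CharP K p] (cs : CoxeterSystem CoxeterMatrix.F₄ W) :
    ∃ (w : Fin 4 → W) (g n : Fin 4 → ↥(twistedE6 K q)), SubSys cs isCartan A4 β w ii ∧
      (∀ j, Rp cs (_root_.Cfsg.Agent.Nodes.RGDTwE6.rgd cs hφ hqq p).nsys (w j) (g j)) ∧
      RGD cs' isCartan4 p (T K q) n (X4 φ q) := by
  obtain ⟨w, S⟩ := exists_subSys cs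
  have : Finite W := finiteW cs
  have R := _root_.Cfsg.Agent.Nodes.RGDTwE6.rgd cs hφ hqq p
  have hg : ∀ j, ∃ g, Rp cs R.nsys (w j) g := fun j => exists_rp cs R.nsys (w j)
  choose g hg using hg
  refine ⟨w, g, _, S, hg, rgd_sub (cs' := cs') (h' := isCartan4) R S
    (comm_of_int (cs' := cs') (h' := isCartan4) S ?_ (hbase cs)) hg⟩
  intro x y hx hy hxy hxy' a ha b hb
  exact intComm hφ hqq x y hx hy hxy hxy' a ha b hb

/-- **Perfectness.** -/
theorem X_le_comm {z : Fin 4 → ℤ} (hz : z ∈ rts) (he : z 3 % 2 = 0) :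
    X φ q z ≤ ⁅L4 cs' φ q, L4 cs' φ q⁆ := by
  obtain ⟨p, hp'⟩ := CharP.exists K
  have : Fact p.Prime := ⟨CharP.char_is_prime K p⟩
  let cs := CoxeterMatrix.F₄.toCoxeterSystem
  have : Finite CoxeterMatrix.F₄.Group := finiteW cs
  have R := _root_.Cfsg.Agent.Nodes.RGDTwE6.rgd cs hφ hqq p
  have hlong : ∀ z ∈ rts, z 3 % 2 = 0 → bf z z = 4 → X φ q z ≤ ⁅L4 cs' φ q, L4 cs' φ q⁆ := by
    intro z hz he hl
    obtain ⟨r, hr, s, hs, er, es, lr, ls, hrs, rfl⟩ := long_sum z hz he hl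
    have hA := a2 cs ((mem_rts cs).2 hr) ((mem_rts cs).2 hs) (by rw [lr, ls]) (by rw [hrs, lr]; norm_num)
    intro g hg
    obtain ⟨⟨u, hu⟩, hu0⟩ := Subgroup.ne_bot_iff_exists_ne_one.1 (Cfsg.Agent.Nodes.Bruhat.X_ne_bot R hA.rx)
    have hu1 : u ≠ 1 := fun h0 => hu0 (Subtype.ext h0)
    obtain ⟨v, hv, rfl⟩ := KFacts.RgdSL.A2.comm_surj R hA hu hu1 hg
    exact Subgroup.commutator_mem_commutator (X_le hr er hu) (X_le hs es hv)
  rcases _root_.Cfsg.Agent.KFacts.TwESix.Comb.norm cs ((mem_rts cs).2 hz) with hl | hs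
  · exact hlong z hz he hl
  · obtain ⟨r, hr, s, hs', er, es, lr, ls, rfl⟩ := short_sum z hz he hs
    have rr := (mem_rts cs).2 hr
    have rs := (mem_rts cs).2 hs'
    have rz := (mem_rts cs).2 hz
    intro g hg
    obtain ⟨c, rfl⟩ := (mem_X_short hφ hqq rz (st_iff.2 hs) g).1 hg
    have hN := N_quad_ne_zero (K := K) hφ hqq rr rs rz (lg_iff.2 lr) (st_iff.2 ls)
    obtain ⟨-, h2, h3, h4⟩ := comm_quad hφ hqq rr rs rz (lg_iff.2 lr) (st_iff.2 ls) (a := 1) (map_one φ)
      (((N r s : ℤ) : K)⁻¹ * c)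
    rw [one_mul, one_mul, mul_inv_cancel_left₀ hN] at h4
    have h5 : r + (2 : ℤ) • s ∈ rts := (mem_rts cs).1 h2
    have h6 : (r + (2 : ℤ) • s) 3 % 2 = 0 := by
      rw [Pi.add_apply, Pi.smul_apply, smul_eq_mul]; omega
    have h7 := hlong _ h5 h6 (lg_iff.1 h3)
    have h8 := eq_mul_inv_of_mul_eq h4.symm
    rw [h8]
    refine mul_mem (Subgroup.commutator_mem_commutator ?_ ?_) (inv_mem (h7 ?_))
    · exact X_le hr er (x_mem hφ hqq rr (ok_one r))
    · exact X_le hs' es (x_mem hφ hqq rs (ok_short hφ hqq rs (st_iff.2 ls) _))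
    · refine x_mem hφ hqq h2 (ok_long h2 h3 ?_)
      rw [map_mul, map_mul φ (((N r s : ℤ) : K)⁻¹ * c), map_intCast, phi_phi hφ hqq, mul_comm (φ _)]

/-! ### The centre -/

omit hφ hqq in
theorem unit_eq_one (hφ : ∀ x, φ x = x ^ 2) (u : (Fx φ 1)ˣ) : u = 1 := by
  apply Units.ext
  apply Subtype.ext
  have h1 : φ ((u : Fx φ 1) : K) = ((u : Fx φ 1) : K) := mem_Fx.1 (u : Fx φ 1).2
  rw [hφ] at h1
  have h2 : ((u : Fx φ 1) : K) ≠ 0 := fun h0 => u.ne_zero (Subtype.ext h0)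
  have h3 : ((u : Fx φ 1) : K) * ((u : Fx φ 1) : K) = ((u : Fx φ 1) : K) * 1 := by rw [← pow_two, h1, mul_one]
  exact mul_left_cancel₀ h2 h3

omit hφ hqq in
theorem charP_two (hK : Fintype.card K = 4) : CharP K 2 := by
  obtain ⟨p, hp'⟩ := CharP.exists K
  have hpp : p.Prime := CharP.char_is_prime K p
  have : Fact p.Prime := ⟨hpp⟩
  obtain ⟨n, -, hn⟩ := FiniteField.card K p
  rw [hK] at hn
  have h2 : p ∣ 2 ^ 2 := by
    have : p ∣ p ^ (n : ℕ) := dvd_pow_self p n.2.ne'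
    rw [← hn] at this
    exact this
  have h3 := (Nat.prime_dvd_prime_iff_eq hpp Nat.prime_two).1 (hpp.dvd_of_dvd_pow h2)
  rwa [← h3]

omit hφ hqq in
/-- The tori of the long nodes are trivial. -/
theorem long_node (hK : Fintype.card K = 4) (hφ : ∀ x, φ x = x ^ 2) (hqq : ∀ t : K, (t ^ 2) ^ 2 = t)
    {i : Fin 4} (hi : i = 0 ∨ i = 1) : T K 2 ⊓ (X φ 2 (sr i) ⊔ X φ 2 (-sr i)) = ⊥ := by
  have := charP_two hK
  have : Fact (Nat.Prime 2) := ⟨Nat.prime_two⟩
  let cs := CoxeterMatrix.F₄.toCoxeterSystem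
  have : Finite CoxeterMatrix.F₄.Group := finiteW cs
  have h1 := Mult.T_inf_KK (_root_.Cfsg.Agent.Nodes.RGDTwE6.rgd cs hφ hqq 2) (coordP hφ hqq) i
  unfold Mult.KK at h1
  rw [h1, eq_bot_iff]
  rintro _ ⟨u, rfl⟩
  have h2 : u = 1 := by
    rcases hi with rfl | rfl
    · exact unit_eq_one hφ u
    · exact unit_eq_one hφ u
  rw [h2, map_one]
  exact one_mem _

omit hφ hqq in
/-- The torus of `L4`. -/
theorem TT_le4 (hK : Fintype.card K = 4) (hφ : ∀ x, φ x = x ^ 2) (hqq : ∀ t : K, (t ^ 2) ^ 2 = t) :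
    TT (T K 2) (X4 φ 2) ≤ T K 2 ⊓ (X φ 2 (sr 2) ⊔ X φ 2 (-sr 2)) := by
  have := charP_two hK
  have : Fact (Nat.Prime 2) := ⟨Nat.prime_two⟩
  let cs := CoxeterMatrix.F₄.toCoxeterSystem
  have : Finite CoxeterMatrix.F₄.Group := finiteW cs
  have R := _root_.Cfsg.Agent.Nodes.RGDTwE6.rgd cs hφ hqq 2
  obtain ⟨w, S⟩ := exists_subSys cs
  refine iSup_le fun j => ?_
  have hj : Hv (T K 2) (X4 φ 2) j = T K 2 ⊓ (X φ 2 (β j) ⊔ X φ 2 (-β j)) := by
    unfold Hv Lv X4
    rw [map_neg, iota_sr]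
  rw [hj]
  fin_cases j
  · -- `-ρ`
    show T K 2 ⊓ (X φ 2 (β 0) ⊔ X φ 2 (-β 0)) ≤ _
    obtain ⟨g, hg⟩ := exists_rp cs R.nsys (w 0)
    have e1 : rep cs isCartan (w 0) (sr 0) = β 0 := (S.eq 0).symm
    rintro t ⟨ht, ht'⟩
    have h1 : g⁻¹ * t * g ∈ T K 2 ⊓ (X φ 2 (sr 0) ⊔ X φ 2 (-sr 0)) := by
      refine Subgroup.mem_inf.2 ⟨?_, ?_⟩
      · have h2 := mem_normalizer_iff_cj.1 hg.inv.mem_normalizer
        rw [← h2, mem_cj]
        have : g⁻¹⁻¹ * (g⁻¹ * t * g) * g⁻¹ = t := by group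
        rw [this]; exact ht
      · have h3 : cj g (X φ 2 (sr 0) ⊔ X φ 2 (-sr 0)) = X φ 2 (β 0) ⊔ X φ 2 (-β 0) := by
          rw [cj_sup, R.conj_rp hg (isRoot_sr cs isCartan 0), R.conj_rp hg (isRoot_sr cs isCartan 0).neg, map_neg, e1]
        have h5 : t ∈ cj g (X φ 2 (sr 0) ⊔ X φ 2 (-sr 0)) := by rw [h3]; exact ht'
        exact mem_cj.1 h5
    rw [long_node hK hφ hqq (Or.inl rfl), Subgroup.mem_bot] at h1
    have h4 : t = 1 := by
      have : t = g * (g⁻¹ * t * g) * g⁻¹ := by group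
      rw [this, h1]; group
    rw [h4]; exact one_mem _
  · show T K 2 ⊓ (X φ 2 (sr 0) ⊔ X φ 2 (-sr 0)) ≤ _
    rw [long_node hK hφ hqq (Or.inl rfl)]; exact bot_le
  · show T K 2 ⊓ (X φ 2 (sr 1) ⊔ X φ 2 (-sr 1)) ≤ _
    rw [long_node hK hφ hqq (Or.inr rfl)]; exact bot_le
  · exact le_rfl

omit hφ hqq in
theorem cent (hK : Fintype.card K = 4) (hφ : ∀ x, φ x = x ^ 2) (hqq : ∀ t : K, (t ^ 2) ^ 2 = t)
    {t : ↥(twistedE6 K 2)} (ht : t ∈ TT (T K 2) (X4 φ 2)) (hc : ∀ u ∈ X φ 2 (sr 2), t * u = u * t) : t = 1 := by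
  have := charP_two hK
  have : Fact (Nat.Prime 2) := ⟨Nat.prime_two⟩
  let cs := CoxeterMatrix.F₄.toCoxeterSystem
  have : Finite CoxeterMatrix.F₄.Group := finiteW cs
  have h1 := Mult.T_inf_KK (_root_.Cfsg.Agent.Nodes.RGDTwE6.rgd cs hφ hqq 2) (coordP hφ hqq) 2
  unfold Mult.KK at h1
  have h2 := TT_le4 hK hφ hqq ht
  rw [h1] at h2
  obtain ⟨u, rfl⟩ := h2
  have h3 := hc _ ((coordP hφ hqq).mem_up 2 1)
  rw [MonoidHom.comp_apply, Mult.dgHom_apply] at h3 ⊢
  have h4 : P hφ hqq 2 (Mult.dg u * Mult.up 1 * (Mult.dg u)⁻¹) = P hφ hqq 2 (Mult.up 1) := by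
    rw [map_mul, map_mul, map_inv, h3, mul_inv_cancel_right]
  rw [Mult.dg_mul_up, mul_one] at h4
  have h5 := P_up_inj hφ hqq 2 h4
  have h6 : u = 1 := by
    apply Units.ext
    have h7 : ((u : Fx φ ((rest 2).length + 1)) : K) ^ 2 = 1 := by
      have := congrArg Subtype.val h5
      simpa only [_root_.Fin.isValue, _root_.sq_eq_one_iff, _root_.OneMemClass.coe_eq_one, _root_.Units.val_eq_one, _root_.SubmonoidClass.coe_pow, _root_.OneMemClass.coe_one] using this
    apply Subtype.ext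
    have h8 : (((u : Fx φ ((rest 2).length + 1)) : K) - 1) ^ 2 = 0 := by
      rw [sub_pow_char_of_commute (p := 2) (Commute.all _ _), h7, one_pow, sub_self]
    exact sub_eq_zero.1 (pow_eq_zero_iff (two_ne_zero)|>.1 h8)
  rw [h6, Mult.dg_one, map_one]

/-! ### The order -/

omit hφ hqq in
theorem card_X (hK : Fintype.card K = 4) (hφ : ∀ x, φ x = x ^ 2) (hqq : ∀ t : K, (t ^ 2) ^ 2 = t)
    {z : Fin 4 → ℤ} (hz : z ∈ rts) : Nat.card ↥(X φ 2 z) = if bf z z = 4 then 2 else 4 := by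
  let cs := CoxeterMatrix.F₄.toCoxeterSystem
  have rz := (mem_rts cs).2 hz
  have e : Nat.card {a : K // Ok chevE6 J O φ z a} = Nat.card ↥(X φ 2 z) := by
    refine Nat.card_congr (Equiv.ofBijective
      (fun a : {a : K // Ok chevE6 J O φ z a} => (⟨_root_.Cfsg.Agent.Nodes.RGDTwComE6.x φ 2 z a, x_mem hφ hqq rz a.2⟩ : ↥(X φ 2 z))) ⟨?_, ?_⟩)
    · rintro ⟨a, ha⟩ ⟨b, hb⟩ hab
      exact Subtype.ext (x_inj hφ hqq rz ha hb (congrArg Subtype.val hab))
    · rintro ⟨g, hg⟩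
      obtain ⟨a, ha, rfl⟩ := (mem_X hφ hqq rz g).1 hg
      exact ⟨⟨a, ha⟩, rfl⟩
  rw [← e]
  rcases _root_.Cfsg.Agent.KFacts.TwESix.Comb.norm cs rz with hl | hs
  · rw [if_pos hl]
    have h1 : ∀ a : K, Ok chevE6 J O φ z a ↔ a ∈ ({0, 1} : Set K) := by
      intro a
      rw [ok_iff_long rz (lg_iff.2 hl), hφ, Set.mem_insert_iff, Set.mem_singleton_iff]
      constructor
      · intro h2
        have h3 : a * (a - 1) = 0 := by rw [mul_sub, ← pow_two, h2, mul_one, sub_self]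
        rcases mul_eq_zero.1 h3 with h4 | h4
        · exact Or.inl h4
        · exact Or.inr (sub_eq_zero.1 h4)
      · rintro (rfl | rfl)
        · exact zero_pow two_ne_zero
        · exact one_pow 2
    rw [Nat.card_congr (Equiv.subtypeEquivRight h1)]
    have h2 : Nat.card ↥({0, 1} : Set K) = 2 := by
      rw [Nat.card_coe_set_eq]
      exact Set.ncard_pair zero_ne_one
    exact h2
  · rw [if_neg (by rw [hs]; norm_num)]
    have h1 : ∀ a : K, Ok chevE6 J O φ z a ↔ a ∈ (Set.univ : Set K) := fun a =>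
      ⟨fun _ => trivial, fun _ => ok_short hφ hqq rz (st_iff.2 hs) a⟩
    rw [Nat.card_congr (Equiv.subtypeEquivRight h1)]
    have h2 : Nat.card ↥(Set.univ : Set K) = 4 := by
      rw [Nat.card_coe_set_eq, Set.ncard_univ, Nat.card_eq_fintype_card, hK]
    exact h2

omit hφ hqq in
theorem card_U (hK : Fintype.card K = 4) (hφ : ∀ x, φ x = x ^ 2) (hqq : ∀ t : K, (t ^ 2) ^ 2 = t)
    {n : Fin 4 → ↥(twistedE6 K 2)} [Finite W'] (R4 : RGD cs' isCartan4 2 (T K 2) n (X4 φ 2)) :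
    Nat.card ↥(RGD.Sup (X4 φ 2) (RGD.Pos cs' isCartan4)) = 2 ^ 20 := by
  rw [← coe_pos cs', Cfsg.Agent.Nodes.CardSup.card_sup R4 (by rw [coe_pos cs']) (by rw [coe_pos cs']; exact Cfsg.Agent.Nodes.Unique.closed_pos),
    ← prod_pos]
  refine Finset.prod_congr rfl fun c hc => ?_
  have h1 : c ∈ RGD.Pos cs' isCartan4 := by rw [← coe_pos cs']; exact hc
  exact card_X hK hφ hqq ((_root_.Cfsg.Agent.H958.TS.BFour.isRoot_iff cs' (CoxeterMatrix.F₄.toCoxeterSystem) c).1 h1.1)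


/-! ### The end -/

omit hφ hqq in
/-- the order of `²E₆(2)` -/
theorem card_E (K : Type u) [Field K] [Fintype K] (hK : Fintype.card K = 4) :
    Nat.card (Cfsg.Lie.twistedE6 K 2) = 76532479683774853939200 := by
  have h := Cfsg.Agent.S1066.result (K := K) (q := 2) Nat.prime_two.isPrimePow (by rw [hK]; norm_num)
  norm_num only [] at h
  omega

/-- the condition on the order -/
def cond (n : ℕ) : Bool := n % 2 ^ 20 == 0 && (n / 2 ^ 20) % 2 == 1

private noncomputable def _root_.Cfsg.Agent.LsF.fdc16eb_43 : {f // @Cfsg.Agent.H958.TS.OmegaTen.cond = f} := ⟨_, by first | (delta Cfsg.Agent.H958.TS.OmegaTen.cond; rewrite [Cfsg.Agent.LsF.ndiv_pat, Cfsg.Agent.LsF.nmod_pat, Cfsg.Agent.LsF.npow_pat, Cfsg.Agent.LsF.nbeq_pat, Cfsg.Agent.LsF.and_eq]; exact rfl) | exact rfl⟩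
private noncomputable def _root_.Cfsg.Agent.LsF.fdc16eb_24 : {f // @Cfsg.Agent.OrdDiv.candAlt = f} := ⟨_, by first | (delta Cfsg.Agent.OrdDiv.candAlt; rewrite [Cfsg.Agent.LsF.fdc16eb_0.2, Cfsg.Agent.LsF.nadd_pat, Cfsg.Agent.LsF.nmul_pat, Cfsg.Agent.LsF.nmod_pat, Cfsg.Agent.LsF.nbeq_pat, Cfsg.Agent.LsF.and_eq, Cfsg.Agent.LsF.flatMap_eq, Cfsg.Agent.LsF.filter_eq, Cfsg.Agent.LsF.range_eq, Cfsg.Agent.LsF.dBoolEq_eq, Cfsg.Agent.LsF.ite_eq]; exact rfl) | exact rfl⟩
private noncomputable def _root_.Cfsg.Agent.LsF.fdc16eb_26 : {f // @Cfsg.Agent.OrdDiv.cand = f} := ⟨_, by first | (delta Cfsg.Agent.OrdDiv.cand; rewrite [Cfsg.Agent.LsF.nmul_pat, Cfsg.Agent.LsF.nmod_pat, Cfsg.Agent.LsF.nbeq_pat, Cfsg.Agent.LsF.and_eq, Cfsg.Agent.LsF.filter_eq]; exact rfl) | exact rfl⟩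
private noncomputable def _root_.Cfsg.Agent.LsF.fdc16eb_27 : {f // @Cfsg.Agent.OrdDiv.cands = f} := ⟨_, by first | (delta Cfsg.Agent.OrdDiv.cands; rewrite [Cfsg.Agent.LsF.fdc16eb_24.2, Cfsg.Agent.LsF.fdc16eb_26.2, Cfsg.Agent.LsF.fdc16eb_2.2, Cfsg.Agent.LsF.fdc16eb_4.2, Cfsg.Agent.LsF.fdc16eb_6.2, Cfsg.Agent.LsF.fdc16eb_7.2, Cfsg.Agent.LsF.fdc16eb_8.2, Cfsg.Agent.LsF.fdc16eb_9.2, Cfsg.Agent.LsF.fdc16eb_11.2, Cfsg.Agent.LsF.fdc16eb_12.2, Cfsg.Agent.LsF.fdc16eb_13.2, Cfsg.Agent.LsF.fdc16eb_14.2, Cfsg.Agent.LsF.fdc16eb_15.2, Cfsg.Agent.LsF.fdc16eb_16.2, Cfsg.Agent.LsF.fdc16eb_17.2, Cfsg.Agent.LsF.fdc16eb_18.2, Cfsg.Agent.LsF.fdc16eb_19.2, Cfsg.Agent.LsF.fdc16eb_20.2, Cfsg.Agent.LsF.nmod_pat, Cfsg.Agent.LsF.nbeq_pat, Cfsg.Agent.LsF.map_eq, Cfsg.Agent.LsF.flatten_eq, Cfsg.Agent.LsF.filter_eq]; exact rfl) | exact rfl⟩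
omit hφ hqq in
theorem filt : (OrdDiv.cands [(2, 36), (3, 9), (5, 2), (7, 2), (11, 1), (13, 1), (17, 1), (19, 1)]
    76532479683774853939200).filter (fun g => cond (OrdDiv.ordN g)) = [.ominus 5 2] := by (refine of_decide_eq_true ?_; (try (rewrite [Cfsg.Agent.LsF.fdc16eb_43.2, Cfsg.Agent.LsF.fdc16eb_23.2, Cfsg.Agent.LsF.fdc16eb_27.2, Cfsg.Agent.LsF.fdc16eb_22.2, Cfsg.Agent.LsF.filter_eq, Cfsg.Agent.LsF.dListEq_eq, Cfsg.Agent.LsF.decide_eq])); decide +kernel)

omit hφ hqq in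
theorem valid_E : OrdDiv.valid [(2, 36), (3, 9), (5, 2), (7, 2), (11, 1), (13, 1), (17, 1), (19, 1)]
    76532479683774853939200 = true := by decide +kernel

omit hφ hqq in
/-- **`Ω₁₀⁻(2) ≤ ²E₆(2)`** (task 980). -/
theorem X {K : Type u} [Field K] [Fintype K] (hK : Fintype.card K = 4) : H944.TS.InE K (.ominus 5 2) := by
  obtain ⟨φ, hφ, hqq⟩ := TwE6Basic.exists_frob (K := K) (q := 2) Nat.prime_two.isPrimePow (by rw [hK]; norm_num)
  have := charP_two hK
  have : Fact (Nat.Prime 2) := ⟨Nat.prime_two⟩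
  let cs := CoxeterMatrix.F₄.toCoxeterSystem
  let cs' := MB.toCoxeterSystem
  have : Finite CoxeterMatrix.F₄.Group := finiteW cs
  obtain ⟨w, g, n, S, -, R4⟩ := exists_rgd (cs' := cs') hφ hqq 2 cs
  have : Finite MB.Group := S.finite cs' isCartan4
  have hlie : Cfsg.IsLieTypeChar 2 ↥(G1 cs' isCartan4 (X4 φ 2)) := by
    refine RgdSub.isLie R4 _root_.Cfsg.Agent.H958.TS.BFour.conn T_comm ?_ ?_ (by simp)
    · intro c hc
      have h1 := (_root_.Cfsg.Agent.H958.TS.BFour.isRoot_iff cs' cs c).1 hc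
      exact X_le_comm hφ hqq h1 (even_iota c)
    · intro t ht hc
      refine cent hK hφ hqq ht fun u hu => hc (sr 3) (isRoot_sr cs' isCartan4 3) u ?_
      unfold X4
      rw [iota_sr]
      exact hu
  obtain ⟨k, hk, hcard⟩ := RgdSub.card_eq R4
  rw [card_U hK hφ hqq R4] at hcard
  have hd : Nat.card ↥(G1 cs' isCartan4 (X4 φ 2)) ∣ 76532479683774853939200 := by
    rw [← card_E K hK]
    exact Subgroup.card_subgroup_dvd_card _
  obtain ⟨g, hg, hr⟩ := exists_real_char hlie valid_E hd cond (by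
    rw [hcard]
    unfold cond
    have h1 : 2 ^ 20 * k % 2 ^ 20 = 0 := Nat.mul_mod_right _ _
    have h2 : 2 ^ 20 * k / 2 ^ 20 = k := Nat.mul_div_cancel_left _ (by norm_num)
    have h3 : k % 2 = 1 := by omega
    rw [h1, h2, h3]
    rfl)
  rw [filt, List.mem_singleton] at hg
  subst hg
  exact ⟨_, hr⟩

end Cfsg.Agent.H958.TS.OmegaTen
end

private theorem dce_c7b4bb524609 : _root_.True := by
  try have : _root_.True := by simp only [_root_.Cfsg.Agent.H446.TSub.D.congr_simp]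
  try have : _root_.True := by simp only [_root_.Cfsg.Agent.H958.TS.BFour.pos.eq_1]
  try have : _root_.True := by simp only [_root_.Cfsg.Agent.H860.TS.OSeven.sw.eq_1]
  try have : _root_.True := by simp only [_root_.Cfsg.Agent.H446.TSub.N.eq_1]
  try have : _root_.True := by simp only [_root_.Cfsg.Agent.H958.TS.BFour.κ.eq_1]
  try have : _root_.True := by simp only [_root_.Cfsg.Agent.H944.TS.Asm.emb.eq_1]
  try have : _root_.True := by simp only [_root_.Cfsg.Agent.H446.TSub.T'.eq_1]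
  try have : _root_.True := by simp only [_root_.Cfsg.Agent.H446.TSub.M.eq_1]
  try have : _root_.True := by simp only [_root_.Cfsg.Agent.H944.TS.Asm.aliases.eq_1]
  try have : _root_.True := by simp only [_root_.Cfsg.Agent.H860.TS.OSeven.G.eq_1]
  try have : _root_.True := by simp only [_root_.Cfsg.Agent.H860.TS.OSeven.cc.eq_1]
  try have : _root_.True := by simp only [_root_.Cfsg.Agent.H446.TSub.T.eq_1]
  try have : _root_.True := by simp only [_root_.Cfsg.Agent.H446.TSub.D.eq_1]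
  exact _root_.True.intro
end

-- part: H944/TS/Eig
section
prune_inst 0x241004606822100000000500320000245c0001b000230400cc010a440a09a94289000740a2a01207d2c6a2810001c00000540150420000000a000000000504010008120c0200a808240080000004000000000000020000000000000000000000200000000
set_option linter.all false
open scoped Cfsg.Agent.FastGrp

-- part: H944/TS/EigTab
section
/-!
# Eigenvalues of the elements of odd order of `²E₆(2)` on the 78-dimensional module (helper944)
-/

set_option autoImplicit false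
set_option linter.unusedSectionVars false
set_option maxRecDepth 100000

namespace Cfsg.Agent.H944.TS.Eig

open Cfsg.Agent.ChevalleyStructure.CoxeterGeom Cfsg.Agent.Tits.Roots
  Cfsg.Agent.Nodes.RGDChev
open Cfsg.Lie Cfsg.Agent.ChevalleyStructure Cfsg.Agent.ChevalleyStructure.Elts
  Cfsg.Agent.ChevalleyStructure.RootVec Cfsg.Agent.ChevalleyStructure.RootVecTab
  Cfsg.Agent.ChevalleyStructure.NPerm Cfsg.Agent.ChevalleyStructure.CoxeterGeomTypes
open Cfsg.Agent.H944.RootVals Cfsg.Agent.H944.Kac Cfsg.Agent.H944.Tab Polynomial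

universe u

/-- The positive roots of `E₆`. -/
def R6 : List (List ℕ) :=
  [[0, 0, 0, 0, 0, 1], [0, 0, 0, 0, 1, 0], [0, 0, 0, 0, 1, 1], [0, 0, 0, 1, 0, 0], [0, 0, 0, 1, 1, 0], [0, 0,
   0, 1, 1, 1], [0, 0, 1, 0, 0, 0], [0, 0, 1, 1, 0, 0], [0, 0, 1, 1, 1, 0], [0, 0, 1, 1, 1, 1], [0, 1, 0, 0,
   0, 0], [0, 1, 0, 1, 0, 0], [0, 1, 0, 1, 1, 0], [0, 1, 0, 1, 1, 1], [0, 1, 1, 1, 0, 0], [0, 1, 1, 1, 1, 0],
   [0, 1, 1, 1, 1, 1], [0, 1, 1, 2, 1, 0], [0, 1, 1, 2, 1, 1], [0, 1, 1, 2, 2, 1], [1, 0, 0, 0, 0, 0], [1, 0,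
   1, 0, 0, 0], [1, 0, 1, 1, 0, 0], [1, 0, 1, 1, 1, 0], [1, 0, 1, 1, 1, 1], [1, 1, 1, 1, 0, 0], [1, 1, 1, 1,
   1, 0], [1, 1, 1, 1, 1, 1], [1, 1, 1, 2, 1, 0], [1, 1, 1, 2, 1, 1], [1, 1, 1, 2, 2, 1], [1, 1, 2, 2, 1, 0],
   [1, 1, 2, 2, 1, 1], [1, 1, 2, 2, 2, 1], [1, 1, 2, 3, 2, 1], [1, 2, 2, 3, 2, 1]]

/-- The highest root of `E₆`. -/
def th6 : List ℕ := [1, 2, 2, 3, 2, 1]

theorem tab6 : chkTab chevE6 6 R6 = true := by decide +kernel

theorem len6 : ∀ r ∈ R6, r.length ≤ 6 := by decide +kernel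

theorem theta6 : ∀ i : Fin 6, ∑ s : Fin chevE6.nroots, (∑ k, vec chevE6 6 s k * (![0, 1, 0, 0, 0, 0] : Fin 6 → ℤ) k) *
    vec chevE6 6 s i = 24 * (![1, 2, 2, 3, 2, 1] : Fin 6 → ℤ) i := by decide +kernel

theorem pos6 : ∀ j : Fin 6, 0 < ∑ i, cartanOf chevE6 6 j i *
    ∑ s ∈ (Finset.univ : Finset (Fin chevE6.nroots)).filter (fun s : Fin chevE6.nroots => 36 ≤ (s : ℕ)), vec chevE6 6 s i := by
  decide +kernel

theorem e6T : IsType chevE6 6 CoxeterMatrix.E₆ := by simp [IsType, typeList]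

/-- The number of roots with the value `c` modulo `N`. -/
def cntN (N c : ℕ) (y : List ℕ) : ℕ :=
  sumH (fun t => (if t % N = c then 1 else 0) + (if (N - t % N) % N = c then 1 else 0)) R6 y

/-- The table of the values. -/
def chkT (N : ℕ) (L : List (List ℕ)) (y : List ℕ) : Bool :=
  L.any fun T => (List.range N).all fun c => Nat.beq (cntN N c y) (T.getD c 0)

/-- The check: the invariant vectors of the alcove have a value table in `L`. -/
def chkA (N : ℕ) (L : List (List ℕ)) : Bool :=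
  allAlc th6 N fun y => bif invB N 2 R6 y then chkT N L y else true

end Cfsg.Agent.H944.TS.Eig
end

-- part: H944/TS/RVCP
section
/-!
# Root values, twisted version (helper944)

`exists_vals_cp` : as `RootVals.exists_vals`, for the multiset of the root values with the factorisation of the characteristic
polynomial, and its invariance under multiplication by `p ^ j` when the characteristic polynomial is fixed by
the `j`-th power of the Frobenius map of the ground field.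
-/

set_option autoImplicit false
set_option linter.unusedSectionVars false

namespace Cfsg.Agent.H944.TS.RVCP

open Cfsg.Agent.ChevalleyStructure.CoxeterGeom Cfsg.Agent.Tits.Roots
  Cfsg.Agent.Nodes.Reps Cfsg.Agent.Nodes.BNOf Cfsg.Agent.Nodes.RGDChev Cfsg.Agent.KFacts.RgdChevCoord
open Cfsg.Lie Cfsg.Agent.ChevalleyStructure Cfsg.Agent.ChevalleyStructure.Elts
  Cfsg.Agent.ChevalleyStructure.RootVecTab
  Cfsg.Agent.ChevalleyStructure.CoxeterGeomTypes
  Cfsg.Agent.BpExc.TorAll Cfsg.Agent.BpExc.TorChev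
open Cfsg.Agent.GpExc.Field (glMap emb coe_emb coe_glMap emb_injective)
open Cfsg.Agent.H944.RootVals Polynomial

universe u

variable {D : ChevalleyDatum} {l : ℕ} {M : CoxeterMatrix (Fin l)} (hp : IsType D l M)

include hp in
/-- **Root values of an element of order prime to `p`.** -/
theorem exists_vals_cp (p : ℕ) [Fact p.Prime] {F : Type u} [Field F] [Finite F] [CharP F p] {x : ↥(D.group F)} {N : ℕ}
    (hN0 : N ≠ 0) (hN : N.Coprime p) (hx : x ^ N = 1) : ∃ (v : Fin l → ZMod N) (ζ : AlgebraicClosure F),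
      IsPrimitiveRoot ζ N ∧ (∀ d : ℕ, (∀ i, (d : ZMod N) * v i = 0) ↔ x ^ d = 1) ∧
      (∀ j : ℕ, (((x : ↥(D.group F)) : GL D.Idx F) : Matrix D.Idx D.Idx F).charpoly.map (iterateFrobenius F p j) =
        (((x : ↥(D.group F)) : GL D.Idx F) : Matrix D.Idx D.Idx F).charpoly →
        ms D l v = (ms D l v).map (fun a => ((p ^ j : ℕ) : ZMod N) * a)) ∧
      (((x : ↥(D.group F)) : GL D.Idx F) : Matrix D.Idx D.Idx F).charpoly.map (algebraMap F (AlgebraicClosure F)) =
        (X - 1) ^ D.rank * ((ms D l v).map (fun a : ZMod N => X - C (ζ ^ a.val))).prod := by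
  classical
  have : NeZero N := ⟨hN0⟩
  have : Fintype F := Fintype.ofFinite F
  set k := AlgebraicClosure F with hk
  have hkch : CharP k p := charP_of_injective_algebraMap (algebraMap F k).injective p
  have hk' : HAlg p k := hAlg_closure p F
  set f : F →+* k := algebraMap F k with hf
  set x' : ↥(D.group k) := emb hp.inList f x with hx'
  have hxN : x' ^ N = 1 := by rw [hx', ← map_pow, hx, map_one]
  obtain ⟨g, hg⟩ := Cfsg.Agent.H944.TorAnyChev.exists_conj_mem_TT hp p hk' hN0 hN hxN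
  set t := g * x' * g⁻¹ with ht
  obtain ⟨c, hc⟩ := TT_diag hp hg
  have htN : t ^ N = 1 := by rw [ht, conj_pow, hxN, mul_one, mul_inv_cancel]
  -- the powers of `t`
  have hpow : ∀ d : ℕ, (((t ^ d : ↥(D.group k)) : GL D.Idx k) : Matrix D.Idx D.Idx k) =
      Matrix.diagonal (Sum.elim (fun _ => (1 : k)) (fun s : Fin D.nroots =>
        ((∏ i, c i ^ (vec D l s i) : kˣ) : k) ^ d)) := by
    intro d
    rw [Subgroup.coe_pow, Units.val_pow_eq_pow_val, hc, Matrix.diagonal_pow]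
    congr 1
    funext i
    rcases i with i | i
    · simp
    · simp
  -- the value on the simple roots
  have hsimple : ∀ j : Fin l, ∃ s : Fin D.nroots, (∏ i, c i ^ (vec D l s i) : kˣ) = c j := by
    intro j
    have hlt := NPerm.simple_lt hp.inList (lt_rank hp j)
    refine ⟨⟨D.simple j, hlt⟩, ?_⟩
    show (∏ i, c i ^ (vec D l (D.simple j) i) : kˣ) = c j
    rw [vec_simple hp j, Finset.prod_eq_single j]
    · rw [sr_self, zpow_one]
    · intro i _ hij
      rw [sr_ne hij, zpow_zero]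
    · intro h
      exact absurd (Finset.mem_univ j) h
  have hcN : ∀ d : ℕ, t ^ d = 1 ↔ ∀ j, c j ^ d = 1 := by
    intro d
    constructor
    · intro h1 j
      obtain ⟨s, hs⟩ := hsimple j
      have h2 := hpow d
      rw [h1, Subgroup.coe_one, Units.val_one] at h2
      have h3 := congrFun (congrFun h2 (Sum.inr s)) (Sum.inr s)
      rw [Matrix.one_apply_eq, Matrix.diagonal_apply_eq, Sum.elim_inr, hs, ← Units.val_pow_eq_pow_val] at h3
      exact Units.ext h3.symm
    · intro h1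
      apply Subtype.ext
      apply Units.ext
      rw [hpow, Subgroup.coe_one, Units.val_one, ← Matrix.diagonal_one]
      congr 1
      funext i
      rcases i with i | i
      · rfl
      · rw [Sum.elim_inr, ← Units.val_pow_eq_pow_val, ← Finset.prod_pow]
        have : ∀ j ∈ (Finset.univ : Finset (Fin l)), (c j ^ vec D l i j) ^ d = 1 := by
          intro j _
          rw [← zpow_natCast, ← zpow_mul, mul_comm, zpow_mul, zpow_natCast, h1, one_zpow]
        rw [Finset.prod_congr rfl this, Finset.prod_const_one, Units.val_one]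
  have hcN' : ∀ j, c j ^ N = 1 := (hcN N).1 htN
  -- a primitive root of unity
  have hNk : ((N : ℕ) : k) ≠ 0 := by
    intro h0
    have h1 : p ∣ N := (CharP.cast_eq_zero_iff k p N).1 h0
    have h2 : p ∣ 1 := by
      rw [← hN]
      exact Nat.dvd_gcd h1 dvd_rfl
    exact (Fact.out : p.Prime).one_lt.ne' (Nat.dvd_one.1 h2)
  have : NeZero ((N : ℕ) : k) := ⟨hNk⟩
  obtain ⟨ζ, hζ⟩ : ∃ ζ : k, IsPrimitiveRoot ζ N := HasEnoughRootsOfUnity.exists_primitiveRoot k N
  have hζu : IsPrimitiveRoot (hζ.toRootsOfUnity : kˣ) N := by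
    rw [IsPrimitiveRoot.coe_units_iff.symm]
    exact hζ
  set z : kˣ := (hζ.toRootsOfUnity : kˣ) with hz
  have hex : ∀ j, ∃ a : ℕ, z ^ a = c j := by
    intro j
    have h1 : ((c j : kˣ) : k) ^ N = 1 := by
      rw [← Units.val_pow_eq_pow_val, hcN' j, Units.val_one]
    obtain ⟨a, -, ha⟩ := hζ.eq_pow_of_pow_eq_one h1
    refine ⟨a, Units.ext ?_⟩
    rw [Units.val_pow_eq_pow_val, ← ha]
    rfl
  choose a ha using hex
  let v : Fin l → ZMod N := fun j => (a j : ZMod N)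
  -- the values
  let pw : ZMod N → k := fun b => ((z ^ b.val : kˣ) : k)
  have hzpow : ∀ m : ℤ, z ^ m = z ^ ((m : ZMod N).val) := by
    intro m
    rw [← zpow_natCast, ZMod.val_intCast]
    have h1 : z ^ (N : ℤ) = 1 := by rw [zpow_natCast]; exact hζu.pow_eq_one
    conv_lhs => rw [← Int.emod_add_mul_ediv m N]
    rw [zpow_add, zpow_mul, h1, one_zpow, mul_one]
  have hpw_inj : Function.Injective pw := by
    intro b b' h
    have h1 : z ^ b.val = z ^ b'.val := Units.ext h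
    exact ZMod.val_injective N (hζu.pow_inj (ZMod.val_lt b) (ZMod.val_lt b') h1)
  have hval : ∀ s : Fin D.nroots, ((∏ i, c i ^ (vec D l s i) : kˣ) : k) =
      pw (∑ i, (vec D l s i : ZMod N) * v i) := by
    intro s
    have h1 : ∏ i, c i ^ (vec D l s i) = z ^ (∑ i, vec D l s i * (a i : ℤ)) := by
      have h2 : ∀ S : Finset (Fin l), ∏ i ∈ S, c i ^ (vec D l s i) = z ^ (∑ i ∈ S, vec D l s i * (a i : ℤ)) := by
        intro S
        induction S using Finset.induction_on with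
        | empty => simp
        | insert b S hb ih =>
          rw [Finset.prod_insert hb, Finset.sum_insert hb, zpow_add, ih, ← ha b, mul_comm (vec D l s b), zpow_mul,
            zpow_natCast]
      exact h2 _
    rw [h1, hzpow]
    congr 3
    push_cast
    rfl
  have hpwmul : ∀ (m : ℕ) (b : ZMod N), pw b ^ m = pw ((m : ZMod N) * b) := by
    intro m b
    show (((z ^ b.val : kˣ) : k)) ^ m = ((z ^ ((m : ZMod N) * b).val : kˣ) : k)
    rw [← Units.val_pow_eq_pow_val, ← pow_mul]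
    congr 1
    have h1 := hzpow ((b.val * m : ℕ) : ℤ)
    rw [zpow_natCast] at h1
    rw [h1]
    congr 2
    push_cast
    rw [ZMod.natCast_zmod_val, mul_comm]
  -- multisets
  have hms : ∀ m : ℕ, (Finset.univ : Finset (Fin D.nroots)).val.map
      (fun s : Fin D.nroots => ((∏ i, c i ^ (vec D l s i) : kˣ) : k) ^ m) = ((ms D l v).map (fun b => (m : ZMod N) * b)).map pw := by
    intro m
    unfold ms
    rw [Multiset.map_map, Multiset.map_map]
    refine Multiset.map_congr rfl fun s _ => ?_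
    simp only [Function.comp_apply]
    rw [hval, hpwmul]
  have hms1 : (Finset.univ : Finset (Fin D.nroots)).val.map
      (fun s : Fin D.nroots => ((∏ i, c i ^ (vec D l s i) : kˣ) : k)) = (ms D l v).map pw := by
    unfold ms
    rw [Multiset.map_map]
    refine Multiset.map_congr rfl fun s _ => ?_
    exact hval s
  -- the characteristic polynomial of `t`
  have hchart : ∀ d : ℕ, (((t ^ d : ↥(D.group k)) : GL D.Idx k) : Matrix D.Idx D.Idx k).charpoly =
      ((((x ^ d : ↥(D.group F)) : GL D.Idx F) : Matrix D.Idx D.Idx F).charpoly).map f := by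
    intro d
    have h1 : t ^ d = g * x' ^ d * g⁻¹ := by rw [ht, conj_pow]
    rw [h1, Subgroup.coe_mul, Subgroup.coe_mul, Subgroup.coe_inv, Units.val_mul, Units.val_mul,
      Matrix.coe_units_inv]
    have h2 := Matrix.charpoly_units_conj ((g : GL D.Idx k)) (((x' ^ d : ↥(D.group k)) : GL D.Idx k) : Matrix D.Idx D.Idx k)
    rw [h2, ← Matrix.charpoly_map]
    congr 1
    rw [hx', ← map_pow, coe_emb, coe_glMap]
  refine ⟨v, ζ, hζ, ?_, ?_, ?_⟩
  · intro d
    have h1 : x ^ d = 1 ↔ t ^ d = 1 := by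
      have h2 : t ^ d = g * x' ^ d * g⁻¹ := by rw [ht, conj_pow]
      rw [h2, conj_eq_one_iff, hx', ← map_pow]
      constructor
      · intro h; rw [h, map_one]
      · intro h
        exact emb_injective hp.inList f (by rw [h, map_one])
    rw [h1, hcN]
    refine forall_congr' fun j => ?_
    have h3 : c j ^ d = z ^ (((d : ZMod N) * v j).val) := by
      rw [← ha j, ← pow_mul]
      have h4 := hzpow ((a j * d : ℕ) : ℤ)
      rw [zpow_natCast] at h4
      rw [h4]
      congr 2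
      show (((a j * d : ℕ) : ℤ) : ZMod N) = (d : ZMod N) * (a j : ZMod N)
      push_cast
      rw [mul_comm]
    rw [h3]
    constructor
    · intro h; rw [h, ZMod.val_zero, pow_zero]
    · intro h
      have h5 : z ^ (((d : ZMod N) * v j).val) = z ^ (0 : ZMod N).val := by rw [h, ZMod.val_zero, pow_zero]
      have h6 := hζu.pow_inj (ZMod.val_lt _) (ZMod.val_lt _) h5
      exact ZMod.val_injective N h6
  · -- Frobenius
    intro m hcp
    let φ : k →+* k := iterateFrobenius k p m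
    have h1 := hchart 1
    rw [pow_one, pow_one] at h1
    have h2 : ((((t : ↥(D.group k)) : GL D.Idx k) : Matrix D.Idx D.Idx k).map φ).charpoly =
        (((t : ↥(D.group k)) : GL D.Idx k) : Matrix D.Idx D.Idx k).charpoly := by
      rw [Matrix.charpoly_map, h1, Polynomial.map_map]
      conv_rhs => rw [← hcp, Polynomial.map_map]
      congr 1
      ext b
      show iterateFrobenius k p m (f b) = f (iterateFrobenius F p m b)
      rw [iterateFrobenius_def, iterateFrobenius_def, map_pow]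
    rw [hc, Matrix.diagonal_map (map_zero φ)] at h2
    have h3 := diag_multiset h2
    have h4 : (φ ∘ Sum.elim (fun _ : Fin D.rank => (1 : k)) (fun s : Fin D.nroots => ((∏ i, c i ^ (vec D l s i) : kˣ) : k))) =
        Sum.elim (fun _ : Fin D.rank => (1 : k)) (fun s : Fin D.nroots => ((∏ i, c i ^ (vec D l s i) : kˣ) : k) ^ (p ^ m)) := by
      funext i
      rcases i with i | i
      · simp
      · simp only [Function.comp_apply, Sum.elim_inr]
        show iterateFrobenius k p m _ = _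
        rw [iterateFrobenius_def]
    have h3' : (Finset.univ : Finset (Fin D.rank ⊕ Fin D.nroots)).val.map
        (φ ∘ Sum.elim (fun _ => (1 : k)) (fun s : Fin D.nroots => ((∏ i, c i ^ (vec D l s i) : kˣ) : k))) =
        (Finset.univ : Finset (Fin D.rank ⊕ Fin D.nroots)).val.map
        (Sum.elim (fun _ => (1 : k)) (fun s : Fin D.nroots => ((∏ i, c i ^ (vec D l s i) : kˣ) : k))) := h3
    rw [h4] at h3'
    have h5 := cancel_inl h3'
    rw [hms1, hms] at h5
    exact (Multiset.map_injective hpw_inj h5).symm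
  · -- the characteristic polynomial
    have h1 := hchart 1
    rw [pow_one, pow_one] at h1
    rw [← h1, hc, Matrix.charpoly_diagonal]
    show ∏ i : Fin D.rank ⊕ Fin D.nroots, (X - C (Sum.elim (fun _ => (1 : k)) (fun s : Fin D.nroots =>
        ((∏ i, c i ^ (vec D l s i) : kˣ) : k)) i)) = _
    rw [Fintype.prod_sum_type]
    simp only [Sum.elim_inl, Sum.elim_inr, Finset.prod_const, Finset.card_univ, Fintype.card_fin, map_one]
    congr 1
    have h2 : ∏ s : Fin D.nroots, (X - C ((∏ i, c i ^ (vec D l s i) : kˣ) : k)) =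
        (((Finset.univ : Finset (Fin D.nroots)).val.map
          (fun s : Fin D.nroots => ((∏ i, c i ^ (vec D l s i) : kˣ) : k))).map (fun b => X - C b)).prod := by
      rw [Multiset.map_map]
      rfl
    rw [h2, hms1, Multiset.map_map]
    congr 1

end Cfsg.Agent.H944.TS.RVCP
end

-- part: H944/TS/Eig
section
/-!
# Eigenvalues of the elements of odd order of `²E₆(2)` on the 78-dimensional module (helper944)
-/

set_option autoImplicit false
set_option linter.unusedSectionVars false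
set_option maxRecDepth 100000

namespace Cfsg.Agent.H944.TS.Eig

open Cfsg.Agent.ChevalleyStructure.CoxeterGeom Cfsg.Agent.Tits.Roots
  Cfsg.Agent.Nodes.RGDChev
open Cfsg.Lie Cfsg.Agent.ChevalleyStructure Cfsg.Agent.ChevalleyStructure.Elts
  Cfsg.Agent.ChevalleyStructure.RootVec Cfsg.Agent.ChevalleyStructure.RootVecTab
  Cfsg.Agent.ChevalleyStructure.NPerm Cfsg.Agent.ChevalleyStructure.CoxeterGeomTypes
open Cfsg.Agent.H944.RootVals Cfsg.Agent.H944.Kac Cfsg.Agent.H944.Tab Polynomial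

universe u

theorem count_eq_sum {α : Type*} [DecidableEq α] (m : Multiset α) (c : α) :
    m.count c = (m.map (fun a => if a = c then 1 else 0)).sum := by
  induction m using Multiset.induction_on with
  | empty => simp
  | cons a m ih =>
    rw [Multiset.map_cons, Multiset.sum_cons, Multiset.count_cons, ih, add_comm]
    congr 1
    exact if_congr eq_comm rfl rfl

theorem count_ms {D : ChevalleyDatum} {l N : ℕ} (hN : 0 < N) {R : List (List ℕ)} (hR : chkTab D l R = true)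
    (hRl : ∀ r ∈ R, r.length ≤ l) (Y : List ℕ) (c : ZMod N) :
    (ms D l (fun i : Fin l => ((Y.getD i 0 : ℕ) : ZMod N))).count c =
      sumH (fun t => (if t % N = c.val then 1 else 0) + (if (N - t % N) % N = c.val then 1 else 0)) R Y := by
  have : NeZero N := ⟨hN.ne'⟩
  rw [count_eq_sum, sum_ms hR, sumH_eq]
  congr 1
  refine List.map_congr_left fun r hr => ?_
  have h7 : dotF r (fun i : Fin l => ((Y.getD i 0 : ℕ) : ZMod N)) = ((dotN r Y : ℕ) : ZMod N) := by
    rw [dotN_eq l r Y (hRl r hr)]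
    unfold dotF
    push_cast
    rfl
  rw [h7]
  congr 1
  · refine if_congr ?_ rfl rfl
    rw [← mod_iff _ (ZMod.val_lt c), ZMod.natCast_zmod_val]
  · refine if_congr ?_ rfl rfl
    rw [← neg_mod_iff hN _ (ZMod.val_lt c), ZMod.natCast_zmod_val]

theorem prod_zmod {R : Type*} [CommMonoid R] {N : ℕ} (hN : 0 < N) (f : ℕ → R) :
    haveI : NeZero N := ⟨hN.ne'⟩
    ∏ a : ZMod N, f a.val = ∏ c ∈ Finset.range N, f c := by
  obtain ⟨n, rfl⟩ := Nat.exists_eq_succ_of_ne_zero hN.ne'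
  rw [Finset.prod_range]
  rfl

theorem prod_of_count {R : Type*} [CommMonoid R] {N : ℕ} (hN : 0 < N) (m : Multiset (ZMod N)) (f : ℕ → R)
    (T : List ℕ) (h : ∀ c : ZMod N, m.count c = T.getD c.val 0) :
    (m.map (fun a : ZMod N => f a.val)).prod = ∏ c ∈ Finset.range N, f c ^ (T.getD c 0) := by
  classical
  have : NeZero N := ⟨hN.ne'⟩
  rw [Finset.prod_multiset_map_count, ← prod_zmod hN (fun c => f c ^ (T.getD c 0))]
  rw [Finset.prod_subset (Finset.subset_univ _)]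
  · refine Finset.prod_congr rfl fun a _ => ?_
    rw [h]
  · intro a _ ha
    rw [Multiset.mem_toFinset, ← Multiset.count_eq_zero] at ha
    rw [ha, pow_zero]

theorem simple_mem_ms {D : ChevalleyDatum} {l : ℕ} {M : CoxeterMatrix (Fin l)} (hp : IsType D l M)
    {R : Type*} [CommRing R] (v : Fin l → R) (i : Fin l) : v i ∈ ms D l v := by
  unfold ms
  rw [Multiset.mem_map]
  have hlt := NPerm.simple_lt hp.inList (lt_rank hp i)
  refine ⟨⟨D.simple i, hlt⟩, Finset.mem_univ_val _, ?_⟩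
  show ∑ k, (vec D l (D.simple i) k : R) * v k = v i
  rw [vec_simple hp i, Finset.sum_eq_single i]
  · rw [sr_self, Int.cast_one, one_mul]
  · intro k _ hik
    rw [sr_ne hik, Int.cast_zero, zero_mul]
  · intro h
    exact absurd (Finset.mem_univ i) h

theorem rank_E6 : chevE6.rank = 6 := rfl

variable {K : Type u} [Field K] [Fintype K]

/-- The characteristic polynomial of an element of `²E₆(2)` is fixed by the Frobenius map. -/
theorem charpoly_frob (hK : Fintype.card K = 4) [CharP K 2] {x : GL chevE6.Idx K} (hx : x ∈ twistedE6 K 2) :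
    (x : Matrix chevE6.Idx chevE6.Idx K).charpoly.map (iterateFrobenius K 2 1) =
      (x : Matrix chevE6.Idx chevE6.Idx K).charpoly := by
  have : Fact (Nat.Prime 2) := ⟨Nat.prime_two⟩
  have hφ : ∀ t : K, iterateFrobenius K 2 1 t = t ^ 2 := fun t => by
    rw [iterateFrobenius_def, pow_one]
  have hqq : ∀ t : K, (t ^ 2) ^ 2 = t := fun t => by
    rw [← pow_mul]
    have := FiniteField.pow_card t
    rwa [hK] at this
  have h1 := TwE6Basic.twisted_le_fix (iterateFrobenius K 2 1) hφ hqq hx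
  rw [TwE6Basic.mem_fix] at h1
  have h2 := congrArg (fun g : GL chevE6.Idx K => (g : Matrix chevE6.Idx chevE6.Idx K).charpoly) h1
  have h3 : TwE6Basic.sg (iterateFrobenius K 2 1) x = GraphSymm.symmE6.P K *
    Matrix.GeneralLinearGroup.map (iterateFrobenius K 2 1) x * (GraphSymm.symmE6.P K)⁻¹ := rfl
  simp only [h3] at h2
  rw [Units.val_mul, Units.val_mul, Matrix.coe_units_inv, Matrix.charpoly_units_conj] at h2
  rw [← Matrix.charpoly_map]
  exact h2

/-- **Eigenvalues.** -/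
theorem eig (hK : Fintype.card K = 4) {N : ℕ} (hN : 0 < N) (hodd : N.Coprime 2) {L : List (List ℕ)}
    (hL : chkA N L = true) {x : GL chevE6.Idx K} (hx : x ∈ twistedE6 K 2) (hxN : x ^ N = 1) :
    ∃ T ∈ L, ∃ ζ : AlgebraicClosure K, IsPrimitiveRoot ζ N ∧
      (∀ d : ℕ, (∀ c < N, T.getD c 0 ≠ 0 → N ∣ d * c) → x ^ d = 1) ∧
      (x : Matrix chevE6.Idx chevE6.Idx K).charpoly.map (algebraMap K (AlgebraicClosure K)) =
        (X - 1) ^ 6 * ∏ c ∈ Finset.range N, (X - C (ζ ^ c)) ^ (T.getD c 0) := by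
  classical
  have : Fact (Nat.Prime 2) := ⟨Nat.prime_two⟩
  have : NeZero N := ⟨hN.ne'⟩
  have hch : CharP K 2 := by
    obtain ⟨p, hp⟩ := CharP.exists K
    have hp2 : p ∣ 2 ^ 2 := by
      have h0 := FiniteField.cast_card_eq_zero K
      rw [hK] at h0
      exact (CharP.cast_eq_zero_iff K p (2 ^ 2)).1 (by exact_mod_cast h0)
    have hpp : p.Prime := (CharP.char_is_prime_or_zero K p).resolve_right (CharP.char_ne_zero_of_finite K p)
    have : p = 2 := (Nat.prime_dvd_prime_iff_eq hpp Nat.prime_two).1 (hpp.dvd_of_dvd_pow hp2)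
    rwa [this] at hp
  let y : ↥(chevE6.group K) := ⟨x, Cfsg.Agent.BpExc.FamTw.Six.twisted_le_group 2 hx⟩
  have hyN : y ^ N = 1 := Subtype.ext hxN
  obtain ⟨v, ζ, hζ, hord, hinv, hcp⟩ := Cfsg.Agent.H944.TS.RVCP.exists_vals_cp e6T 2 (F := K) hN.ne' hodd hyN
  have hinv' := hinv 1 (charpoly_frob hK hx)
  rw [pow_one] at hinv'
  let P : (Fin 6 → ZMod N) → Prop := fun w => ms chevE6 6 w = ms chevE6 6 v
  have hPs : ∀ w j, P w → P (srefl chevE6 6 j w) := by
    intro w j hw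
    show ms chevE6 6 (srefl chevE6 6 j w) = _
    rw [ms_srefl e6T]
    exact hw
  obtain ⟨z, hz, hθ⟩ := exists_alcove e6T (N := N) hN _ _ 24 (by norm_num) theta6
    (by decide) _ pos6 P hPs (v₀ := v) rfl
  let Y : List ℕ := List.ofFn z
  have hY : ∀ i : Fin 6, Y.getD i 0 = z i := by
    intro i
    rw [List.getD_eq_getElem _ _ (by rw [List.length_ofFn]; exact i.2), List.getElem_ofFn]
  have h1 : dotN th6 Y ≤ N := by
    rw [dotN_eq 6 th6 Y (by decide)]
    have h2 : ∑ i : Fin 6, th6.getD i 0 * Y.getD i 0 = ∑ i : Fin 6, th6.getD i 0 * z i :=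
      Finset.sum_congr rfl fun i _ => by rw [hY]
    rw [h2]
    simp only [Fin.sum_univ_six, Matrix.cons_val] at hθ ⊢
    simp only [th6, List.getD_cons_zero, List.getD_cons_succ] at hθ ⊢
    norm_num at hθ ⊢
    omega
  have h2 := allAlc_spec th6 N _ (by decide) hL Y (by simp [Y, th6]) h1
  have h3 : (fun i : Fin 6 => ((Y.getD i 0 : ℕ) : ZMod N)) = fun i => (z i : ZMod N) := by
    funext i
    rw [hY]
  have hPz : ms chevE6 6 (fun i : Fin 6 => ((Y.getD i 0 : ℕ) : ZMod N)) = ms chevE6 6 v := by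
    rw [h3]; exact hz
  have h4 : invB N 2 R6 Y = true := by
    refine invB_of hN tab6 len6 ?_
    rw [hPz]
    exact hinv'
  rw [h4, cond_true, chkT, List.any_eq_true] at h2
  obtain ⟨T, hT, hT2⟩ := h2
  rw [List.all_eq_true] at hT2
  have hcount : ∀ c : ZMod N, (ms chevE6 6 v).count c = T.getD c.val 0 := by
    intro c
    have h5 := hT2 c.val (List.mem_range.2 (ZMod.val_lt c))
    rw [Nat.beq_eq] at h5
    rw [← h5, ← hPz]
    exact count_ms hN tab6 len6 Y c
  refine ⟨T, hT, ζ, hζ, fun d hd => ?_, ?_⟩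
  · have h5 : y ^ d = 1 := by
      rw [← hord]
      intro i
      have h6 : v i ∈ ms chevE6 6 v := simple_mem_ms e6T v i
      have h7 : T.getD (v i).val 0 ≠ 0 := by
        rw [← hcount]
        exact (Multiset.count_pos.2 h6).ne'
      have h8 := hd _ (ZMod.val_lt _) h7
      rw [← ZMod.natCast_zmod_val (v i), ← Nat.cast_mul, ZMod.natCast_eq_zero_iff]
      exact h8
    exact congrArg Subtype.val h5
  · rw [hcp, rank_E6, prod_of_count hN _ (fun c => X - C (ζ ^ c)) T hcount]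

end Cfsg.Agent.H944.TS.Eig
end

private theorem dce_ecd06d02f4bf : _root_.True := by
  try have : _root_.True := by simp only [_root_.Cfsg.Agent.H944.TS.Eig.chkT.eq_1]
  try have : _root_.True := by simp only [_root_.Cfsg.Agent.H944.TS.Eig.th6.eq_1]
  exact _root_.True.intro
end

-- part: H898/TSSz
section
prune_inst 0x24100420792210000000051222000060100004000000040004e1010008096c4209020040b2100003508080844038000000540000420000000a000400011d05a18880420c3200a10c240087000000000000000000020000000000000000000000200000000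
set_option linter.all false
open scoped Cfsg.Agent.FastGrp

-- part: H898/TSETwo
section
/-!
# The second coefficient of the characteristic polynomial; the sum over a 2-group (helper898)

* `e2` : the sum of the principal `2 × 2` minors, = the coefficient of degree `n - 2` of the characteristic polynomial.
* `e2_add`, `e2_list` : `e₂` of a sum.
* `sum_eq_zero` : a finite `p`-group acting in characteristic `p` on a space of smaller dimension than its order: the
  sum of its elements is 0.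
-/

set_option autoImplicit false
set_option linter.unusedSectionVars false

namespace Cfsg.Agent.H898.TSETwo

open Matrix Finset

universe u v

section e2

variable {n : Type v} {R : Type u} [Fintype n] [DecidableEq n] [CommRing R]

/-- the sum of the principal `2 × 2` minors -/
def e2 (M : Matrix n n R) : R :=
  ∑ s ∈ (univ : Finset n).powersetCard 2, (M.submatrix (Subtype.val : s → n) (Subtype.val : s → n)).det

theorem coeff_eq (M : Matrix n n R) (h : 2 ≤ Fintype.card n) : M.charpoly.coeff (Fintype.card n - 2) = e2 M := by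
  rw [charpoly_coeff_eq_sum_minors M 2 h]
  unfold e2
  norm_num only [_root_.one_mul]

theorem det_pair (M : Matrix n n R) {i j : n} (hij : i ≠ j) :
    (M.submatrix (Subtype.val : ({i, j} : Finset n) → n) (Subtype.val : ({i, j} : Finset n) → n)).det =
      M i i * M j j - M i j * M j i := by
  have hi : i ∈ ({i, j} : Finset n) := by simp
  have hj : j ∈ ({i, j} : Finset n) := by simp
  let f : Fin 2 → ({i, j} : Finset n) := ![⟨i, hi⟩, ⟨j, hj⟩]
  have hf : Function.Bijective f := by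
    constructor
    · intro a b hab
      have h1 := congrArg Subtype.val hab
      fin_cases a <;> fin_cases b
      · rfl
      · exact absurd h1 hij
      · exact absurd h1.symm hij
      · rfl
    · rintro ⟨x, hx⟩
      rcases Finset.mem_insert.1 hx with h | h
      · exact ⟨0, Subtype.ext h.symm⟩
      · exact ⟨1, Subtype.ext (Finset.mem_singleton.1 h).symm⟩
  rw [← Matrix.det_submatrix_equiv_self (Equiv.ofBijective f hf), Matrix.det_fin_two]
  rfl

/-- the sum over the two orientations of a pair -/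
theorem pair_add (A B : Matrix n n R) {s : Finset n} (hs : s ∈ (univ : Finset n).powersetCard 2) :
    ((A + B).submatrix (Subtype.val : s → n) (Subtype.val : s → n)).det =
      (A.submatrix (Subtype.val : s → n) (Subtype.val : s → n)).det +
      (B.submatrix (Subtype.val : s → n) (Subtype.val : s → n)).det +
      ∑ p ∈ s.offDiag, (A p.1 p.1 * B p.2 p.2 - A p.1 p.2 * B p.2 p.1) := by
  obtain ⟨i, j, hij, rfl⟩ := Finset.card_eq_two.1 (Finset.mem_powersetCard.1 hs).2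
  rw [det_pair _ hij, det_pair _ hij, det_pair _ hij]
  have h1 : ({i, j} : Finset n).offDiag = {(i, j), (j, i)} := by
    ext ⟨a, b⟩
    simp only [Finset.mem_offDiag, Finset.mem_insert, Finset.mem_singleton, Prod.mk.injEq]
    constructor
    · rintro ⟨rfl | rfl, rfl | rfl, h⟩
      · exact absurd rfl h
      · exact Or.inl ⟨rfl, rfl⟩
      · exact Or.inr ⟨rfl, rfl⟩
      · exact absurd rfl h
    · rintro (⟨rfl, rfl⟩ | ⟨rfl, rfl⟩)
      · exact ⟨Or.inl rfl, Or.inr rfl, hij⟩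
      · exact ⟨Or.inr rfl, Or.inl rfl, hij.symm⟩
  rw [h1, Finset.sum_pair (by
    intro h
    exact hij (Prod.mk.inj h).1)]
  simp only [Matrix.add_apply]
  ring

theorem e2_add (A B : Matrix n n R) : e2 (A + B) = e2 A + e2 B + (A.trace * B.trace - (A * B).trace) := by
  unfold e2
  rw [Finset.sum_congr rfl fun s hs => pair_add A B hs, Finset.sum_add_distrib, Finset.sum_add_distrib]
  congr 1
  have h1 : ∑ s ∈ (univ : Finset n).powersetCard 2, ∑ p ∈ s.offDiag, (A p.1 p.1 * B p.2 p.2 - A p.1 p.2 * B p.2 p.1) =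
      ∑ p ∈ (univ : Finset n).offDiag, ∑ s ∈ ({({p.1, p.2} : Finset n)} : Finset (Finset n)),
        (A p.1 p.1 * B p.2 p.2 - A p.1 p.2 * B p.2 p.1) := by
    apply Finset.sum_comm'
    rintro s ⟨a, b⟩
    simp only [Finset.mem_powersetCard, Finset.subset_univ, true_and, Finset.mem_offDiag, Finset.mem_singleton,
      Finset.mem_univ]
    constructor
    · rintro ⟨h2, ha, hb, hab⟩
      refine ⟨?_, hab⟩
      symm
      apply Finset.eq_of_subset_of_card_le
      · intro x hx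
        rcases Finset.mem_insert.1 hx with rfl | hx
        · exact ha
        · rw [Finset.mem_singleton.1 hx]; exact hb
      · rw [h2, Finset.card_pair hab]
    · rintro ⟨rfl, hab⟩
      exact ⟨Finset.card_pair hab, by simp, by simp, hab⟩
  rw [h1]
  simp only [Finset.sum_singleton]
  have h2 : ∑ p ∈ (univ : Finset n).offDiag, (A p.1 p.1 * B p.2 p.2 - A p.1 p.2 * B p.2 p.1) =
      ∑ p : n × n, (A p.1 p.1 * B p.2 p.2 - A p.1 p.2 * B p.2 p.1) := by
    apply Finset.sum_subset (Finset.subset_univ _)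
    rintro ⟨a, b⟩ _ h
    simp only [Finset.mem_offDiag, Finset.mem_univ, true_and, not_not] at h
    subst h
    ring
  rw [h2, Finset.sum_sub_distrib, Fintype.sum_prod_type, Fintype.sum_prod_type]
  congr 1
  · simp only [Matrix.trace, Matrix.diag_apply]
    rw [Finset.sum_mul_sum]

theorem e2_zero : e2 (0 : Matrix n n R) = 0 := by
  have := e2_add (0 : Matrix n n R) 0
  simp only [add_zero, Matrix.trace_zero, mul_zero, sub_zero] at this
  exact left_eq_add.1 this

/-- the mixed terms of a list -/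
def mix : List (Matrix n n R) → R
  | [] => 0
  | A :: l => (l.map fun B => A.trace * B.trace - (A * B).trace).sum + mix l

theorem e2_list : ∀ l : List (Matrix n n R), e2 l.sum = (l.map e2).sum + mix l
  | [] => by rw [List.sum_nil, e2_zero]; simp [mix]
  | A :: l => by
    have h1 : ∀ l : List (Matrix n n R), A.trace * l.sum.trace - (A * l.sum).trace =
        (l.map fun B => A.trace * B.trace - (A * B).trace).sum := by
      intro l
      induction l with
      | nil => simp only [_root_.List.sum_nil, _root_.Matrix.trace_zero, _root_.MulZeroClass.mul_zero, _root_.sub_self, _root_.List.map_nil]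
      | cons B l ih =>
        rw [List.sum_cons, List.map_cons, List.sum_cons, ← ih, Matrix.trace_add, Matrix.mul_add, Matrix.trace_add]
        ring
    rw [List.sum_cons, e2_add, e2_list l, h1, List.map_cons, List.sum_cons, mix]
    ring

end e2

section sum

open Module

/-- **a `p`-group acting in characteristic `p` on a space of dimension less than its order** -/
theorem sum_eq_zero {P : Type*} [Group P] [Fintype P] {p : ℕ} [Fact p.Prime] (hP : IsPGroup p P) {k V : Type*}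
    [Field k] [Finite k] [CharP k p] [AddCommGroup V] [Module k V] [FiniteDimensional k V] (ρ : P →* End k V)
    (h : finrank k V < Fintype.card P) : ∑ g, ρ g = 0 := by
  classical
  by_contra hne
  have hw : ∃ w, (∑ g, ρ g) w ≠ 0 := by
    by_contra hcon
    push Not at hcon
    exact hne (LinearMap.ext hcon)
  obtain ⟨w, hw⟩ := hw
  rw [LinearMap.sum_apply] at hw
  let T : (P → k) →ₗ[k] V := ∑ g, (LinearMap.proj g).smulRight (ρ g w)
  have hT : ∀ a, T a = ∑ g, a g • ρ g w := fun a => by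
    simp only [T, LinearMap.sum_apply, LinearMap.smulRight_apply, LinearMap.proj_apply]
  have hTh : ∀ (x : P) a, T (fun g => a (x⁻¹ * g)) = ρ x (T a) := by
    intro x a
    rw [hT, hT, map_sum, ← Equiv.sum_comp (Equiv.mulLeft x)]
    refine Finset.sum_congr rfl fun g _ => ?_
    rw [map_smul, Equiv.coe_mulLeft, inv_mul_cancel_left, map_mul]
    rfl
  let act : MulAction P T.ker :=
    { smul := fun x a => ⟨fun g => a.1 (x⁻¹ * g), by
        rw [LinearMap.mem_ker, hTh, LinearMap.mem_ker.1 a.2, map_zero]⟩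
      one_smul := fun a => by
        apply Subtype.ext
        funext g
        show a.1 (1⁻¹ * g) = a.1 g
        rw [inv_one, one_mul]
      mul_smul := fun x y a => by
        apply Subtype.ext
        funext g
        show a.1 ((x * y)⁻¹ * g) = a.1 (y⁻¹ * (x⁻¹ * g))
        rw [_root_.mul_inv_rev, mul_assoc] }
  have hfin : Finite (P → k) := inferInstance
  have hfin' : Finite T.ker := inferInstance
  have hker : T.ker ≠ ⊥ := by
    intro hbot
    have h1 := LinearMap.finrank_le_finrank_of_injective (LinearMap.ker_eq_bot.1 hbot)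
    rw [finrank_fintype_fun_eq_card] at h1
    omega
  have hpd : p ∣ Nat.card T.ker := by
    have : Nontrivial T.ker := (Submodule.nontrivial_iff_ne_bot).2 hker
    obtain ⟨q, hq⟩ := exists_ne (0 : T.ker)
    have hord : addOrderOf q = p := by
      apply addOrderOf_eq_prime
      · apply Subtype.ext
        rw [Submodule.coe_smul_of_tower]
        funext g
        show p • q.1 g = 0
        rw [nsmul_eq_mul, CharP.cast_eq_zero, zero_mul]
      · exact hq
    rw [← hord]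
    exact addOrderOf_dvd_natCard q
  have h0 : (0 : T.ker) ∈ MulAction.fixedPoints P T.ker := by
    intro x
    apply Subtype.ext
    rfl
  obtain ⟨b, hb, hb0⟩ := hP.exists_fixed_point_of_prime_dvd_card_of_fixed_point T.ker hpd h0
  have hconst : ∀ g, b.1 g = b.1 1 := by
    intro g
    have h1 := congrArg (fun a : T.ker => a.1 g) (hb g)
    have h2 : b.1 (g⁻¹ * g) = b.1 g := h1
    rw [inv_mul_cancel] at h2
    exact h2.symm
  have hb1 : b.1 1 ≠ 0 := by
    intro h1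
    apply hb0
    apply Subtype.ext
    funext g
    rw [hconst, h1]
    rfl
  have h2 : T b.1 = 0 := LinearMap.mem_ker.1 b.2
  rw [hT] at h2
  have h3 : ∑ g, b.1 g • ρ g w = b.1 1 • ∑ g, ρ g w := by
    rw [Finset.smul_sum]
    exact Finset.sum_congr rfl fun g _ => by rw [hconst]
  rw [h3] at h2
  exact hw ((smul_eq_zero.1 h2).resolve_left hb1)

end sum

end Cfsg.Agent.H898.TSETwo
end

-- part: H898/TSSz
section
/-!
# `Sz(8)` on a 27-dimensional module in characteristic 2 (helper898)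

The sum over a Sylow 2-subgroup is 0 on a module of dimension less than 64; the first and second coefficients of the
characteristic polynomial of `w * (sum)` give two relations between the first two coefficients of the characteristic
polynomials of the elements of `Sz(8)`: `false_core`.
-/

set_option autoImplicit false
set_option linter.unusedVariables false
set_option linter.unusedSectionVars false
set_option linter.style.longLine false

namespace Cfsg.Agent.H898.TSSz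

open scoped Matrix
open Cfsg.Agent.LieRecognition.SzMatrix Cfsg.Agent.H423.SzEight Cfsg.Agent.H898.TSETwo

/-! ### codes -/

/-- multiplication table of the field with 8 elements, `a ^ 3 = a + 1`, codes `c₀ + 2 c₁ + 4 c₂` -/
def T8 : ℕ := 2821848294356612419217921029917578219971947684264937521152

/-- multiplication of codes -/
def m8 (x y : ℕ) : ℕ := (T8 >>> (3 * (8 * x + y))) % 8

section codes

variable {F : Type*} [Field F] {a : F}

/-- the element with a given code -/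
def ev (a : F) (c : ℕ) : F := ([0, 1, a, a + 1, a ^ 2, a ^ 2 + 1, a ^ 2 + a, a ^ 2 + a + 1] : List F).getD c 0
theorem ev_mul (ha : a ^ 3 = a + 1) (h2 : (2 : F) = 0) : ∀ x < 8, ∀ y < 8, ev a (m8 x y) = ev a x * ev a y := by
  intro x hx y hy
  interval_cases x <;> interval_cases y
  · rw [show m8 0 0 = 0 from by decide]; show (0 : F) = (0) * (0); linear_combination (0) * ha + (0) * h2
  · rw [show m8 0 1 = 0 from by decide]; show (0 : F) = (0) * (1); linear_combination (0) * ha + (0) * h2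
  · rw [show m8 0 2 = 0 from by decide]; show (0 : F) = (0) * (a); linear_combination (0) * ha + (0) * h2
  · rw [show m8 0 3 = 0 from by decide]; show (0 : F) = (0) * (a + 1); linear_combination (0) * ha + (0) * h2
  · rw [show m8 0 4 = 0 from by decide]; show (0 : F) = (0) * (a ^ 2); linear_combination (0) * ha + (0) * h2
  · rw [show m8 0 5 = 0 from by decide]; show (0 : F) = (0) * (a ^ 2 + 1); linear_combination (0) * ha + (0) * h2
  · rw [show m8 0 6 = 0 from by decide]; show (0 : F) = (0) * (a ^ 2 + a); linear_combination (0) * ha + (0) * h2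
  · rw [show m8 0 7 = 0 from by decide]; show (0 : F) = (0) * (a ^ 2 + a + 1); linear_combination (0) * ha + (0) * h2
  · rw [show m8 1 0 = 0 from by decide]; show (0 : F) = (1) * (0); linear_combination (0) * ha + (0) * h2
  · rw [show m8 1 1 = 1 from by decide]; show (1 : F) = (1) * (1); linear_combination (0) * ha + (0) * h2
  · rw [show m8 1 2 = 2 from by decide]; show (a : F) = (1) * (a); linear_combination (0) * ha + (0) * h2
  · rw [show m8 1 3 = 3 from by decide]; show (a + 1 : F) = (1) * (a + 1); linear_combination (0) * ha + (0) * h2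
  · rw [show m8 1 4 = 4 from by decide]; show (a ^ 2 : F) = (1) * (a ^ 2); linear_combination (0) * ha + (0) * h2
  · rw [show m8 1 5 = 5 from by decide]; show (a ^ 2 + 1 : F) = (1) * (a ^ 2 + 1); linear_combination (0) * ha + (0) * h2
  · rw [show m8 1 6 = 6 from by decide]; show (a ^ 2 + a : F) = (1) * (a ^ 2 + a); linear_combination (0) * ha + (0) * h2
  · rw [show m8 1 7 = 7 from by decide]; show (a ^ 2 + a + 1 : F) = (1) * (a ^ 2 + a + 1); linear_combination (0) * ha + (0) * h2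
  · rw [show m8 2 0 = 0 from by decide]; show (0 : F) = (a) * (0); linear_combination (0) * ha + (0) * h2
  · rw [show m8 2 1 = 2 from by decide]; show (a : F) = (a) * (1); linear_combination (0) * ha + (0) * h2
  · rw [show m8 2 2 = 4 from by decide]; show (a ^ 2 : F) = (a) * (a); linear_combination (0) * ha + (0) * h2
  · rw [show m8 2 3 = 6 from by decide]; show (a ^ 2 + a : F) = (a) * (a + 1); linear_combination (0) * ha + (0) * h2
  · rw [show m8 2 4 = 3 from by decide]; show (a + 1 : F) = (a) * (a ^ 2); linear_combination (-1) * ha + (0) * h2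
  · rw [show m8 2 5 = 1 from by decide]; show (1 : F) = (a) * (a ^ 2 + 1); linear_combination (-1) * ha + (-a) * h2
  · rw [show m8 2 6 = 7 from by decide]; show (a ^ 2 + a + 1 : F) = (a) * (a ^ 2 + a); linear_combination (-1) * ha + (0) * h2
  · rw [show m8 2 7 = 5 from by decide]; show (a ^ 2 + 1 : F) = (a) * (a ^ 2 + a + 1); linear_combination (-1) * ha + (-a) * h2
  · rw [show m8 3 0 = 0 from by decide]; show (0 : F) = (a + 1) * (0); linear_combination (0) * ha + (0) * h2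
  · rw [show m8 3 1 = 3 from by decide]; show (a + 1 : F) = (a + 1) * (1); linear_combination (0) * ha + (0) * h2
  · rw [show m8 3 2 = 6 from by decide]; show (a ^ 2 + a : F) = (a + 1) * (a); linear_combination (0) * ha + (0) * h2
  · rw [show m8 3 3 = 5 from by decide]; show (a ^ 2 + 1 : F) = (a + 1) * (a + 1); linear_combination (0) * ha + (-a) * h2
  · rw [show m8 3 4 = 7 from by decide]; show (a ^ 2 + a + 1 : F) = (a + 1) * (a ^ 2); linear_combination (-1) * ha + (0) * h2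
  · rw [show m8 3 5 = 4 from by decide]; show (a ^ 2 : F) = (a + 1) * (a ^ 2 + 1); linear_combination (-1) * ha + (-a - 1) * h2
  · rw [show m8 3 6 = 1 from by decide]; show (1 : F) = (a + 1) * (a ^ 2 + a); linear_combination (-1) * ha + (-a ^ 2 - a) * h2
  · rw [show m8 3 7 = 2 from by decide]; show (a : F) = (a + 1) * (a ^ 2 + a + 1); linear_combination (-1) * ha + (-a ^ 2 - a - 1) * h2
  · rw [show m8 4 0 = 0 from by decide]; show (0 : F) = (a ^ 2) * (0); linear_combination (0) * ha + (0) * h2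
  · rw [show m8 4 1 = 4 from by decide]; show (a ^ 2 : F) = (a ^ 2) * (1); linear_combination (0) * ha + (0) * h2
  · rw [show m8 4 2 = 3 from by decide]; show (a + 1 : F) = (a ^ 2) * (a); linear_combination (-1) * ha + (0) * h2
  · rw [show m8 4 3 = 7 from by decide]; show (a ^ 2 + a + 1 : F) = (a ^ 2) * (a + 1); linear_combination (-1) * ha + (0) * h2
  · rw [show m8 4 4 = 6 from by decide]; show (a ^ 2 + a : F) = (a ^ 2) * (a ^ 2); linear_combination (-a) * ha + (0) * h2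
  · rw [show m8 4 5 = 2 from by decide]; show (a : F) = (a ^ 2) * (a ^ 2 + 1); linear_combination (-a) * ha + (-a ^ 2) * h2
  · rw [show m8 4 6 = 5 from by decide]; show (a ^ 2 + 1 : F) = (a ^ 2) * (a ^ 2 + a); linear_combination (-a - 1) * ha + (-a) * h2
  · rw [show m8 4 7 = 1 from by decide]; show (1 : F) = (a ^ 2) * (a ^ 2 + a + 1); linear_combination (-a - 1) * ha + (-a ^ 2 - a) * h2
  · rw [show m8 5 0 = 0 from by decide]; show (0 : F) = (a ^ 2 + 1) * (0); linear_combination (0) * ha + (0) * h2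
  · rw [show m8 5 1 = 5 from by decide]; show (a ^ 2 + 1 : F) = (a ^ 2 + 1) * (1); linear_combination (0) * ha + (0) * h2
  · rw [show m8 5 2 = 1 from by decide]; show (1 : F) = (a ^ 2 + 1) * (a); linear_combination (-1) * ha + (-a) * h2
  · rw [show m8 5 3 = 4 from by decide]; show (a ^ 2 : F) = (a ^ 2 + 1) * (a + 1); linear_combination (-1) * ha + (-a - 1) * h2
  · rw [show m8 5 4 = 2 from by decide]; show (a : F) = (a ^ 2 + 1) * (a ^ 2); linear_combination (-a) * ha + (-a ^ 2) * h2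
  · rw [show m8 5 5 = 7 from by decide]; show (a ^ 2 + a + 1 : F) = (a ^ 2 + 1) * (a ^ 2 + 1); linear_combination (-a) * ha + (-a ^ 2) * h2
  · rw [show m8 5 6 = 3 from by decide]; show (a + 1 : F) = (a ^ 2 + 1) * (a ^ 2 + a); linear_combination (-a - 1) * ha + (-a ^ 2 - a) * h2
  · rw [show m8 5 7 = 6 from by decide]; show (a ^ 2 + a : F) = (a ^ 2 + 1) * (a ^ 2 + a + 1); linear_combination (-a - 1) * ha + (-a ^ 2 - a - 1) * h2
  · rw [show m8 6 0 = 0 from by decide]; show (0 : F) = (a ^ 2 + a) * (0); linear_combination (0) * ha + (0) * h2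
  · rw [show m8 6 1 = 6 from by decide]; show (a ^ 2 + a : F) = (a ^ 2 + a) * (1); linear_combination (0) * ha + (0) * h2
  · rw [show m8 6 2 = 7 from by decide]; show (a ^ 2 + a + 1 : F) = (a ^ 2 + a) * (a); linear_combination (-1) * ha + (0) * h2
  · rw [show m8 6 3 = 1 from by decide]; show (1 : F) = (a ^ 2 + a) * (a + 1); linear_combination (-1) * ha + (-a ^ 2 - a) * h2
  · rw [show m8 6 4 = 5 from by decide]; show (a ^ 2 + 1 : F) = (a ^ 2 + a) * (a ^ 2); linear_combination (-a - 1) * ha + (-a) * h2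
  · rw [show m8 6 5 = 3 from by decide]; show (a + 1 : F) = (a ^ 2 + a) * (a ^ 2 + 1); linear_combination (-a - 1) * ha + (-a ^ 2 - a) * h2
  · rw [show m8 6 6 = 2 from by decide]; show (a : F) = (a ^ 2 + a) * (a ^ 2 + a); linear_combination (-a - 2) * ha + (-a ^ 2 - a - 1) * h2
  · rw [show m8 6 7 = 4 from by decide]; show (a ^ 2 : F) = (a ^ 2 + a) * (a ^ 2 + a + 1); linear_combination (-a - 2) * ha + (-a ^ 2 - 2 * a - 1) * h2
  · rw [show m8 7 0 = 0 from by decide]; show (0 : F) = (a ^ 2 + a + 1) * (0); linear_combination (0) * ha + (0) * h2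
  · rw [show m8 7 1 = 7 from by decide]; show (a ^ 2 + a + 1 : F) = (a ^ 2 + a + 1) * (1); linear_combination (0) * ha + (0) * h2
  · rw [show m8 7 2 = 5 from by decide]; show (a ^ 2 + 1 : F) = (a ^ 2 + a + 1) * (a); linear_combination (-1) * ha + (-a) * h2
  · rw [show m8 7 3 = 2 from by decide]; show (a : F) = (a ^ 2 + a + 1) * (a + 1); linear_combination (-1) * ha + (-a ^ 2 - a - 1) * h2
  · rw [show m8 7 4 = 1 from by decide]; show (1 : F) = (a ^ 2 + a + 1) * (a ^ 2); linear_combination (-a - 1) * ha + (-a ^ 2 - a) * h2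
  · rw [show m8 7 5 = 6 from by decide]; show (a ^ 2 + a : F) = (a ^ 2 + a + 1) * (a ^ 2 + 1); linear_combination (-a - 1) * ha + (-a ^ 2 - a - 1) * h2
  · rw [show m8 7 6 = 4 from by decide]; show (a ^ 2 : F) = (a ^ 2 + a + 1) * (a ^ 2 + a); linear_combination (-a - 2) * ha + (-a ^ 2 - 2 * a - 1) * h2
  · rw [show m8 7 7 = 3 from by decide]; show (a + 1 : F) = (a ^ 2 + a + 1) * (a ^ 2 + a + 1); linear_combination (-a - 2) * ha + (-2 * a ^ 2 - 2 * a - 1) * h2

theorem ev_add (h2 : (2 : F) = 0) : ∀ x < 8, ∀ y < 8, ev a (x ^^^ y) = ev a x + ev a y := by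
  intro x hx y hy
  interval_cases x <;> interval_cases y
  · rw [show (0 ^^^ 0 : ℕ) = 0 from by decide]; show (0 : F) = (0) + (0); linear_combination (0) * h2
  · rw [show (0 ^^^ 1 : ℕ) = 1 from by decide]; show (1 : F) = (0) + (1); linear_combination (0) * h2
  · rw [show (0 ^^^ 2 : ℕ) = 2 from by decide]; show (a : F) = (0) + (a); linear_combination (0) * h2
  · rw [show (0 ^^^ 3 : ℕ) = 3 from by decide]; show (a + 1 : F) = (0) + (a + 1); linear_combination (0) * h2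
  · rw [show (0 ^^^ 4 : ℕ) = 4 from by decide]; show (a ^ 2 : F) = (0) + (a ^ 2); linear_combination (0) * h2
  · rw [show (0 ^^^ 5 : ℕ) = 5 from by decide]; show (a ^ 2 + 1 : F) = (0) + (a ^ 2 + 1); linear_combination (0) * h2
  · rw [show (0 ^^^ 6 : ℕ) = 6 from by decide]; show (a ^ 2 + a : F) = (0) + (a ^ 2 + a); linear_combination (0) * h2
  · rw [show (0 ^^^ 7 : ℕ) = 7 from by decide]; show (a ^ 2 + a + 1 : F) = (0) + (a ^ 2 + a + 1); linear_combination (0) * h2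
  · rw [show (1 ^^^ 0 : ℕ) = 1 from by decide]; show (1 : F) = (1) + (0); linear_combination (0) * h2
  · rw [show (1 ^^^ 1 : ℕ) = 0 from by decide]; show (0 : F) = (1) + (1); linear_combination (-1) * h2
  · rw [show (1 ^^^ 2 : ℕ) = 3 from by decide]; show (a + 1 : F) = (1) + (a); linear_combination (0) * h2
  · rw [show (1 ^^^ 3 : ℕ) = 2 from by decide]; show (a : F) = (1) + (a + 1); linear_combination (-1) * h2
  · rw [show (1 ^^^ 4 : ℕ) = 5 from by decide]; show (a ^ 2 + 1 : F) = (1) + (a ^ 2); linear_combination (0) * h2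
  · rw [show (1 ^^^ 5 : ℕ) = 4 from by decide]; show (a ^ 2 : F) = (1) + (a ^ 2 + 1); linear_combination (-1) * h2
  · rw [show (1 ^^^ 6 : ℕ) = 7 from by decide]; show (a ^ 2 + a + 1 : F) = (1) + (a ^ 2 + a); linear_combination (0) * h2
  · rw [show (1 ^^^ 7 : ℕ) = 6 from by decide]; show (a ^ 2 + a : F) = (1) + (a ^ 2 + a + 1); linear_combination (-1) * h2
  · rw [show (2 ^^^ 0 : ℕ) = 2 from by decide]; show (a : F) = (a) + (0); linear_combination (0) * h2
  · rw [show (2 ^^^ 1 : ℕ) = 3 from by decide]; show (a + 1 : F) = (a) + (1); linear_combination (0) * h2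
  · rw [show (2 ^^^ 2 : ℕ) = 0 from by decide]; show (0 : F) = (a) + (a); linear_combination (-a) * h2
  · rw [show (2 ^^^ 3 : ℕ) = 1 from by decide]; show (1 : F) = (a) + (a + 1); linear_combination (-a) * h2
  · rw [show (2 ^^^ 4 : ℕ) = 6 from by decide]; show (a ^ 2 + a : F) = (a) + (a ^ 2); linear_combination (0) * h2
  · rw [show (2 ^^^ 5 : ℕ) = 7 from by decide]; show (a ^ 2 + a + 1 : F) = (a) + (a ^ 2 + 1); linear_combination (0) * h2
  · rw [show (2 ^^^ 6 : ℕ) = 4 from by decide]; show (a ^ 2 : F) = (a) + (a ^ 2 + a); linear_combination (-a) * h2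
  · rw [show (2 ^^^ 7 : ℕ) = 5 from by decide]; show (a ^ 2 + 1 : F) = (a) + (a ^ 2 + a + 1); linear_combination (-a) * h2
  · rw [show (3 ^^^ 0 : ℕ) = 3 from by decide]; show (a + 1 : F) = (a + 1) + (0); linear_combination (0) * h2
  · rw [show (3 ^^^ 1 : ℕ) = 2 from by decide]; show (a : F) = (a + 1) + (1); linear_combination (-1) * h2
  · rw [show (3 ^^^ 2 : ℕ) = 1 from by decide]; show (1 : F) = (a + 1) + (a); linear_combination (-a) * h2
  · rw [show (3 ^^^ 3 : ℕ) = 0 from by decide]; show (0 : F) = (a + 1) + (a + 1); linear_combination (-a - 1) * h2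
  · rw [show (3 ^^^ 4 : ℕ) = 7 from by decide]; show (a ^ 2 + a + 1 : F) = (a + 1) + (a ^ 2); linear_combination (0) * h2
  · rw [show (3 ^^^ 5 : ℕ) = 6 from by decide]; show (a ^ 2 + a : F) = (a + 1) + (a ^ 2 + 1); linear_combination (-1) * h2
  · rw [show (3 ^^^ 6 : ℕ) = 5 from by decide]; show (a ^ 2 + 1 : F) = (a + 1) + (a ^ 2 + a); linear_combination (-a) * h2
  · rw [show (3 ^^^ 7 : ℕ) = 4 from by decide]; show (a ^ 2 : F) = (a + 1) + (a ^ 2 + a + 1); linear_combination (-a - 1) * h2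
  · rw [show (4 ^^^ 0 : ℕ) = 4 from by decide]; show (a ^ 2 : F) = (a ^ 2) + (0); linear_combination (0) * h2
  · rw [show (4 ^^^ 1 : ℕ) = 5 from by decide]; show (a ^ 2 + 1 : F) = (a ^ 2) + (1); linear_combination (0) * h2
  · rw [show (4 ^^^ 2 : ℕ) = 6 from by decide]; show (a ^ 2 + a : F) = (a ^ 2) + (a); linear_combination (0) * h2
  · rw [show (4 ^^^ 3 : ℕ) = 7 from by decide]; show (a ^ 2 + a + 1 : F) = (a ^ 2) + (a + 1); linear_combination (0) * h2
  · rw [show (4 ^^^ 4 : ℕ) = 0 from by decide]; show (0 : F) = (a ^ 2) + (a ^ 2); linear_combination (-a ^ 2) * h2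
  · rw [show (4 ^^^ 5 : ℕ) = 1 from by decide]; show (1 : F) = (a ^ 2) + (a ^ 2 + 1); linear_combination (-a ^ 2) * h2
  · rw [show (4 ^^^ 6 : ℕ) = 2 from by decide]; show (a : F) = (a ^ 2) + (a ^ 2 + a); linear_combination (-a ^ 2) * h2
  · rw [show (4 ^^^ 7 : ℕ) = 3 from by decide]; show (a + 1 : F) = (a ^ 2) + (a ^ 2 + a + 1); linear_combination (-a ^ 2) * h2
  · rw [show (5 ^^^ 0 : ℕ) = 5 from by decide]; show (a ^ 2 + 1 : F) = (a ^ 2 + 1) + (0); linear_combination (0) * h2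
  · rw [show (5 ^^^ 1 : ℕ) = 4 from by decide]; show (a ^ 2 : F) = (a ^ 2 + 1) + (1); linear_combination (-1) * h2
  · rw [show (5 ^^^ 2 : ℕ) = 7 from by decide]; show (a ^ 2 + a + 1 : F) = (a ^ 2 + 1) + (a); linear_combination (0) * h2
  · rw [show (5 ^^^ 3 : ℕ) = 6 from by decide]; show (a ^ 2 + a : F) = (a ^ 2 + 1) + (a + 1); linear_combination (-1) * h2
  · rw [show (5 ^^^ 4 : ℕ) = 1 from by decide]; show (1 : F) = (a ^ 2 + 1) + (a ^ 2); linear_combination (-a ^ 2) * h2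
  · rw [show (5 ^^^ 5 : ℕ) = 0 from by decide]; show (0 : F) = (a ^ 2 + 1) + (a ^ 2 + 1); linear_combination (-a ^ 2 - 1) * h2
  · rw [show (5 ^^^ 6 : ℕ) = 3 from by decide]; show (a + 1 : F) = (a ^ 2 + 1) + (a ^ 2 + a); linear_combination (-a ^ 2) * h2
  · rw [show (5 ^^^ 7 : ℕ) = 2 from by decide]; show (a : F) = (a ^ 2 + 1) + (a ^ 2 + a + 1); linear_combination (-a ^ 2 - 1) * h2
  · rw [show (6 ^^^ 0 : ℕ) = 6 from by decide]; show (a ^ 2 + a : F) = (a ^ 2 + a) + (0); linear_combination (0) * h2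
  · rw [show (6 ^^^ 1 : ℕ) = 7 from by decide]; show (a ^ 2 + a + 1 : F) = (a ^ 2 + a) + (1); linear_combination (0) * h2
  · rw [show (6 ^^^ 2 : ℕ) = 4 from by decide]; show (a ^ 2 : F) = (a ^ 2 + a) + (a); linear_combination (-a) * h2
  · rw [show (6 ^^^ 3 : ℕ) = 5 from by decide]; show (a ^ 2 + 1 : F) = (a ^ 2 + a) + (a + 1); linear_combination (-a) * h2
  · rw [show (6 ^^^ 4 : ℕ) = 2 from by decide]; show (a : F) = (a ^ 2 + a) + (a ^ 2); linear_combination (-a ^ 2) * h2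
  · rw [show (6 ^^^ 5 : ℕ) = 3 from by decide]; show (a + 1 : F) = (a ^ 2 + a) + (a ^ 2 + 1); linear_combination (-a ^ 2) * h2
  · rw [show (6 ^^^ 6 : ℕ) = 0 from by decide]; show (0 : F) = (a ^ 2 + a) + (a ^ 2 + a); linear_combination (-a ^ 2 - a) * h2
  · rw [show (6 ^^^ 7 : ℕ) = 1 from by decide]; show (1 : F) = (a ^ 2 + a) + (a ^ 2 + a + 1); linear_combination (-a ^ 2 - a) * h2
  · rw [show (7 ^^^ 0 : ℕ) = 7 from by decide]; show (a ^ 2 + a + 1 : F) = (a ^ 2 + a + 1) + (0); linear_combination (0) * h2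
  · rw [show (7 ^^^ 1 : ℕ) = 6 from by decide]; show (a ^ 2 + a : F) = (a ^ 2 + a + 1) + (1); linear_combination (-1) * h2
  · rw [show (7 ^^^ 2 : ℕ) = 5 from by decide]; show (a ^ 2 + 1 : F) = (a ^ 2 + a + 1) + (a); linear_combination (-a) * h2
  · rw [show (7 ^^^ 3 : ℕ) = 4 from by decide]; show (a ^ 2 : F) = (a ^ 2 + a + 1) + (a + 1); linear_combination (-a - 1) * h2
  · rw [show (7 ^^^ 4 : ℕ) = 3 from by decide]; show (a + 1 : F) = (a ^ 2 + a + 1) + (a ^ 2); linear_combination (-a ^ 2) * h2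
  · rw [show (7 ^^^ 5 : ℕ) = 2 from by decide]; show (a : F) = (a ^ 2 + a + 1) + (a ^ 2 + 1); linear_combination (-a ^ 2 - 1) * h2
  · rw [show (7 ^^^ 6 : ℕ) = 1 from by decide]; show (1 : F) = (a ^ 2 + a + 1) + (a ^ 2 + a); linear_combination (-a ^ 2 - a) * h2
  · rw [show (7 ^^^ 7 : ℕ) = 0 from by decide]; show (0 : F) = (a ^ 2 + a + 1) + (a ^ 2 + a + 1); linear_combination (-a ^ 2 - a - 1) * h2

theorem m8_lt (x y : ℕ) : m8 x y < 8 := Nat.mod_lt _ (by norm_num)

theorem xor_lt {x y : ℕ} (hx : x < 8) (hy : y < 8) : x ^^^ y < 8 := Nat.xor_lt_two_pow (n := 3) hx hy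

theorem ev_inj (ha : a ^ 3 = a + 1) (h2 : (2 : F) = 0) {x y : ℕ} (hx : x < 8) (hy : y < 8) (h : ev a x = ev a y) :
    x = y := by
  have key : ∀ c < 8, c ≠ 0 → ev a c ≠ 0 := by
    intro c hc h0 he
    have h1 : ∀ d < 8, d ≠ 0 → ∃ e, e < 8 ∧ m8 d e = 1 := by decide
    obtain ⟨e, he8, hm⟩ := h1 c hc h0
    have h3 := ev_mul ha h2 c hc e he8
    rw [hm, he, zero_mul] at h3
    have h4 : (1 : F) = 0 := h3
    exact one_ne_zero h4
  by_contra hne
  refine key (x ^^^ y) (xor_lt hx hy) (fun h0 => hne (Nat.xor_eq_zero_iff.1 h0)) ?_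
  rw [ev_add h2 x hx y hy, h]
  have : ev a y + ev a y = 2 * ev a y := by ring
  rw [this, h2, zero_mul]

/-- `x ^ 4` -/
def th8 (x : ℕ) : ℕ := m8 (m8 x x) (m8 x x)

/-- `b + a θ(a)` -/
def vv (p : ℕ × ℕ) : ℕ := p.2 ^^^ m8 p.1 (th8 p.1)

/-- `a b + a² θ(a) + θ(b)` -/
def ww (p : ℕ × ℕ) : ℕ := m8 p.1 p.2 ^^^ (m8 (m8 p.1 p.1) (th8 p.1) ^^^ th8 p.2)

/-- the trace of `w u(a,b)` -/
def t1 (p : ℕ × ℕ) : ℕ := th8 p.1 ^^^ ww p

/-- the trace of `w u(a,b) w u(c,d)` -/
def t2 (p q : ℕ × ℕ) : ℕ :=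
  m8 (th8 p.1) (th8 q.1) ^^^ (m8 (vv p) q.2 ^^^ (m8 (vv q) p.2 ^^^ m8 (ww p) (ww q)))

theorem th8_lt (x : ℕ) : th8 x < 8 := m8_lt _ _
theorem vv_lt {p : ℕ × ℕ} (h : p.2 < 8) : vv p < 8 := xor_lt h (m8_lt _ _)
theorem ww_lt (p : ℕ × ℕ) : ww p < 8 := xor_lt (m8_lt _ _) (xor_lt (m8_lt _ _) (th8_lt _))
theorem t1_lt (p : ℕ × ℕ) : t1 p < 8 := xor_lt (th8_lt _) (ww_lt _)
theorem t2_lt (p q : ℕ × ℕ) : t2 p q < 8 :=
  xor_lt (m8_lt _ _) (xor_lt (m8_lt _ _) (xor_lt (m8_lt _ _) (m8_lt _ _)))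

theorem ev_th8 [CharP F 2] (ha : a ^ 3 = a + 1) {x : ℕ} (hx : x < 8) : ev a (th8 x) = th F (ev a x) := by
  rw [th_apply, th8, ev_mul ha _root_.Cfsg.Agent.H423.SzEight.two_eq_zero _ (m8_lt _ _) _ (m8_lt _ _), ev_mul ha _root_.Cfsg.Agent.H423.SzEight.two_eq_zero _ hx _ hx]
  ring

theorem ev_vv [CharP F 2] (ha : a ^ 3 = a + 1) {p : ℕ × ℕ} (h1 : p.1 < 8) (h2 : p.2 < 8) :
    ev a (vv p) = ev a p.2 + ev a p.1 * th F (ev a p.1) := by
  rw [vv, ev_add _root_.Cfsg.Agent.H423.SzEight.two_eq_zero _ h2 _ (m8_lt _ _), ev_mul ha _root_.Cfsg.Agent.H423.SzEight.two_eq_zero _ h1 _ (th8_lt _), ev_th8 ha h1]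

theorem ev_ww [CharP F 2] (ha : a ^ 3 = a + 1) {p : ℕ × ℕ} (h1 : p.1 < 8) (h2 : p.2 < 8) :
    ev a (ww p) = ev a p.1 * ev a p.2 + ev a p.1 ^ 2 * th F (ev a p.1) + th F (ev a p.2) := by
  rw [ww, ev_add _root_.Cfsg.Agent.H423.SzEight.two_eq_zero _ (m8_lt _ _) _ (xor_lt (m8_lt _ _) (th8_lt _)),
    ev_add _root_.Cfsg.Agent.H423.SzEight.two_eq_zero _ (m8_lt _ _) _ (th8_lt _), ev_mul ha _root_.Cfsg.Agent.H423.SzEight.two_eq_zero _ h1 _ h2,
    ev_mul ha _root_.Cfsg.Agent.H423.SzEight.two_eq_zero _ (m8_lt _ _) _ (th8_lt _), ev_mul ha _root_.Cfsg.Agent.H423.SzEight.two_eq_zero _ h1 _ h1, ev_th8 ha h1, ev_th8 ha h2]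
  ring

theorem JU (θ : F →+* F) (x y : F) : J F * Umat θ x y =
    !![0, 0, 0, 1; 0, 0, 1, x; 0, 1, θ x, y + x * θ x; 1, x, y, x * y + x ^ 2 * θ x + θ y] := by
  ext i j
  (revert i j; simp only [J, Umat, Matrix.mul_apply, Fin.sum_univ_four, _root_.Fin.forall_fin_succ, _root_.Matrix.of_apply, _root_.Matrix.cons_val', _root_.Matrix.cons_val_fin_one, Fin.isValue, _root_.Matrix.cons_val_zero, _root_.Matrix.cons_val_one, _root_.Matrix.cons_val, _root_.mul_one, _root_.MulZeroClass.mul_zero, _root_.add_zero, _root_.Matrix.cons_val_succ, _root_.forall_const, _root_.true_and, _root_.MulZeroClass.zero_mul, _root_.zero_add, _root_.and_self, _root_.one_mul, _root_.implies_true])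

theorem trace_one [CharP F 2] (ha : a ^ 3 = a + 1) {p : ℕ × ℕ} (h1 : p.1 < 8) (h2 : p.2 < 8) :
    (J F * Umat (th F) (ev a p.1) (ev a p.2)).trace = ev a (t1 p) := by
  rw [t1, ev_add _root_.Cfsg.Agent.H423.SzEight.two_eq_zero _ (th8_lt _) _ (ww_lt _), ev_ww ha h1 h2, ev_th8 ha h1, JU, Matrix.trace,
    Fin.sum_univ_four]
  simp

theorem trace_two [CharP F 2] (ha : a ^ 3 = a + 1) {p q : ℕ × ℕ} (h1 : p.1 < 8) (h2 : p.2 < 8) (h3 : q.1 < 8)
    (h4 : q.2 < 8) :
    ((J F * Umat (th F) (ev a p.1) (ev a p.2)) * (J F * Umat (th F) (ev a q.1) (ev a q.2))).trace = ev a (t2 p q) := by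
  rw [t2, ev_add _root_.Cfsg.Agent.H423.SzEight.two_eq_zero _ (m8_lt _ _) _ (xor_lt (m8_lt _ _) (xor_lt (m8_lt _ _) (m8_lt _ _))),
    ev_add _root_.Cfsg.Agent.H423.SzEight.two_eq_zero _ (m8_lt _ _) _ (xor_lt (m8_lt _ _) (m8_lt _ _)),
    ev_add _root_.Cfsg.Agent.H423.SzEight.two_eq_zero _ (m8_lt _ _) _ (m8_lt _ _), ev_mul ha _root_.Cfsg.Agent.H423.SzEight.two_eq_zero _ (th8_lt _) _ (th8_lt _),
    ev_mul ha _root_.Cfsg.Agent.H423.SzEight.two_eq_zero _ (vv_lt h2) _ h4, ev_mul ha _root_.Cfsg.Agent.H423.SzEight.two_eq_zero _ (vv_lt h4) _ h2,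
    ev_mul ha _root_.Cfsg.Agent.H423.SzEight.two_eq_zero _ (ww_lt _) _ (ww_lt _), ev_ww ha h1 h2, ev_ww ha h3 h4, ev_vv ha h1 h2, ev_vv ha h3 h4,
    ev_th8 ha h1, ev_th8 ha h3, JU, JU, Matrix.trace, Fin.sum_univ_four]
  have h0 : (2 : F) = 0 := _root_.Cfsg.Agent.H423.SzEight.two_eq_zero
  simp only [_root_.Matrix.cons_mul, _root_.Nat.succ_eq_add_one, _root_.Nat.reduceAdd, _root_.Matrix.vecMul_cons, _root_.Matrix.head_cons, _root_.zero_smul, _root_.Matrix.tail_cons, _root_.one_smul, _root_.Matrix.empty_vecMul, _root_.add_zero, _root_.zero_add, _root_.Matrix.smul_cons, _root_.smul_eq_mul, _root_.mul_one, _root_.Matrix.smul_empty, _root_.Matrix.add_cons, _root_.Matrix.empty_add_empty, _root_.MulZeroClass.mul_zero, _root_.Matrix.empty_mul, _root_.Equiv.symm_apply_apply, _root_.Fin.isValue, _root_.Matrix.diag_apply, _root_.Matrix.of_apply, _root_.Matrix.cons_val', _root_.Matrix.cons_val_zero, _root_.Matrix.cons_val_fin_one, _root_.Matrix.cons_val_one,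 _root_.Matrix.cons_val]
  linear_combination (2 + ev a p.1 * ev a q.1) * h0

end codes

/-! ### the list of the 64 pairs -/

/-- the 64 pairs of codes -/
def PL : List (ℕ × ℕ) := (List.range 8).flatMap fun c => (List.range 8).map fun d => (c, d)

theorem mem_PL {p : ℕ × ℕ} (h : p ∈ PL) : p.1 < 8 ∧ p.2 < 8 := by
  unfold PL at h
  rw [List.mem_flatMap] at h
  obtain ⟨c, hc, h⟩ := h
  rw [List.mem_map] at h
  obtain ⟨d, hd, rfl⟩ := h
  exact ⟨List.mem_range.1 hc, List.mem_range.1 hd⟩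

theorem sum_flat {M : Type*} [AddCommMonoid M] (f : ℕ × ℕ → M) (l2 : List ℕ) : ∀ l1 : List ℕ,
    ((l1.flatMap fun c => l2.map fun d => (c, d)).map f).sum =
      (l1.map fun c => (l2.map fun d => f (c, d)).sum).sum
  | [] => rfl
  | c :: l1 => by
    rw [List.flatMap_cons, List.map_append, List.sum_append, sum_flat f l2 l1, List.map_cons, List.sum_cons,
      List.map_map]
    rfl

theorem sum_range8 {M : Type*} [AddCommMonoid M] (f : ℕ → M) :
    ((List.range 8).map f).sum = ∑ i ∈ Finset.range 8, f i := rfl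

/-- the values of the trace -/
def tv (B c : ℕ) : ℕ := [1, 0, B, 1, B, 1, B, 1].getD c 0

/-- the values of the second coefficient -/
def qv (c : ℕ) : ℕ := [1, 1, 1, 0, 1, 0, 1, 0].getD c 0

/-- the mixed terms -/
def nmix (B : ℕ) : List (ℕ × ℕ) → ℕ
  | [] => 0
  | p :: l => (l.map fun q => tv B (t1 p) * tv B (t1 q) + tv B (t2 p q)).sum + nmix B l

theorem check_one : (PL.map fun p => tv 1 (t1 p)).sum % 2 = 1 := by decide +kernel

theorem check_two : ((PL.map fun p => qv (t1 p)).sum + nmix 0 PL) % 2 = 1 := by decide +kernel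

section group

variable {F : Type*} [Field F] [Fintype F] [CharP F 2] (h8 : ∀ x : F, x ^ 8 = x) {a : F} (ha : a ^ 3 = a + 1)

include ha in
theorem sum_field (hF : Fintype.card F = 8) {M : Type*} [AddCommMonoid M] (f : F → M) :
    ∑ x : F, f x = ((List.range 8).map fun c => f (ev a c)).sum := by
  rw [sum_range8]
  symm
  have hinj : Set.InjOn (ev a) (Finset.range 8 : Finset ℕ) := fun x hx y hy h =>
    ev_inj ha _root_.Cfsg.Agent.H423.SzEight.two_eq_zero (by simpa using hx) (by simpa using hy) h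
  refine Finset.sum_nbij (ev a) (fun _ _ => Finset.mem_univ _) hinj ?_ (fun _ _ => rfl)
  apply Finset.surjOn_of_injOn_of_card_le (ev a) (fun _ _ => Finset.mem_coe.2 (Finset.mem_univ _)) hinj
  rw [Finset.card_univ, hF, Finset.card_range]

include ha in
theorem sum_pairs (hF : Fintype.card F = 8) {M : Type*} [AddCommMonoid M] (f : F → F → M) :
    ∑ p : F × F, f p.1 p.2 = (PL.map fun p => f (ev a p.1) (ev a p.2)).sum := by
  unfold PL
  rw [sum_flat, Fintype.sum_prod_type, sum_field ha hF]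
  congr 1
  refine List.map_congr_left fun c _ => ?_
  exact sum_field ha hF _

/-- `w u(a,b)` -/
noncomputable def gg (a : F) (p : ℕ × ℕ) : ↥(Cfsg.Lie.Sz F 4) :=
  (_root_.Cfsg.Agent.H423.SzEight.good h8).w * (_root_.Cfsg.Agent.H423.SzEight.good h8).u (ev a p.1) (ev a p.2)

theorem gg_val (p : ℕ × ℕ) : (gg h8 a p).1.1 = J F * Umat (th F) (ev a p.1) (ev a p.2) := rfl

include h8 in
/-- the orders and the traces -/
theorem cls (ha : a ^ 3 = a + 1) {g : ↥(Cfsg.Lie.Sz F 4)} {c : ℕ} (hc : c < 8) (hg : g.1.1.trace = ev a c) :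
    (c = 0 → g ^ 4 = 1) ∧ (c ≠ 0 → g ≠ 1) ∧ (c = 1 → g ^ 5 = 1) ∧ (c = 2 ∨ c = 4 ∨ c = 6 → g ^ 7 = 1) ∧
      (c = 3 ∨ c = 5 ∨ c = 7 → g ^ 13 = 1) := by
  have h2 : (2 : F) = 0 := _root_.Cfsg.Agent.H423.SzEight.two_eq_zero
  refine ⟨?_, ?_, ?_, ?_, ?_⟩
  · rintro rfl
    exact Subtype.ext (pow_zero_case h8 g.2 hg)
  · intro h0 h1
    rw [h1] at hg
    have h3 : (1 : Matrix (Fin 4) (Fin 4) F).trace = 0 := by
      rw [Matrix.trace_one]
      norm_num
      linear_combination 2 * h2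
    have h4 : ev a c = ev a 0 := by
      rw [← hg]
      exact h3
    exact h0 (ev_inj ha h2 hc (by norm_num) h4)
  · rintro rfl
    exact Subtype.ext (pow_one_case h8 g.2 hg)
  · intro h
    refine Subtype.ext (pow_seven_case h8 g.2 ?_)
    rw [hg]
    rcases h with rfl | rfl | rfl
    · exact ha
    · show (a ^ 2) ^ 3 = a ^ 2 + 1
      linear_combination (a ^ 3 + a + 1) * ha + (a) * h2
    · show (a ^ 2 + a) ^ 3 = a ^ 2 + a + 1
      linear_combination (a ^ 3 + 3 * a ^ 2 + 4 * a + 5) * ha + (3 * a ^ 2 + 4 * a + 2) * h2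
  · intro h
    refine Subtype.ext (pow_thirteen_case h8 g.2 ?_)
    rw [hg]
    rcases h with rfl | rfl | rfl
    · show (a + 1) ^ 3 = (a + 1) ^ 2 + 1
      linear_combination (1) * ha + (a ^ 2 + a) * h2
    · show (a ^ 2 + 1) ^ 3 = (a ^ 2 + 1) ^ 2 + 1
      linear_combination (a ^ 3 + 3 * a + 1) * ha + (2 * a ^ 2 + 2 * a) * h2
    · show (a ^ 2 + a + 1) ^ 3 = (a ^ 2 + a + 1) ^ 2 + 1
      linear_combination (a ^ 3 + 3 * a ^ 2 + 6 * a + 9) * ha + (6 * a ^ 2 + 8 * a + 4) * h2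

variable {ι K : Type*} [Fintype ι] [DecidableEq ι] [Field K] [Finite K] [CharP K 2]
  (φ : ↥(Cfsg.Lie.Sz F 4) →* GL ι K)

/-- the values of the first two coefficients -/
structure Spec (B : ℕ) : Prop where
  four : ∀ g, g ^ 4 = 1 → (φ g).1.trace = 1 ∧ e2 (φ g).1 = 1
  five : ∀ g, g ^ 5 = 1 → g ≠ 1 → (φ g).1.trace = 0 ∧ e2 (φ g).1 = 1
  seven : ∀ g, g ^ 7 = 1 → g ≠ 1 → (φ g).1.trace = (B : K) ∧ e2 (φ g).1 = 1
  thirteen : ∀ g, g ^ 13 = 1 → g ≠ 1 → (φ g).1.trace = 1 ∧ e2 (φ g).1 = 0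

variable {φ} {B : ℕ} (H : Spec φ B)

include h8 H in
theorem val (ha : a ^ 3 = a + 1) {g : ↥(Cfsg.Lie.Sz F 4)} {c : ℕ} (hc : c < 8) (hg : g.1.1.trace = ev a c) :
    (φ g).1.trace = ((tv B c : ℕ) : K) ∧ e2 (φ g).1 = ((qv c : ℕ) : K) := by
  obtain ⟨k0, k1, k2, k3, k4⟩ := cls h8 ha hc hg
  interval_cases c
  · have := H.four g (k0 rfl)
    simpa only [tv, qv, _root_.List.getD_eq_getElem?_getD, _root_.List.length_cons, _root_.List.length_nil, _root_.zero_add, _root_.Nat.reduceAdd, _root_.Nat.ofNat_pos, _root_.getElem?_pos, _root_.List.getElem_cons_zero, _root_.Option.getD_some, _root_.Nat.cast_one] using this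
  · have := H.five g (k2 rfl) (k1 (by norm_num))
    simpa only [tv, qv, _root_.List.getD_eq_getElem?_getD, _root_.List.length_cons, _root_.List.length_nil, _root_.zero_add, _root_.Nat.reduceAdd, _root_.Nat.one_lt_ofNat, _root_.getElem?_pos, _root_.List.getElem_cons_succ, _root_.List.getElem_cons_zero, _root_.Option.getD_some, _root_.Nat.cast_zero, _root_.Nat.cast_one] using this
  · have := H.seven g (k3 (by norm_num)) (k1 (by norm_num))
    simpa only [tv, qv, _root_.List.getD_eq_getElem?_getD, _root_.List.length_cons, _root_.List.length_nil, _root_.zero_add, _root_.Nat.reduceAdd, _root_.Nat.reduceLT, _root_.getElem?_pos, _root_.List.getElem_cons_succ, _root_.List.getElem_cons_zero, _root_.Option.getD_some, _root_.Nat.cast_one] using this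
  · have := H.thirteen g (k4 (by norm_num)) (k1 (by norm_num))
    simpa [tv, qv] using this
  · have := H.seven g (k3 (by norm_num)) (k1 (by norm_num))
    simpa only [tv, qv, _root_.List.getD_eq_getElem?_getD, _root_.List.length_cons, _root_.List.length_nil, _root_.zero_add, _root_.Nat.reduceAdd, _root_.Nat.reduceLT, _root_.getElem?_pos, _root_.List.getElem_cons_succ, _root_.List.getElem_cons_zero, _root_.Option.getD_some, _root_.Nat.cast_one] using this
  · have := H.thirteen g (k4 (by norm_num)) (k1 (by norm_num))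
    simpa [tv, qv] using this
  · have := H.seven g (k3 (by norm_num)) (k1 (by norm_num))
    simpa [tv, qv] using this
  · have := H.thirteen g (k4 (by norm_num)) (k1 (by norm_num))
    simpa only [tv, qv, _root_.List.getD_eq_getElem?_getD, _root_.List.length_cons, _root_.List.length_nil, _root_.zero_add, _root_.Nat.reduceAdd, _root_.Nat.lt_add_one, _root_.getElem?_pos, _root_.List.getElem_cons_succ, _root_.List.getElem_cons_zero, _root_.Option.getD_some, _root_.Nat.cast_one, _root_.Nat.cast_zero] using this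

/-- the matrices -/
noncomputable def AA (φ : ↥(Cfsg.Lie.Sz F 4) →* GL ι K) (a : F) (p : ℕ × ℕ) : Matrix ι ι K := (φ (gg h8 a p)).1

include H in
theorem AA_one (ha : a ^ 3 = a + 1) {p : ℕ × ℕ} (hp : p.1 < 8 ∧ p.2 < 8) :
    (AA h8 φ a p).trace = ((tv B (t1 p) : ℕ) : K) ∧ e2 (AA h8 φ a p) = ((qv (t1 p) : ℕ) : K) := by
  refine val h8 H ha (t1_lt p) ?_
  rw [gg_val, trace_one ha hp.1 hp.2]

include H in
theorem AA_two (ha : a ^ 3 = a + 1) {p q : ℕ × ℕ} (hp : p.1 < 8 ∧ p.2 < 8) (hq : q.1 < 8 ∧ q.2 < 8) :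
    (AA h8 φ a p * AA h8 φ a q).trace = ((tv B (t2 p q) : ℕ) : K) := by
  have h1 : AA h8 φ a p * AA h8 φ a q = (φ (gg h8 a p * gg h8 a q)).1 := by
    rw [map_mul]; rfl
  rw [h1]
  refine (val h8 H ha (t2_lt p q) ?_).1
  show ((gg h8 a p).1.1 * (gg h8 a q).1.1).trace = _
  rw [gg_val, gg_val, trace_two ha hp.1 hp.2 hq.1 hq.2]

theorem neg_eq' (x : K) : -x = x := by
  have h2 : (2 : K) = 0 := by
    have := CharP.cast_eq_zero K 2
    exact_mod_cast this
  linear_combination (-x) * h2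

include H in
theorem mix_eq (ha : a ^ 3 = a + 1) : ∀ l : List (ℕ × ℕ), (∀ p ∈ l, p.1 < 8 ∧ p.2 < 8) →
    mix (l.map (AA h8 φ a)) = ((nmix B l : ℕ) : K)
  | [], _ => by simp [mix, nmix]
  | p :: l, hl => by
    have hp := hl p (List.mem_cons_self ..)
    have hl' : ∀ q ∈ l, q.1 < 8 ∧ q.2 < 8 := fun q hq => hl q (List.mem_cons_of_mem _ hq)
    rw [List.map_cons, mix, mix_eq ha l hl', nmix, Nat.cast_add, List.map_map]
    congr 1
    rw [Nat.cast_list_sum, List.map_map]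
    congr 1
    refine List.map_congr_left fun q hq => ?_
    show (AA h8 φ a p).trace * (AA h8 φ a q).trace - (AA h8 φ a p * AA h8 φ a q).trace = _
    rw [(AA_one h8 H ha hp).1, (AA_one h8 H ha (hl' q hq)).1, AA_two h8 H ha hp (hl' q hq), sub_eq_add_neg, neg_eq']
    simp only [Function.comp_apply]
    push_cast
    ring

theorem sum_AA (hF : Fintype.card F = 8) (hι : Fintype.card ι < 64) (ha : a ^ 3 = a + 1) :
    (PL.map (AA h8 φ a)).sum = 0 := by
  classical
  let _ : Fintype (_root_.Cfsg.Agent.H423.SzEight.good h8).unip := Fintype.ofFinite _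
  have hcard : Fintype.card (_root_.Cfsg.Agent.H423.SzEight.good h8).unip = 64 := by
    rw [← Nat.card_eq_fintype_card, (_root_.Cfsg.Agent.H423.SzEight.good h8).card_unip, Nat.card_eq_fintype_card, hF]
    norm_num
  have hP : IsPGroup 2 (_root_.Cfsg.Agent.H423.SzEight.good h8).unip := IsPGroup.of_card (n := 6) (by
    rw [Nat.card_eq_fintype_card, hcard]; norm_num)
  have : Fact (Nat.Prime 2) := ⟨Nat.prime_two⟩
  let ρ : (_root_.Cfsg.Agent.H423.SzEight.good h8).unip →* Module.End K (ι → K) :=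
    ((Matrix.toLinAlgEquiv' : Matrix ι ι K ≃ₐ[K] Module.End K (ι → K)) : Matrix ι ι K →* Module.End K (ι → K)).comp
      ((Units.coeHom _).comp (φ.comp (_root_.Cfsg.Agent.H423.SzEight.good h8).unip.subtype))
  have h1 := sum_eq_zero hP ρ (by rw [Module.finrank_fintype_fun_eq_card, hcard]; exact hι)
  have h2 : ∑ g : (_root_.Cfsg.Agent.H423.SzEight.good h8).unip, (φ g.1).1 = 0 := by
    apply (Matrix.toLinAlgEquiv' : Matrix ι ι K ≃ₐ[K] Module.End K (ι → K)).injective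
    rw [map_sum, map_zero, ← h1]
    rfl
  have h3 : ∑ g : (_root_.Cfsg.Agent.H423.SzEight.good h8).unip, (φ g.1).1 = (PL.map fun p => (φ ((_root_.Cfsg.Agent.H423.SzEight.good h8).u (ev a p.1) (ev a p.2))).1).sum := by
    rw [← sum_pairs ha hF (fun x y => (φ ((_root_.Cfsg.Agent.H423.SzEight.good h8).u x y)).1)]
    exact (Equiv.sum_comp (_root_.Cfsg.Agent.H423.SzEight.good h8).unipEquiv (fun g : (_root_.Cfsg.Agent.H423.SzEight.good h8).unip => (φ g.1).1)).symm
  rw [h3] at h2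
  have h4 : (PL.map (AA h8 φ a)).sum =
      (φ (_root_.Cfsg.Agent.H423.SzEight.good h8).w).1 * (PL.map fun p => (φ ((_root_.Cfsg.Agent.H423.SzEight.good h8).u (ev a p.1) (ev a p.2))).1).sum := by
    rw [← List.sum_map_mul_left]
    congr 1
    refine List.map_congr_left fun p _ => ?_
    show (φ ((_root_.Cfsg.Agent.H423.SzEight.good h8).w * (_root_.Cfsg.Agent.H423.SzEight.good h8).u (ev a p.1) (ev a p.2))).1 = _
    rw [map_mul]
    rfl
  rw [h4, h2, mul_zero]

theorem cast_odd {n : ℕ} (h : n % 2 = 1) : (n : K) ≠ 0 := by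
  rw [Ne, CharP.cast_eq_zero_iff K 2]
  omega

include h8 in
/-- **the contradiction** -/
theorem false_core (hF : Fintype.card F = 8) (hι : Fintype.card ι < 64) (ha : a ^ 3 = a + 1)
    (hB : B = 0 ∨ B = 1) (H : Spec φ B) : False := by
  have h0 := sum_AA h8 (φ := φ) hF hι ha
  rcases hB with rfl | rfl
  · have h1 := e2_list (PL.map (AA h8 φ a))
    rw [h0, e2_zero, mix_eq h8 H ha PL fun p hp => mem_PL hp, List.map_map] at h1
    have h2 : (PL.map (e2 ∘ AA h8 φ a)).sum = (((PL.map fun p => qv (t1 p)).sum : ℕ) : K) := by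
      rw [Nat.cast_list_sum, List.map_map]
      congr 1
      exact List.map_congr_left fun p hp => (AA_one h8 H ha (mem_PL hp)).2
    rw [h2, ← Nat.cast_add] at h1
    exact cast_odd check_two h1.symm
  · have h1 := congrArg Matrix.trace h0
    rw [Matrix.trace_zero] at h1
    have h2 : (PL.map (AA h8 φ a)).sum.trace = (((PL.map fun p => tv 1 (t1 p)).sum : ℕ) : K) := by
      have : ∀ l : List (Matrix ι ι K), l.sum.trace = (l.map Matrix.trace).sum := by
        intro l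
        induction l with
        | nil => simp only [_root_.List.sum_nil, _root_.Matrix.trace_zero, _root_.List.map_nil]
        | cons A l ih => rw [List.sum_cons, Matrix.trace_add, ih, List.map_cons, List.sum_cons]
      rw [this, Nat.cast_list_sum, List.map_map, List.map_map]
      congr 1
      exact List.map_congr_left fun p hp => (AA_one h8 H ha (mem_PL hp)).1
    rw [h2] at h1
    exact cast_odd check_one h1

end group

end Cfsg.Agent.H898.TSSz
end

private theorem dce_f303216893c5 : _root_.True := by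
  try have : _root_.True := by simp only [_root_.Cfsg.Agent.H898.TSSz.vv.eq_1]
  try have : _root_.True := by simp only [_root_.Cfsg.Agent.H423.SzEight.th.congr_simp]
  try have : _root_.True := by simp only [_root_.Cfsg.Agent.H898.TSETwo.mix.eq_1]
  try have : _root_.True := by simp only [_root_.Cfsg.Agent.H898.TSSz.AA.congr_simp]
  try have : _root_.True := by simp only [_root_.Cfsg.Agent.H898.TSETwo.e2.congr_simp]
  try have : _root_.True := by simp only [_root_.Cfsg.Agent.H898.TSSz.t2.eq_1]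
  try have : _root_.True := by simp only [_root_.Cfsg.Agent.H898.TSSz.tv.eq_1]
  try have : _root_.True := by simp only [_root_.Cfsg.Agent.H898.TSSz.t1.eq_1]
  try have : _root_.True := by simp only [_root_.Cfsg.Agent.H898.TSETwo.mix.eq_def]
  try have : _root_.True := by simp only [_root_.Cfsg.Agent.H898.TSSz.nmix.eq_1]
  try have : _root_.True := by simp only [_root_.Cfsg.Agent.H898.TSSz.nmix.eq_def]
  try have : _root_.True := by simp only [_root_.Cfsg.Agent.H898.TSSz.nmix.eq_2]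
  try have : _root_.True := by simp only [_root_.Cfsg.Agent.H898.TSSz.ww.eq_1]
  try have : _root_.True := by simp only [_root_.Cfsg.Agent.H898.TSETwo.mix.eq_2]
  try have : _root_.True := by simp only [_root_.Cfsg.Agent.H898.TSSz.qv.eq_1]
  try have : _root_.True := by simp only [_root_.Cfsg.Agent.H898.TSSz.th8.eq_1]
  exact _root_.True.intro
end
end
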