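import Cfsg.Agent.H898.TE6Main
import Cfsg.Agent.H341.ThreeList_m3
import Cfsg.Agent.H4.JT.Two
import Cfsg.Agent.H921.SporSuz
import Cfsg.Agent.S5746
import Cfsg.Agent.Lib.PermNetFast
import Mathlib
import Cfsg.Agent.H943.L19Main_m3
import Cfsg.Agent.H944.TS.Asm_mg_m3
import Cfsg.Agent.H422.SzEight
import Cfsg.Agent.S1163
import Cfsg.Agent.S2563
import Cfsg.Agent.S5742
import Cfsg.Agent.S5743
import Cfsg.Agent.S5744
import Cfsg.Agent.UGT.U2.Rec.Congr
import Cfsg.Agent.H904.Ord65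
import Cfsg.Agent.H375.LThree.Spec
import Cfsg.Agent.H129.CycRow
import Cfsg.Agent.S2227
import Cfsg.Agent.ClassicalGeometry.PSLTorus
import Cfsg.Agent.H376.SpEmb
import Cfsg.Agent.LieClassical.SympCenter
import Cfsg.Agent.H292.PspTwo_m3
import Cfsg.Agent.H292.Oct
import Cfsg.Agent.H292.RowAll
import Cfsg.Agent.H749.BlockOrth_m3
import Cfsg.Agent.S2678
import Cfsg.Agent.TwoESix.LeviHyp_m3
import Cfsg.Agent.F42.AllSys_m3
import Cfsg.Agent.TypeD4Two.Recog
import Cfsg.Agent.ChevalleyStructure.FieldIso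
import Cfsg.Agent.H832.UThree.Exist
import Cfsg.Agent.OrdDiv.Table
import Cfsg.Agent.H153.SixOmega_m3
import Cfsg.Agent.S1577
import Cfsg.Agent.H897.Data
import Cfsg.Agent.J3.Elts
import Cfsg.Agent.H732.SteinbergSL2
import Cfsg.Agent.H206.SubO73
import Cfsg.Agent.H64.SubG2
import Cfsg.Agent.H660.TSTits
import Cfsg.Agent.FastGrp
import Cfsg.Agent.Prune
set_option linter.all false

section
prune_inst 0x7fb1edfdd9b82ddfdfff7e7ff6dccdfdddf8bfffa6dff9cbffe0e1ffab9f6b0089c5ab8d8be050ff0ef6421410a87803fbffeeffe06fdc7ffffd5ff41ffbee4ff5f7350851dc8cb40fb80fff03f07f8e7f3fffffffffffffffffffffffffffbeffbfffffffff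

-- part: H898/TSFivePSU
section
prune_inst 0x4210020440900020000000082312002005400059000200000c0a000440800672205022140808001000a0aa20500390040010000e0020000000a00040001190080088802002100a00046000e000000000000000000000000000000000000000004000000000
set_option linter.all false
open scoped Cfsg.Agent.FastGrp

namespace Cfsg.Agent.J2Q_H898_TSFive

open Cfsg.Agent.J2.HundredGens Cfsg.Agent.SporadicA.PermTab Cfsg.Agent.SporadicA.J2Hundred

private theorem fix4 {g : Equiv.Perm (Fin 100)} (hg : g ∈ G) (h0 : g x0 = x0) (h1 : g x1 = x1) (h2 : g x2 = x2)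
    (h3 : g x3 = x3) : g = 1 := by
  have k := card_ge_of_chk inA (inAll fun _ h => h) or0 cn0 (card_ge_of_chk psu0 (mem2 psu0 psu1) or1 cn1
    (card_ge_of_chk psv0 (mem2 psv0 psv1) or2 cn2 (card_ge_of_chk psw0 (mem1 psw0) or3 cn3 le_rfl)))
  rw [card_G] at k
  have hm : g ∈ ps (ps (ps (ps G x0) x1) x2) x3 := mem_ps.2 ⟨mem_ps.2 ⟨mem_ps.2 ⟨mem_ps.2 ⟨hg, h0⟩, h1⟩, h2⟩, h3⟩
  rwa [Subgroup.eq_bot_of_card_le (ps (ps (ps (ps G x0) x1) x2) x3) (by omega), Subgroup.mem_bot] at hm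

private noncomputable def run' (L : List ℕ) (j : ℕ) : ℕ :=
  List.rec j (fun k _ x => Nat.land (Nat.shiftRight (tab k) (Nat.mul 11 x)) 2047) L

private theorem run_eq : run = run' := by
  funext L j
  induction L with
  | nil => rfl
  | cons k L ih => exact congrArg (lk (tab k)) ih

/-- the words agree on a base -/
private noncomputable def chk4 (L M : List ℕ) : Bool :=
  band (band (Nat.beq (run' L 0) (run' M 0)) (Nat.beq (run' L 13) (run' M 13)))
    (band (Nat.beq (run' L 1) (run' M 1)) (Nat.beq (run' L 2) (run' M 2)))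

private theorem chk_eq : chk = chk4 := by
  funext L M
  delta chk4
  rw [← run_eq]
  refine Bool.eq_iff_iff.2 ⟨fun h => ?_, fun h => ?_⟩
  · have h1 := (allB_iff _ _).1 h
    exact (band_eq_true _ _).2 ⟨(band_eq_true _ _).2 ⟨h1 0 (by decide), h1 13 (by decide)⟩,
      (band_eq_true _ _).2 ⟨h1 1 (by decide), h1 2 (by decide)⟩⟩
  · obtain ⟨h1, h2⟩ := (band_eq_true _ _).1 h
    rw [band_eq_true] at h1 h2
    have h3 : ∀ i : Fin 100, Nat.beq (run L i) (run M i) = true → ((pw M)⁻¹ * pw L) i = i := fun i hi => by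
      rw [Equiv.Perm.mul_apply, Equiv.Perm.inv_eq_iff_eq]
      exact Fin.ext ((pw_val L i).trans ((Nat.eq_of_beq_eq_true hi).trans (pw_val M i).symm))
    have h4 := inv_mul_eq_one.1 (fix4 (mul_mem (inv_mem (pw_mem M)) (pw_mem L)) (h3 _ h1.1) (h3 _ h1.2) (h3 _ h2.1) (h3 _ h2.2))
    exact (allB_iff _ _).2 fun i hi => by
      rw [← pw_val L ⟨i, hi⟩, ← pw_val M ⟨i, hi⟩, h4]
      exact Nat.beq_refl _

end Cfsg.Agent.J2Q_H898_TSFive

-- part: H898/TSFive
section
/-!
# `5`-local structure of a group in which the elements of order 5 have centraliser `5 × A₈` (helper898)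

`no_config`: there are no commuting independent elements `a, b` of order 5 with elements `t : a ↦ a⁻¹, b ↦ b` and
`c : a ↦ a²b³, b ↦ ab²` (`S₃` acting on `5²` with an orbit of length 3 on the subgroups of order 5).
-/

set_option autoImplicit false

namespace Cfsg.Agent.H898.TSFive

open Subgroup Equiv

universe u

/-- the centralisers of the elements of order 5 are `5 × A₈` -/
def FiveCent (G : Type u) [Group G] : Prop :=
  ∀ x : G, orderOf x = 5 → Nonempty (↥(centralizer ({x} : Set G)) ≃* (Multiplicative (ZMod 5) × ↥(alternatingGroup (Fin 8))))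

variable {G : Type u} [Group G]

/-- the derived subgroup of the centraliser -/
def D (x : G) : Subgroup G := ⁅centralizer ({x} : Set G), centralizer ({x} : Set G)⁆

theorem D_le (x : G) : D x ≤ centralizer ({x} : Set G) :=
  commutator_le.2 fun _ ha _ hb => mul_mem (mul_mem (mul_mem ha hb) (inv_mem ha)) (inv_mem hb)

theorem comm_of_mem {x y : G} (h : y ∈ D x) : Commute x y :=
  (mem_centralizer_singleton_iff.1 (D_le x h)).symm

theorem centralizer_conj (g x : G) :
    (centralizer ({x} : Set G)).map (MulAut.conj g).toMonoidHom = centralizer ({g * x * g⁻¹} : Set G) := by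
  ext y
  rw [mem_map, mem_centralizer_singleton_iff]
  constructor
  · rintro ⟨z, hz, rfl⟩
    rw [mem_centralizer_singleton_iff] at hz
    simp only [MulEquiv.coe_toMonoidHom, MulAut.conj_apply]
    calc g * z * g⁻¹ * (g * x * g⁻¹) = g * (z * x) * g⁻¹ := by group
      _ = g * (x * z) * g⁻¹ := by rw [hz]
      _ = g * x * g⁻¹ * (g * z * g⁻¹) := by group
  · intro h
    refine ⟨g⁻¹ * y * g, ?_, by simp only [MulEquiv.coe_toMonoidHom, MulAut.conj_apply]; group⟩
    rw [mem_centralizer_singleton_iff]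
    calc g⁻¹ * y * g * x = g⁻¹ * (y * (g * x * g⁻¹)) * g := by group
      _ = g⁻¹ * ((g * x * g⁻¹) * y) * g := by rw [h]
      _ = x * (g⁻¹ * y * g) := by group

theorem D_conj {x y : G} (h : y ∈ D x) (g : G) : g * y * g⁻¹ ∈ D (g * x * g⁻¹) := by
  unfold D at h ⊢
  rw [← centralizer_conj, ← map_commutator]
  exact ⟨y, h, rfl⟩

theorem centralizer_pow {x : G} (hx : orderOf x = 5) {k : ℕ} (hk : ¬ 5 ∣ k) :
    centralizer ({x ^ k} : Set G) = centralizer ({x} : Set G) := by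
  have hc : Nat.Coprime (orderOf x) k := by
    rw [hx]; exact (Nat.Prime.coprime_iff_not_dvd (by norm_num)).2 hk
  ext y
  rw [mem_centralizer_singleton_iff, mem_centralizer_singleton_iff]
  constructor
  · intro h
    obtain ⟨m, hm⟩ := exists_pow_eq_self_of_coprime hc.symm
    have h1 : Commute y (x ^ k) := h
    have h2 := h1.pow_right m
    rw [hm] at h2
    exact h2
  · intro h
    exact Commute.pow_right (show Commute y x from h) k

theorem D_pow {x : G} (hx : orderOf x = 5) {k : ℕ} (hk : ¬ 5 ∣ k) : D (x ^ k) = D x := by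
  unfold D; rw [centralizer_pow hx hk]

theorem commutator_alt : commutator ↥(alternatingGroup (Fin 8)) = ⊤ := by
  have : IsSimpleGroup ↥(alternatingGroup (Fin 8)) := alternatingGroup.isSimpleGroup (by simp)
  rcases (inferInstance : (commutator ↥(alternatingGroup (Fin 8))).Normal).eq_bot_or_eq_top with h | h
  · exfalso
    have h1 : ∀ a b : ↥(alternatingGroup (Fin 8)), a * b = b * a := by
      intro a b
      have h2 : a * b * a⁻¹ * b⁻¹ ∈ commutator ↥(alternatingGroup (Fin 8)) :=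
        commutator_mem_commutator (mem_top _) (mem_top _)
      rw [h, mem_bot] at h2
      have h3 := mul_inv_eq_one.1 h2
      rw [mul_inv_eq_iff_eq_mul] at h3
      exact h3
    have h3 : AltEight.T0 ∈ Subgroup.center ↥(alternatingGroup (Fin 8)) := by
      rw [mem_center_iff]; intro g; exact h1 g _
    rw [AltEight.center, mem_bot] at h3
    exact AltEight.fpf_T0.ne_one h3
  · exact h

/-- the members of `D x` in terms of the isomorphism -/
theorem mem_D_iff {x : G}
    (e : ↥(centralizer ({x} : Set G)) ≃* (Multiplicative (ZMod 5) × ↥(alternatingGroup (Fin 8)))) {y : G}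
    (hy : y ∈ centralizer ({x} : Set G)) : y ∈ D x ↔ (e ⟨y, hy⟩).1 = 1 := by
  have h1 : D x = (commutator ↥(centralizer ({x} : Set G))).map (centralizer ({x} : Set G)).subtype := by
    rw [map_subtype_commutator]; rfl
  have h2 : (commutator ↥(centralizer ({x} : Set G))).map e.toMonoidHom = (⊥ : Subgroup (Multiplicative (ZMod 5))).prod ⊤ := by
    rw [commutator_def, map_commutator]
    have h3 : (⊤ : Subgroup ↥(centralizer ({x} : Set G))).map e.toMonoidHom = ⊤ :=
      Subgroup.map_top_of_surjective _ e.surjective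
    rw [h3, ← top_prod_top, commutator_prod_prod, ← commutator_def, ← commutator_def, commutator_alt,
      (commutator_eq_bot_iff_center_eq_top _).2 (CommGroup.center_eq_top)]
  constructor
  · intro h
    rw [h1] at h
    obtain ⟨z, hz, hzy⟩ := h
    have h4 : e z ∈ (⊥ : Subgroup (Multiplicative (ZMod 5))).prod (⊤ : Subgroup ↥(alternatingGroup (Fin 8))) := by
      rw [← h2]; exact ⟨z, hz, rfl⟩
    have h5 : z = ⟨y, hy⟩ := Subtype.ext hzy
    rw [h5] at h4
    exact (mem_prod.1 h4).1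
  · intro h
    have h4 : e ⟨y, hy⟩ ∈ (⊥ : Subgroup (Multiplicative (ZMod 5))).prod (⊤ : Subgroup ↥(alternatingGroup (Fin 8))) :=
      mem_prod.2 ⟨h, mem_top _⟩
    rw [← h2] at h4
    obtain ⟨z, hz, hzy⟩ := h4
    have h5 : z = ⟨y, hy⟩ := e.injective hzy
    rw [h1]
    exact ⟨z, hz, congrArg Subtype.val h5⟩

variable (hG : FiveCent G)

include hG

theorem not_mem_D {x : G} (hx : orderOf x = 5) : x ∉ D x := by
  intro h
  obtain ⟨e⟩ := hG x hx
  have hc : x ∈ centralizer ({x} : Set G) := mem_centralizer_singleton_iff.2 rfl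
  have h1 := (mem_D_iff e hc).1 h
  have h2 : (e ⟨x, hc⟩).2 = 1 := by
    have h3 : (e ⟨x, hc⟩).2 ∈ Subgroup.center ↥(alternatingGroup (Fin 8)) := by
      rw [mem_center_iff]
      intro g
      obtain ⟨y, hy⟩ := e.surjective (1, g)
      have h4 : y * ⟨x, hc⟩ = ⟨x, hc⟩ * y := by
        apply Subtype.ext
        exact mem_centralizer_singleton_iff.1 y.2
      have h5 := congrArg (fun w => (e w).2) h4
      simp only [map_mul, Prod.snd_mul, hy] at h5
      exact h5
    rw [AltEight.center, mem_bot] at h3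
    exact h3
  have h3 : e ⟨x, hc⟩ = 1 := Prod.ext h1 h2
  have h4 : (⟨x, hc⟩ : ↥(centralizer ({x} : Set G))) = 1 := e.injective (by rw [h3, map_one])
  have h5 : x = 1 := congrArg Subtype.val h4
  rw [h5, orderOf_one] at hx
  norm_num at hx

/-- every element commuting with `x` is in `D x` up to a power of `x` -/
theorem exists_mul {x y : G} (hx : orderOf x = 5) (hc : Commute x y) : ∃ i : ℕ, i < 5 ∧ x ^ i * y ∈ D x := by
  obtain ⟨e⟩ := hG x hx
  have hcx : x ∈ centralizer ({x} : Set G) := mem_centralizer_singleton_iff.2 rfl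
  have hcy : y ∈ centralizer ({x} : Set G) := mem_centralizer_singleton_iff.2 hc.symm
  set ξ := (e ⟨x, hcx⟩).1 with hξ
  have hξ1 : ξ ≠ 1 := by
    intro h
    exact not_mem_D hG hx ((mem_D_iff e hcx).2 h)
  have hgen : ∀ w : Multiplicative (ZMod 5), ∃ i : ℕ, i < 5 ∧ ξ ^ i * w = 1 := by
    have key : ∀ u w : Multiplicative (ZMod 5), u ≠ 1 → ∃ i : Fin 5, u ^ (i : ℕ) * w = 1 := by decide
    intro w
    obtain ⟨i, hi⟩ := key ξ w hξ1
    exact ⟨i, i.2, hi⟩
  obtain ⟨i, hi5, hi⟩ := hgen (e ⟨y, hcy⟩).1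
  refine ⟨i, hi5, ?_⟩
  have hm : x ^ i * y ∈ centralizer ({x} : Set G) := mul_mem (pow_mem hcx i) hcy
  rw [mem_D_iff e hm]
  have h1 : (⟨x ^ i * y, hm⟩ : ↥(centralizer ({x} : Set G))) = ⟨x, hcx⟩ ^ i * ⟨y, hcy⟩ := rfl
  rw [h1, map_mul, map_pow, Prod.fst_mul, Prod.pow_fst]
  exact hi

omit hG in
/-- in `A₈` an element of order 5 is conjugate to its square -/
theorem alt_sq {y : ↥(alternatingGroup (Fin 8))} (hy : orderOf y = 5) :
    ∃ g : ↥(alternatingGroup (Fin 8)), g * y * g⁻¹ = y ^ 2 := by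
  have h1 : orderOf (y : Perm (Fin 8)) = 5 := by rw [← hy]; exact orderOf_coe y
  have hct : (y : Perm (Fin 8)).cycleType = {5} := by
    have h2 : (y : Perm (Fin 8)).cycleType.lcm = 5 := by rw [Perm.lcm_cycleType, h1]
    have h3 : ∀ n ∈ (y : Perm (Fin 8)).cycleType, n = 5 := by
      intro n hn
      have h4 : n ∣ 5 := by rw [← h2]; exact Multiset.dvd_lcm hn
      have h5 : 2 ≤ n := Perm.two_le_of_mem_cycleType hn
      rcases (Nat.dvd_prime (by norm_num)).1 h4 with h6 | h6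
      · omega
      · exact h6
    have h4 := Multiset.eq_replicate_of_mem h3
    have h5 : (y : Perm (Fin 8)).cycleType.sum ≤ 8 := by
      rw [Perm.sum_cycleType]
      exact (Finset.card_le_univ _).trans (by simp)
    rw [h4, Multiset.sum_replicate, smul_eq_mul] at h5
    have h6 : (y : Perm (Fin 8)).cycleType.card ≠ 0 := by
      intro h7
      rw [Multiset.card_eq_zero, Perm.cycleType_eq_zero] at h7
      rw [h7, orderOf_one] at h1
      norm_num at h1
    have h7 : (y : Perm (Fin 8)).cycleType.card = 1 := by omega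
    rw [h4, h7]
    rfl
  have hct2 : ((y ^ 2 : ↥(alternatingGroup (Fin 8))) : Perm (Fin 8)).cycleType = {5} := by
    have h2 : orderOf ((y ^ 2 : ↥(alternatingGroup (Fin 8))) : Perm (Fin 8)) = 5 := by
      rw [Subgroup.coe_pow, orderOf_pow, h1]; decide
    have h3 : ((y ^ 2 : ↥(alternatingGroup (Fin 8))) : Perm (Fin 8)).cycleType.lcm = 5 := by rw [Perm.lcm_cycleType, h2]
    have h3 : ∀ n ∈ ((y ^ 2 : ↥(alternatingGroup (Fin 8))) : Perm (Fin 8)).cycleType, n = 5 := by
      intro n hn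
      have h4 : n ∣ 5 := by rw [← h3]; exact Multiset.dvd_lcm hn
      have h5 : 2 ≤ n := Perm.two_le_of_mem_cycleType hn
      rcases (Nat.dvd_prime (by norm_num)).1 h4 with h6 | h6
      · omega
      · exact h6
    have h4 := Multiset.eq_replicate_of_mem h3
    have h5 : ((y ^ 2 : ↥(alternatingGroup (Fin 8))) : Perm (Fin 8)).cycleType.sum ≤ 8 := by
      rw [Perm.sum_cycleType]
      exact (Finset.card_le_univ _).trans (by simp)
    rw [h4, Multiset.sum_replicate, smul_eq_mul] at h5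
    have h6 : ((y ^ 2 : ↥(alternatingGroup (Fin 8))) : Perm (Fin 8)).cycleType.card ≠ 0 := by
      intro h7
      rw [Multiset.card_eq_zero, Perm.cycleType_eq_zero] at h7
      rw [h7, orderOf_one] at h2
      norm_num at h2
    have h7 : ((y ^ 2 : ↥(alternatingGroup (Fin 8))) : Perm (Fin 8)).cycleType.card = 1 := by omega
    rw [h4, h7]
    rfl
  have hc : IsConj (y : Perm (Fin 8)) ((y ^ 2 : ↥(alternatingGroup (Fin 8))) : Perm (Fin 8)) := by
    rw [Perm.isConj_iff_cycleType_eq, hct, hct2]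
  obtain ⟨g, hg⟩ := isConj_iff.1 hc
  -- two points fixed by `y`
  have hfix : 1 < Fintype.card (Function.fixedPoints (y : Perm (Fin 8))) := by
    have h2 := (y : Perm (Fin 8)).card_fixedPoints
    rw [h2, hct]
    decide
  obtain ⟨p, q, hpq⟩ := Fintype.one_lt_card_iff_nontrivial.1 hfix |>.exists_pair_ne
  have hpq' : (p : Fin 8) ≠ q := fun h => hpq (Subtype.ext h)
  by_cases hs : Perm.sign g = 1
  · exact ⟨⟨g, Perm.mem_alternatingGroup.2 hs⟩, Subtype.ext hg⟩
  · have hs' : Perm.sign (g * swap (p : Fin 8) q) = 1 := by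
      rw [Perm.sign_mul, Perm.sign_swap hpq']
      rcases Int.units_eq_one_or (Perm.sign g) with h | h
      · exact absurd h hs
      · rw [h]; rfl
    refine ⟨⟨g * swap (p : Fin 8) q, Perm.mem_alternatingGroup.2 hs'⟩, Subtype.ext ?_⟩
    have h3 : swap (p : Fin 8) q * (y : Perm (Fin 8)) * (swap (p : Fin 8) q)⁻¹ = y := by
      have h4 : (y : Perm (Fin 8)) * swap (p : Fin 8) q = swap (p : Fin 8) q * y := by
        have h5 := Equiv.mul_swap_eq_swap_mul (y : Perm (Fin 8)) (p : Fin 8) (q : Fin 8)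
        have h6 : (y : Perm (Fin 8)) (p : Fin 8) = p := p.2
        have h7 : (y : Perm (Fin 8)) (q : Fin 8) = q := q.2
        rw [h6, h7] at h5
        exact h5
      rw [← h4]; group
    show g * swap (p : Fin 8) q * (y : Perm (Fin 8)) * (g * swap (p : Fin 8) q)⁻¹ = _
    rw [← hg]
    calc g * swap (p : Fin 8) q * (y : Perm (Fin 8)) * (g * swap (p : Fin 8) q)⁻¹
        = g * (swap (p : Fin 8) q * (y : Perm (Fin 8)) * (swap (p : Fin 8) q)⁻¹) * g⁻¹ := by group
      _ = g * y * g⁻¹ := by rw [h3]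

/-- an element of order 5 of `D x` is squared by an element of `C(x)` -/
theorem exists_sq {x y : G} (hx : orderOf x = 5) (hy : orderOf y = 5) (h : y ∈ D x) :
    ∃ g : G, g * x * g⁻¹ = x ∧ g * y * g⁻¹ = y ^ 2 := by
  obtain ⟨e⟩ := hG x hx
  have hc : y ∈ centralizer ({x} : Set G) := D_le x h
  have h1 := (mem_D_iff e hc).1 h
  have h2 : orderOf (e ⟨y, hc⟩).2 = 5 := by
    have h3 : orderOf (e ⟨y, hc⟩) = 5 := by
      rw [e.orderOf_eq, ← hy]
      exact (orderOf_coe (⟨y, hc⟩ : ↥(centralizer ({x} : Set G)))).symm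
    rw [Prod.orderOf, h1, orderOf_one, Nat.lcm_one_left] at h3
    exact h3
  obtain ⟨g, hg⟩ := alt_sq h2
  obtain ⟨z, hz⟩ := e.surjective (1, g)
  refine ⟨z, ?_, ?_⟩
  · have h3 := mem_centralizer_singleton_iff.1 z.2
    rw [h3]; group
  · have h3 : z * ⟨y, hc⟩ * z⁻¹ = (⟨y, hc⟩ : ↥(centralizer ({x} : Set G))) ^ 2 := by
      apply e.injective
      rw [map_mul, map_mul, map_inv, map_pow, hz]
      refine Prod.ext ?_ ?_
      · rw [Prod.fst_mul, Prod.fst_mul, Prod.pow_fst, h1]; simp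
      · rw [Prod.snd_mul, Prod.snd_mul, Prod.pow_snd]; exact hg
    exact congrArg Subtype.val h3

/-- symmetry of the pairing -/
theorem symm {x y : G} (hx : orderOf x = 5) (hy : orderOf y = 5) (h : y ∈ D x) : x ∈ D y := by
  have hc : Commute x y := comm_of_mem h
  obtain ⟨i, hi5, hi⟩ := exists_mul hG hy hc.symm
  obtain ⟨g, hg1, hg2⟩ := exists_sq hG hx hy h
  have h1 := D_conj hi g
  rw [hg2, D_pow hy (by norm_num)] at h1
  have h2 : g * (y ^ i * x) * g⁻¹ = y ^ (2 * i) * x := by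
    calc g * (y ^ i * x) * g⁻¹ = (g * y * g⁻¹) ^ i * (g * x * g⁻¹) := by rw [conj_pow]; group
      _ = y ^ (2 * i) * x := by rw [hg1, hg2, ← pow_mul]
  rw [h2] at h1
  have h3 : y ^ i ∈ D y := by
    have h4 := mul_mem h1 (inv_mem hi)
    have h5 : y ^ (2 * i) * x * (y ^ i * x)⁻¹ = y ^ i := by
      rw [two_mul, pow_add]; group
    rwa [h5] at h4
  by_cases h5 : 5 ∣ i
  · have h6 : i = 0 := by omega
    rw [h6, pow_zero, one_mul] at hi
    exact hi
  · exfalso
    have h6 : orderOf (y ^ i) = 5 := by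
      rw [Nat.Coprime.orderOf_pow, hy]
      rw [hy]; exact (Nat.Prime.coprime_iff_not_dvd (by norm_num)).2 h5
    refine not_mem_D hG h6 ?_
    rw [D_pow hy h5]
    exact h3

/-! ### coordinates -/

omit hG

/-- the element with coordinates `i, j` -/
def V (a b : G) (i j : ZMod 5) : G := a ^ i.val * b ^ j.val

section coord

variable {a b : G} (ha : orderOf a = 5) (hb : orderOf b = 5) (hab : Commute a b)

theorem pow_add_val {a : G} (ha : orderOf a = 5) (i k : ZMod 5) : a ^ (i + k).val = a ^ (i.val + k.val) := by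
  have h := pow_mod_orderOf a (i.val + k.val)
  rw [ha] at h
  rw [ZMod.val_add, h]

include ha hb hab

theorem V_mul (i j k l : ZMod 5) : V a b i j * V a b k l = V a b (i + k) (j + l) := by
  unfold V
  rw [pow_add_val ha, pow_add_val hb, pow_add, pow_add]
  have h : Commute (b ^ j.val) (a ^ k.val) := (hab.pow_pow _ _).symm
  calc a ^ i.val * b ^ j.val * (a ^ k.val * b ^ l.val) = a ^ i.val * (b ^ j.val * a ^ k.val) * b ^ l.val := by group
    _ = a ^ i.val * (a ^ k.val * b ^ j.val) * b ^ l.val := by rw [h.eq]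
    _ = _ := by group

theorem V_pow (i j : ZMod 5) (n : ℕ) : V a b i j ^ n = V a b (n * i) (n * j) := by
  induction n with
  | zero => simp [V]
  | succ n ih =>
    rw [pow_succ, ih, V_mul ha hb hab]
    congr 1 <;> push_cast <;> ring

theorem conj_V {g : G} {p q r s : ZMod 5} (h1 : g * a * g⁻¹ = V a b p q) (h2 : g * b * g⁻¹ = V a b r s)
    (i j : ZMod 5) : g * V a b i j * g⁻¹ = V a b (i * p + j * r) (i * q + j * s) := by
  have h3 : g * V a b i j * g⁻¹ = (g * a * g⁻¹) ^ i.val * (g * b * g⁻¹) ^ j.val := by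
    unfold V; rw [conj_pow, conj_pow]; group
  rw [h3, h1, h2, V_pow ha hb hab, V_pow ha hb hab, V_mul ha hb hab, ZMod.natCast_zmod_val, ZMod.natCast_zmod_val]

theorem V_eq_one {t : G} (hta : t * a * t⁻¹ = a⁻¹) (htb : t * b * t⁻¹ = b) {i j : ZMod 5} (h : V a b i j = 1) :
    i = 0 ∧ j = 0 := by
  have hpa : ∀ k : ZMod 5, a ^ k.val = 1 → k = 0 := by
    intro k hk
    have h1 := orderOf_dvd_of_pow_eq_one hk
    rw [ha] at h1
    have h2 := Nat.eq_zero_of_dvd_of_lt h1 k.val_lt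
    exact (ZMod.val_eq_zero k).1 h2
  have hpb : ∀ k : ZMod 5, b ^ k.val = 1 → k = 0 := by
    intro k hk
    have h1 := orderOf_dvd_of_pow_eq_one hk
    rw [hb] at h1
    have h2 := Nat.eq_zero_of_dvd_of_lt h1 k.val_lt
    exact (ZMod.val_eq_zero k).1 h2
  have h1 : a⁻¹ = V a b (-1) 0 := by
    have h2 : V a b (-1) 0 * a = 1 := by
      have h3 : V a b 1 0 = a := by
        show a ^ 1 * b ^ 0 = a
        simp
      calc V a b (-1) 0 * a = V a b (-1) 0 * V a b 1 0 := by rw [h3]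
        _ = V a b (-1 + 1) (0 + 0) := V_mul ha hb hab _ _ _ _
        _ = 1 := by
          rw [neg_add_cancel, add_zero]
          show a ^ 0 * b ^ 0 = 1
          simp
    exact (eq_inv_of_mul_eq_one_left h2).symm
  have h2 : b = V a b 0 1 := by
    show b = a ^ 0 * b ^ 1
    simp
  have h3 := conj_V ha hb hab (hta.trans h1) (htb.trans h2) i j
  rw [h, mul_one, mul_inv_cancel] at h3
  have h4 := V_mul ha hb hab i j (i * -1 + j * 0) (i * 0 + j * 1)
  rw [h, ← h3, mul_one] at h4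
  have h5 : V a b (i + (i * -1 + j * 0)) (j + (i * 0 + j * 1)) = b ^ (2 * j).val := by
    have h6 : i + (i * -1 + j * 0) = 0 := by ring
    have h7 : j + (i * 0 + j * 1) = 2 * j := by ring
    rw [h6, h7]
    show a ^ 0 * _ = _
    simp
  rw [h5] at h4
  have h6 := hpb _ h4.symm
  have h7 : j = 0 := by
    revert h6
    generalize j = j
    revert j
    decide
  rw [h7] at h
  refine ⟨hpa i ?_, h7⟩
  have h8 : V a b i 0 = a ^ i.val := by
    show a ^ i.val * b ^ 0 = _
    simp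
  rw [← h8]; exact h

end coord

/-- **No `S₃`-orbit of length 3.** -/
theorem no_config (hG : FiveCent G) {a b t c : G} (ha : orderOf a = 5) (hb : orderOf b = 5) (hab : Commute a b)
    (hta : t * a * t⁻¹ = a⁻¹) (htb : t * b * t⁻¹ = b) (hca : c * a * c⁻¹ = a ^ 2 * b ^ 3)
    (hcb : c * b * c⁻¹ = a * b ^ 2) : False := by
  have hV1 : ∀ i j : ZMod 5, V a b i j = 1 → i = 0 ∧ j = 0 := fun i j h => V_eq_one ha hb hab hta htb h
  have hVa : V a b 1 0 = a := by
    show a ^ 1 * b ^ 0 = a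
    simp
  have hVb : V a b 0 1 = b := by
    show a ^ 0 * b ^ 1 = b
    simp
  have hord : ∀ i j : ZMod 5, ¬ (i = 0 ∧ j = 0) → orderOf (V a b i j) = 5 := by
    intro i j hij
    have h5 : ((5 : ℕ) : ZMod 5) = 0 := by decide
    have : Fact (Nat.Prime 5) := ⟨by norm_num⟩
    refine orderOf_eq_prime ?_ (fun h => hij (hV1 i j h))
    rw [V_pow ha hb hab]
    rw [h5, zero_mul, zero_mul]
    show a ^ 0 * b ^ 0 = 1
    simp
  have radd : ∀ {i j k l k' l' : ZMod 5}, V a b k l ∈ D (V a b i j) → V a b k' l' ∈ D (V a b i j) →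
      V a b (k + k') (l + l') ∈ D (V a b i j) := by
    intro i j k l k' l' h h'
    rw [← V_mul ha hb hab]; exact mul_mem h h'
  have rsmul : ∀ {i j k l : ZMod 5} (n : ℕ), V a b k l ∈ D (V a b i j) → V a b (n * k) (n * l) ∈ D (V a b i j) := by
    intro i j k l n h
    rw [← V_pow ha hb hab]; exact pow_mem h n
  have rscale : ∀ {i j k l : ZMod 5} (n : ℕ), ¬ 5 ∣ n → ¬ (i = 0 ∧ j = 0) → V a b k l ∈ D (V a b i j) →
      V a b k l ∈ D (V a b (n * i) (n * j)) := by
    intro i j k l n hn hij h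
    rw [← V_pow ha hb hab, D_pow (hord i j hij) hn]; exact h
  have rsymm : ∀ {i j k l : ZMod 5}, ¬ (i = 0 ∧ j = 0) → ¬ (k = 0 ∧ l = 0) → V a b k l ∈ D (V a b i j) →
      V a b i j ∈ D (V a b k l) := by
    intro i j k l hij hkl h
    exact symm hG (hord i j hij) (hord k l hkl) h
  have rne : ∀ {i j : ZMod 5}, ¬ (i = 0 ∧ j = 0) → V a b i j ∉ D (V a b i j) := by
    intro i j hij
    exact not_mem_D hG (hord i j hij)
  have rconj : ∀ {g : G} {p q r s : ZMod 5}, g * a * g⁻¹ = V a b p q → g * b * g⁻¹ = V a b r s →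
      ∀ {i j k l : ZMod 5}, V a b k l ∈ D (V a b i j) →
        V a b (k * p + l * r) (k * q + l * s) ∈ D (V a b (i * p + j * r) (i * q + j * s)) := by
    intro g p q r s h1 h2 i j k l h
    have h3 := D_conj h g
    rw [conj_V ha hb hab h1 h2, conj_V ha hb hab h1 h2] at h3
    exact h3
  have hinv : a⁻¹ = V a b 4 0 := by
    have h1 : V a b 4 0 * V a b 1 0 = 1 := by
      rw [V_mul ha hb hab]
      show a ^ 0 * b ^ 0 = 1
      simp
    rw [hVa] at h1
    exact (eq_inv_of_mul_eq_one_left h1).symm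
  have ht1 : t * a * t⁻¹ = V a b 4 0 := hta.trans hinv
  have ht2 : t * b * t⁻¹ = V a b 0 1 := htb.trans hVb.symm
  have hc1 : c * a * c⁻¹ = V a b 2 3 := hca
  have hc2 : c * b * c⁻¹ = V a b 1 2 := by
    rw [hcb]
    show a * b ^ 2 = a ^ 1 * b ^ 2
    rw [pow_one]
  have n10 : ¬ ((1 : ZMod 5) = 0 ∧ (0 : ZMod 5) = 0) := by decide
  have n01 : ¬ ((0 : ZMod 5) = 0 ∧ (1 : ZMod 5) = 0) := by decide
  have n11 : ¬ ((1 : ZMod 5) = 0 ∧ (1 : ZMod 5) = 0) := by decide
  have n12 : ¬ ((1 : ZMod 5) = 0 ∧ (2 : ZMod 5) = 0) := by decide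
  have n13 : ¬ ((1 : ZMod 5) = 0 ∧ (3 : ZMod 5) = 0) := by decide
  have n14 : ¬ ((1 : ZMod 5) = 0 ∧ (4 : ZMod 5) = 0) := by decide
  -- step 1: `b ∈ D a`
  have s1 : V a b 0 1 ∈ D (V a b 1 0) := by
    obtain ⟨i, -, hi⟩ := exists_mul hG (hord 1 0 n10) (y := V a b 0 1) (by rw [hVa, hVb]; exact hab)
    rw [V_pow ha hb hab, V_mul ha hb hab] at hi
    have h1 := rconj ht1 ht2 hi
    have h2 := rscale 4 (by norm_num) (by
      have : ¬ ((4 : ZMod 5) = 0 ∧ (0 : ZMod 5) = 0) := by decide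
      simpa using this) h1
    have h3 : V a b 1 0 = V a b (((4 : ℕ) : ZMod 5) * (1 * 4 + 0 * 0)) (((4 : ℕ) : ZMod 5) * (1 * 0 + 0 * 1)) := by
      have e1 : (((4 : ℕ) : ZMod 5) * (1 * 4 + 0 * 0)) = 1 := by decide
      have e2 : (((4 : ℕ) : ZMod 5) * (1 * 0 + 0 * 1)) = 0 := by decide
      rw [e1, e2]
    rw [← h3] at h2
    have h4 := rsmul 3 (radd hi h2)
    have e3 : ∀ i : ZMod 5, ((3 : ℕ) : ZMod 5) * (i * 1 + 0 + ((i * 1 + 0) * 4 + (i * 0 + 1) * 0)) = 0 := by decide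
    have e4 : ∀ i : ZMod 5, ((3 : ℕ) : ZMod 5) * (i * 0 + 1 + ((i * 1 + 0) * 0 + (i * 0 + 1) * 1)) = 1 := by decide
    rw [e3, e4] at h4
    exact h4
  have s1' : V a b 1 0 ∈ D (V a b 0 1) := rsymm n10 n01 s1
  -- the element squaring `b` and centralising `a`
  obtain ⟨d, hd1, hd2⟩ := exists_sq hG (hord 1 0 n10) (hord 0 1 n01) s1
  rw [hVa] at hd1
  rw [hVb] at hd2
  have hd1' : d * a * d⁻¹ = V a b 1 0 := hd1.trans hVa.symm
  have hd2' : d * b * d⁻¹ = V a b 0 2 := by
    rw [hd2]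
    show b ^ 2 = a ^ 0 * b ^ 2
    simp
  have rd : ∀ {i j k l : ZMod 5}, V a b k l ∈ D (V a b i j) → V a b k (l * 2) ∈ D (V a b i (j * 2)) := by
    intro i j k l h
    have h1 := rconj hd1' hd2' h
    simpa using h1
  -- contradiction from two independent elements
  have two : ∀ {i j k l k' l' : ZMod 5}, ¬ (i = 0 ∧ j = 0) → V a b k l ∈ D (V a b i j) →
      V a b k' l' ∈ D (V a b i j) → k * l' - k' * l ≠ 0 → False := by
    intro i j k l k' l' hij h h' hne
    have key : ∀ i j k l k' l' : ZMod 5, k * l' - k' * l ≠ 0 →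
        ∃ m n : Fin 5, ((m : ℕ) : ZMod 5) * k + ((n : ℕ) : ZMod 5) * k' = i ∧
          ((m : ℕ) : ZMod 5) * l + ((n : ℕ) : ZMod 5) * l' = j := by
      intro i j k l k' l' hne
      have cast5 : ∀ z : ZMod 5, ∃ m : Fin 5, ((m : ℕ) : ZMod 5) = z := by decide
      have hp : Fact (Nat.Prime 5) := ⟨by norm_num⟩
      set w := (k * l' - k' * l)⁻¹ with hw
      have hw1 : w * (k * l' - k' * l) = 1 := inv_mul_cancel₀ hne
      obtain ⟨m, hm⟩ := cast5 (w * (i * l' - k' * j))
      obtain ⟨n, hn⟩ := cast5 (w * (k * j - i * l))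
      refine ⟨m, n, ?_, ?_⟩
      · rw [hm, hn]
        linear_combination i * hw1
      · rw [hm, hn]
        linear_combination j * hw1
    obtain ⟨m, n, h1, h2⟩ := key i j k l k' l' hne
    have h3 := radd (rsmul (m : ℕ) h) (rsmul (n : ℕ) h')
    rw [h1, h2] at h3
    exact rne hij h3
  -- step 2: `ab⁻¹ ∈ D (ab)`
  have s2 : V a b 1 4 ∈ D (V a b 1 1) := by
    obtain ⟨i, hi5, hi⟩ := exists_mul hG (hord 1 1 n11) (y := V a b 0 1) (by
      show V a b 1 1 * V a b 0 1 = V a b 0 1 * V a b 1 1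
      rw [V_mul ha hb hab, V_mul ha hb hab, add_comm (1 : ZMod 5) 0, add_comm (1 : ZMod 5) 1])
    rw [V_pow ha hb hab, V_mul ha hb hab] at hi
    interval_cases i
    · exfalso
      have h1 : V a b 0 1 ∈ D (V a b 1 1) := by simpa using hi
      have h2 := rsymm n11 n01 h1
      exact two n01 h2 s1' (by decide)
    · exfalso
      have h1 : V a b 1 2 ∈ D (V a b 1 1) := by
        have e1 : ((1 : ℕ) : ZMod 5) * 1 + 0 = 1 := by decide
        have e2 : ((1 : ℕ) : ZMod 5) * 1 + 1 = 2 := by decide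
        rw [e1, e2] at hi; exact hi
      have h2 := rsymm n11 n12 h1
      have h3 := rd h1
      rw [one_mul] at h3
      exact two n12 h2 h3 (by decide)
    · have h1 := rsmul 3 hi
      have e1 : ((3 : ℕ) : ZMod 5) * (((2 : ℕ) : ZMod 5) * 1 + 0) = 1 := by decide
      have e2 : ((3 : ℕ) : ZMod 5) * (((2 : ℕ) : ZMod 5) * 1 + 1) = 4 := by decide
      rw [e1, e2] at h1
      exact h1
    · exfalso
      have h0 := rsmul 2 hi
      have h1 : V a b 1 3 ∈ D (V a b 1 1) := by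
        have e1 : ((2 : ℕ) : ZMod 5) * (((3 : ℕ) : ZMod 5) * 1 + 0) = 1 := by decide
        have e2 : ((2 : ℕ) : ZMod 5) * (((3 : ℕ) : ZMod 5) * 1 + 1) = 3 := by decide
        rw [e1, e2] at h0; exact h0
      have h2 := rsymm n11 n13 h1
      have h3 := rd (rd (rd h1))
      have e3 : (1 : ZMod 5) * 2 * 2 * 2 = 3 := by decide
      rw [e3] at h3
      exact two n13 h2 h3 (by decide)
    · exfalso
      have h0 := rsmul 4 hi
      have h1 : V a b 1 0 ∈ D (V a b 1 1) := by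
        have e1 : ((4 : ℕ) : ZMod 5) * (((4 : ℕ) : ZMod 5) * 1 + 0) = 1 := by decide
        have e2 : ((4 : ℕ) : ZMod 5) * (((4 : ℕ) : ZMod 5) * 1 + 1) = 0 := by decide
        rw [e1, e2] at h0; exact h0
      have h2 := rsymm n11 n10 h1
      exact two n10 h2 s1 (by decide)
  have s2' : V a b 1 1 ∈ D (V a b 1 4) := rsymm n11 n14 s2
  -- step 3: apply `c`
  have h1 := rscale 3 (by norm_num) (by decide) (rconj hc1 hc2 s1)
  have e1 : ((3 : ℕ) : ZMod 5) * (1 * 2 + 0 * 1) = 1 := by decide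
  have e2 : ((3 : ℕ) : ZMod 5) * (1 * 3 + 0 * 2) = 4 := by decide
  rw [e1, e2] at h1
  have e3 : (0 : ZMod 5) * 2 + 1 * 1 = 1 := by decide
  have e4 : (0 : ZMod 5) * 3 + 1 * 2 = 2 := by decide
  rw [e3, e4] at h1
  exact two n14 s2' h1 (by decide)

end Cfsg.Agent.H898.TSFive
end

-- part: H898/TSFiveNot
section
/-!
# `²E₆(2)` has no subgroup `J₂`, `G₂(4)`, `Suz`, `PSU₃(4)` (helper898, S5741 tasks 987, 988)
-/

set_option autoImplicit false
set_option maxRecDepth 100000

namespace Cfsg.Agent.H898.TSFive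

open Subgroup Equiv Cfsg.Agent.OrdDiv Cfsg.Agent.H944.TS

universe u v

/-- the configuration excluded by `no_config` -/
def HasConf (X : Type v) [Group X] : Prop :=
  ∃ a b t c : X, orderOf a = 5 ∧ orderOf b = 5 ∧ Commute a b ∧ t * a * t⁻¹ = a⁻¹ ∧ t * b * t⁻¹ = b ∧
    c * a * c⁻¹ = a ^ 2 * b ^ 3 ∧ c * b * c⁻¹ = a * b ^ 2

theorem HasConf.map {X : Type v} {Y : Type u} [Group X] [Group Y] (f : X →* Y) (hf : Function.Injective f)
    (h : HasConf X) : HasConf Y := by
  obtain ⟨a, b, t, c, h1, h2, h3, h4, h5, h6, h7⟩ := h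
  refine ⟨f a, f b, f t, f c, ?_, ?_, h3.map f, ?_, ?_, ?_, ?_⟩
  · rw [orderOf_injective f hf, h1]
  · rw [orderOf_injective f hf, h2]
  · rw [← map_inv, ← map_mul, ← map_mul, h4, map_inv]
  · rw [← map_inv, ← map_mul, ← map_mul, h5]
  · rw [← map_inv, ← map_mul, ← map_mul, h6, map_mul, map_pow, map_pow]
  · rw [← map_inv, ← map_mul, ← map_mul, h7, map_mul, map_pow]

theorem fiveCent {K : Type u} [Field K] [Fintype K] (hK : Fintype.card K = 4) :
    FiveCent ↥(Cfsg.Lie.twistedE6 K 2) := (Cfsg.Agent.H898.TE6Main.main hK).2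

theorem notE_of_conf {K : Type u} [Field K] [Fintype K] (hK : Fintype.card K = 4) {g : Grp}
    (h : ∀ (X : Type u) [Group X], Real g X → HasConf X) : NotE K g := by
  intro L hL
  obtain ⟨a, b, t, c, h1, h2, h3, h4, h5, h6, h7⟩ := (h ↥L hL).map L.subtype L.subtype_injective
  exact no_config (fiveCent hK) h1 h2 h3 h4 h5 h6 h7

/-! ### words -/

/-- the check for the configuration -/
def chkConf {T : Type v} [Group T] (w : Cfsg.Agent.H921.Spor.Wd T) (A B t c : List ℕ) : Bool :=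
  w.eq (A ++ A ++ A ++ A ++ A) [] && w.eq (B ++ B ++ B ++ B ++ B) [] && w.ne A && w.ne B && w.eq (A ++ B) (B ++ A) &&
    w.eq (A ++ t ++ A) t && w.eq (t ++ B) (B ++ t) && w.eq (c ++ A) (A ++ A ++ B ++ B ++ B ++ c) &&
    w.eq (c ++ B) (A ++ B ++ B ++ c)

theorem hasConf_of_chk {T : Type v} [Group T] (w : Cfsg.Agent.H921.Spor.Wd T) (A B t c : List ℕ)
    (h : chkConf w A B t c = true) : HasConf T := by
  simp only [chkConf, Bool.and_eq_true] at h
  obtain ⟨⟨⟨⟨⟨⟨⟨⟨h1, h2⟩, h3⟩, h4⟩, h5⟩, h6⟩, h7⟩, h8⟩, h9⟩ := h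
  have e1 := w.eq_sound h1
  have e2 := w.eq_sound h2
  have e3 := w.ne_sound h3
  have e4 := w.ne_sound h4
  have e5 := w.eq_sound h5
  have e6 := w.eq_sound h6
  have e7 := w.eq_sound h7
  have e8 := w.eq_sound h8
  have e9 := w.eq_sound h9
  simp only [w.app, w.nil] at e1 e2 e5 e6 e7 e8 e9
  have : Fact (Nat.Prime 5) := ⟨by norm_num⟩
  refine ⟨w.W A, w.W B, w.W t, w.W c, ?_, ?_, e5, ?_, ?_, ?_, ?_⟩
  · refine orderOf_eq_prime ?_ e3
    rw [← e1]; simp only [pow_succ, pow_zero, one_mul]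
  · refine orderOf_eq_prime ?_ e4
    rw [← e2]; simp only [pow_succ, pow_zero, one_mul]
  · rw [mul_inv_eq_iff_eq_mul, eq_inv_mul_iff_mul_eq]
    rw [← mul_assoc]; exact e6
  · rw [mul_inv_eq_iff_eq_mul]; exact e7
  · rw [mul_inv_eq_iff_eq_mul, e8]; simp only [pow_succ, pow_zero, one_mul, mul_assoc]
  · rw [mul_inv_eq_iff_eq_mul, e9]; simp only [pow_succ, pow_zero, one_mul, mul_assoc]

/-! ### `J₂` -/

def wA : List ℕ := [4, 3, 0, 1, 2, 0, 3, 2, 3, 2, 1, 0, 2, 3, 2, 4, 1, 3, 2, 1, 0, 3, 4, 1, 3, 4, 2, 3, 0, 1, 2, 0, 1,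
  3, 2, 3, 2, 4, 1, 0, 3, 1, 2, 3, 4]
def wB : List ℕ := [0, 3, 4, 2, 3, 2, 1, 0, 3, 4, 3, 1, 2, 3, 2, 1, 4, 3, 1, 2, 0, 1, 3, 0, 1, 2]
def wC : List ℕ := [3, 1, 0, 2, 1, 3, 0, 2, 4, 1, 3, 2, 3, 2, 4, 1, 2, 1, 0, 3, 1, 0, 2, 1, 3, 4, 3, 2, 3, 0, 1, 3, 0,
  1, 2]
def wT : List ℕ := [4, 3, 0, 1, 2, 3, 2, 0, 1, 2, 3, 2, 4, 3, 2, 1, 2, 3, 4, 2, 3, 0, 1, 0, 1, 0, 2, 1, 0, 3, 2, 1, 0,
  3, 1, 0, 2, 1, 3]

private noncomputable def wdJ : Cfsg.Agent.H921.Spor.Wd Cfsg.Agent.SporadicA.J2Hundred.G :=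
  { Cfsg.Agent.H921.Spor.J2.wd with
    eq := Cfsg.Agent.J2Q_H898_TSFive.chk4
    eq_sound := fun h => Cfsg.Agent.H921.Spor.J2.wd.eq_sound (Cfsg.Agent.J2Q_H898_TSFive.chk_eq ▸ h :) }

theorem conf_J2 : HasConf Cfsg.Spor.J2 := by
  have h := hasConf_of_chk wdJ wA wB wT wC (by decide +kernel)
  obtain ⟨e⟩ := Cfsg.Agent.H921.Spor.J2.exists_iso
  exact h.map e.symm.toMonoidHom e.symm.injective

/-! ### `Suz` -/

/-- the words in the letters `7 = a, …, 11 = e` -/
def sh (L : List ℕ) : List ℕ := L.map (· + 7)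

open Cfsg.Agent.OddHalf.Table in
private noncomputable def wdS : Cfsg.Agent.H921.Spor.Wd Cfsg.Spor.Suz :=
  { Cfsg.Agent.H921.Spor.Suz.wd with
    eq := fun u v => Cfsg.Agent.Lib.PermNetFast.eqF 11 4 (u.map SuzRep.lnet) (v.map SuzRep.lnet)
    eq_sound := fun {u v} h => SuzRep.eqw (Cfsg.Agent.Lib.PermNetFast.checkEq_of 4
      (Cfsg.Agent.Schreier.SuzT.rep_wok (SuzRep.forall₂_map u))
      (Cfsg.Agent.Schreier.SuzT.rep_wok (SuzRep.forall₂_map v)) (by norm_num) h) }

theorem conf_Suz : HasConf Cfsg.Spor.Suz :=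
  hasConf_of_chk wdS (sh wA) (sh wB) (sh wT) (sh wC) (by decide +kernel)

/-! ### the exclusions -/

theorem not_J2 {K : Type u} [Field K] [Fintype K] (hK : Fintype.card K = 4) : NotE K .j2 :=
  notE_of_conf hK fun _ _ h => conf_J2.map h.some.symm.toMonoidHom h.some.symm.injective

theorem not_Suz {K : Type u} [Field K] [Fintype K] (hK : Fintype.card K = 4) : NotE K .suz :=
  notE_of_conf hK fun _ _ h => conf_Suz.map h.some.symm.toMonoidHom h.some.symm.injective

theorem conf_G24 {F : Type} [Field F] [Fintype F] (hF : Fintype.card F = 4) : HasConf ↥(Cfsg.Lie.chevG2.group F) := by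
  obtain ⟨H, -, hJ, -⟩ := Cfsg.Agent.S5746.result hF
  exact (conf_J2.map hJ.some.symm.toMonoidHom hJ.some.symm.injective).map H.subtype H.subtype_injective

theorem not_G24 {K : Type u} [Field K] [Fintype K] (hK : Fintype.card K = 4) : NotE K (.g2 4) := by
  refine notE_of_conf hK ?_
  rintro X _ ⟨F, i1, i2, hF, ⟨e⟩⟩
  exact (conf_G24 hF).map e.symm.toMonoidHom e.symm.injective

end Cfsg.Agent.H898.TSFive
end

-- part: H898/TSFivePSU
section
/-!
# `²E₆(2)` has no subgroup `PSU₃(4)` (helper898, S5741 task 987)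
-/

set_option autoImplicit false

namespace Cfsg.Agent.H898.TSFive

open Subgroup Equiv Matrix Cfsg.Agent.OrdDiv Cfsg.Agent.H944.TS

universe u v

variable {F : Type} [Field F]

/-- a monomial matrix -/
def mon (d : Fin 3 → F) (σ : Perm (Fin 3)) : Matrix (Fin 3) (Fin 3) F := fun i j => if σ i = j then d i else 0

theorem mon_mulVec (d : Fin 3 → F) (σ : Perm (Fin 3)) (v : Fin 3 → F) (i : Fin 3) :
    (mon d σ *ᵥ v) i = d i * v (σ i) := by
  unfold mon Matrix.mulVec dotProduct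
  simp

theorem mon_mul (d d' : Fin 3 → F) (σ τ : Perm (Fin 3)) : mon d σ * mon d' τ = mon (fun i => d i * d' (σ i)) (τ * σ) := by
  ext i j
  rw [Matrix.mul_apply]
  unfold mon
  rw [Finset.sum_eq_single (σ i)]
  · by_cases h : τ (σ i) = j
    · simp [h, Perm.mul_apply]
    · simp [h, Perm.mul_apply]
  · intro b _ hb
    rw [if_neg (fun h => hb h.symm), zero_mul]
  · intro h
    exact absurd (Finset.mem_univ _) h

theorem mon_one : mon (fun _ => (1 : F)) 1 = 1 := by
  ext i j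
  by_cases h : i = j
  · subst h
    simp [mon]
  · simp [mon, h]

/-- the element of `SU₃(4)` given by a monomial matrix -/
def el (d : Fin 3 → F) (σ : Perm (Fin 3)) (h : (mon d σ).det = 1) (hd : ∀ i, d i ^ 5 = 1) : SU 3 F 4 :=
  ⟨⟨mon d σ, h⟩, by
    intro u v
    show hermForm 3 F 4 (mon d σ *ᵥ u) (mon d σ *ᵥ v) = hermForm 3 F 4 u v
    unfold hermForm
    have h1 : ∀ i, (mon d σ *ᵥ u) i * (mon d σ *ᵥ v) i ^ 4 = u (σ i) * v (σ i) ^ 4 := by
      intro i
      rw [mon_mulVec, mon_mulVec]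
      linear_combination u (σ i) * v (σ i) ^ 4 * hd i
    simp only [h1]
    exact Equiv.sum_comp σ (fun i => u i * v i ^ 4)⟩

theorem el_ext {x y : SU 3 F 4} (h : (x.1.1 : Matrix (Fin 3) (Fin 3) F) = y.1.1) : x = y :=
  Subtype.ext (Subtype.ext h)

/-- a criterion for the order in a central quotient -/
theorem orderOf_mk {H : Type v} [Group H] {a g : H} (h5 : a ^ 5 = 1) (hg : g * a * g⁻¹ ≠ a) :
    orderOf (QuotientGroup.mk (s := center H) a) = 5 := by
  have : Fact (Nat.Prime 5) := ⟨by norm_num⟩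
  refine orderOf_eq_prime ?_ ?_
  · rw [← QuotientGroup.mk_pow, h5, QuotientGroup.mk_one]
  · intro h
    rw [QuotientGroup.eq_one_iff, mem_center_iff] at h
    exact hg (by rw [h g]; group)

theorem hasConf_quot {H : Type v} [Group H] {a b t c : H} (ha : a * a * a * a * a = 1) (hb : b * b * b * b * b = 1)
    (hab : a * b = b * a) (h1 : a * t * a = t) (h2 : t * b = b * t) (h3 : c * a = a * a * b * b * b * c)
    (h4 : c * b = a * b * b * c) (ha' : t * a ≠ a * t) (hb' : c * b ≠ b * c) : HasConf (H ⧸ center H) := by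
  have ha : a ^ 5 = 1 := by rw [← ha]; simp only [pow_succ, pow_zero, one_mul]
  have hb : b ^ 5 = 1 := by rw [← hb]; simp only [pow_succ, pow_zero, one_mul]
  have h1 : t * a * t⁻¹ = a⁻¹ := by
    rw [mul_inv_eq_iff_eq_mul, eq_inv_mul_iff_mul_eq, ← mul_assoc]; exact h1
  have h2 : t * b * t⁻¹ = b := by rw [mul_inv_eq_iff_eq_mul]; exact h2
  have h3 : c * a * c⁻¹ = a ^ 2 * b ^ 3 := by
    rw [mul_inv_eq_iff_eq_mul, h3]; simp only [pow_succ, pow_zero, one_mul, mul_assoc]
  have h4 : c * b * c⁻¹ = a * b ^ 2 := by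
    rw [mul_inv_eq_iff_eq_mul, h4]; simp only [pow_succ, pow_zero, one_mul, mul_assoc]
  have ha' : t * a * t⁻¹ ≠ a := fun h => ha' (by rw [mul_inv_eq_iff_eq_mul] at h; exact h)
  have hb' : c * b * c⁻¹ ≠ b := fun h => hb' (by rw [mul_inv_eq_iff_eq_mul] at h; exact h)
  refine ⟨QuotientGroup.mk a, QuotientGroup.mk b, QuotientGroup.mk t, QuotientGroup.mk c, orderOf_mk ha ha',
    orderOf_mk hb hb', ?_, ?_, ?_, ?_, ?_⟩
  · show QuotientGroup.mk a * QuotientGroup.mk b = QuotientGroup.mk b * QuotientGroup.mk a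
    rw [← QuotientGroup.mk_mul, hab, QuotientGroup.mk_mul]
  · rw [← QuotientGroup.mk_inv, ← QuotientGroup.mk_mul, ← QuotientGroup.mk_mul, h1, QuotientGroup.mk_inv]
  · rw [← QuotientGroup.mk_inv, ← QuotientGroup.mk_mul, ← QuotientGroup.mk_mul, h2]
  · rw [← QuotientGroup.mk_inv, ← QuotientGroup.mk_mul, ← QuotientGroup.mk_mul, h3, QuotientGroup.mk_mul,
      QuotientGroup.mk_pow, QuotientGroup.mk_pow]
  · rw [← QuotientGroup.mk_inv, ← QuotientGroup.mk_mul, ← QuotientGroup.mk_mul, h4, QuotientGroup.mk_mul,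
      QuotientGroup.mk_pow]

theorem conf_PSU [Fintype F] (hF : Fintype.card F = 4 ^ 2) : HasConf (PSU 3 F 4) := by
  classical
  have h2 : (2 : F) = 0 := by
    have h3 : ((Fintype.card F : ℕ) : F) = 0 := FiniteField.cast_card_eq_zero F
    rw [hF] at h3
    push_cast at h3
    have h4 : (2 : F) ^ 4 = 0 := by linear_combination h3
    exact pow_eq_zero_iff (by norm_num) |>.1 h4
  obtain ⟨α, hα5, hα1⟩ : ∃ α : F, α ^ 5 = 1 ∧ α ≠ 1 := by
    have : Fact (Nat.Prime 5) := ⟨by norm_num⟩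
    have h3 : 5 ∣ Fintype.card Fˣ := by rw [Fintype.card_units, hF]; norm_num
    obtain ⟨x, hx⟩ := exists_prime_orderOf_dvd_card 5 h3
    refine ⟨(x : F), ?_, ?_⟩
    · rw [← Units.val_pow_eq_pow_val, ← hx, pow_orderOf_eq_one, Units.val_one]
    · intro h
      have h4 : x = 1 := Units.ext h
      rw [h4, orderOf_one] at hx
      norm_num at hx
  have hα2 : α ^ 2 ≠ 1 := by
    intro h
    apply hα1
    linear_combination hα5 - (α ^ 3 + α) * h
  have hα3 : α ^ 3 ≠ 1 := by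
    intro h
    apply hα2
    linear_combination hα5 - α ^ 2 * h
  have neg1 : (-1 : F) = 1 := by linear_combination -h2
  -- `a = diag(α, α⁻¹, 1)`, `b = diag(α, α, α⁻²)`
  have hda : (mon (![α, α ^ 4, 1] : Fin 3 → F) 1).det = 1 := by
    rw [Matrix.det_fin_three]
    simp [mon]
    linear_combination hα5
  have hdb : (mon (![α, α, α ^ 3] : Fin 3 → F) 1).det = 1 := by
    rw [Matrix.det_fin_three]
    simp [mon]
    linear_combination hα5
  have hdt : (mon (fun _ => (1 : F)) (swap 0 1)).det = 1 := by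
    rw [Matrix.det_fin_three]
    have e0 : (swap (0 : Fin 3) 1) 0 = 1 := by decide
    have e1 : (swap (0 : Fin 3) 1) 1 = 0 := by decide
    have e2 : (swap (0 : Fin 3) 1) 2 = 2 := by decide
    simp [mon, e0, e1, e2, neg1]
  let κ : Perm (Fin 3) := swap 1 2 * swap 0 1
  have hdc : (mon (fun _ => (1 : F)) κ).det = 1 := by
    rw [Matrix.det_fin_three]
    have e0 : κ 0 = 2 := by decide
    have e1 : κ 1 = 0 := by decide
    have e2 : κ 2 = 1 := by decide
    simp [mon, e0, e1, e2]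
  have h5a : ∀ i, (![α, α ^ 4, 1] : Fin 3 → F) i ^ 5 = 1 := by
    intro i
    fin_cases i
    · exact hα5
    · show (α ^ 4) ^ 5 = 1
      linear_combination (α ^ 15 + α ^ 10 + α ^ 5 + 1) * hα5
    · show (1 : F) ^ 5 = 1
      exact one_pow 5
  have h5b : ∀ i, (![α, α, α ^ 3] : Fin 3 → F) i ^ 5 = 1 := by
    intro i
    fin_cases i
    · exact hα5
    · exact hα5
    · show (α ^ 3) ^ 5 = 1
      linear_combination (α ^ 10 + α ^ 5 + 1) * hα5
  have h51 : ∀ i : Fin 3, ((fun _ => (1 : F)) : Fin 3 → F) i ^ 5 = 1 := fun i => one_pow 5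
  have key : ∀ {d d' : Fin 3 → F} {σ τ : Perm (Fin 3)}, d 0 = d' 0 → d 1 = d' 1 → d 2 = d' 2 → σ = τ →
      mon d σ = mon d' τ := by
    intro d d' σ τ h0 h1 h2 h3
    have h4 : d = d' := by
      funext i
      fin_cases i
      · exact h0
      · exact h1
      · exact h2
    rw [h4, h3]
  refine hasConf_quot (a := el _ _ hda h5a) (b := el _ _ hdb h5b) (t := el _ _ hdt h51) (c := el _ _ hdc h51)
    ?_ ?_ ?_ ?_ ?_ ?_ ?_ ?_ ?_
  · apply el_ext
    show mon _ _ * mon _ _ * mon _ _ * mon _ _ * mon _ _ = (1 : Matrix (Fin 3) (Fin 3) F)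
    rw [← mon_one]
    simp only [mon_mul, one_mul, mul_one, Perm.one_apply]
    refine key ?_ ?_ ?_ rfl
    · show α * α * α * α * α = 1
      linear_combination hα5
    · show α ^ 4 * α ^ 4 * α ^ 4 * α ^ 4 * α ^ 4 = 1
      linear_combination (α ^ 15 + α ^ 10 + α ^ 5 + 1) * hα5
    · show (1 : F) * 1 * 1 * 1 * 1 = 1
      ring
  · apply el_ext
    show mon _ _ * mon _ _ * mon _ _ * mon _ _ * mon _ _ = (1 : Matrix (Fin 3) (Fin 3) F)
    rw [← mon_one]
    simp only [mon_mul, one_mul, mul_one, Perm.one_apply]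
    refine key ?_ ?_ ?_ rfl
    · show α * α * α * α * α = 1
      linear_combination hα5
    · show α * α * α * α * α = 1
      linear_combination hα5
    · show α ^ 3 * α ^ 3 * α ^ 3 * α ^ 3 * α ^ 3 = 1
      linear_combination (α ^ 10 + α ^ 5 + 1) * hα5
  · apply el_ext
    show mon _ _ * mon _ _ = mon _ _ * mon _ _
    simp only [mon_mul, one_mul, mul_one, Perm.one_apply]
    refine key ?_ ?_ ?_ rfl
    · exact mul_comm _ _
    · exact mul_comm _ _
    · exact mul_comm _ _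
  · apply el_ext
    show mon _ _ * mon _ _ * mon _ _ = mon _ _
    simp only [mon_mul, one_mul, mul_one, Perm.one_apply]
    refine key ?_ ?_ ?_ rfl
    · show α * α ^ 4 = 1
      linear_combination hα5
    · show α ^ 4 * α = 1
      linear_combination hα5
    · show (1 : F) * 1 = 1
      ring
  · apply el_ext
    show mon _ _ * mon _ _ = mon _ _ * mon _ _
    simp only [mon_mul, one_mul, mul_one, Perm.one_apply]
    refine key ?_ ?_ ?_ rfl
    · rfl
    · rfl
    · rfl
  · apply el_ext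
    show mon _ _ * mon _ _ = mon _ _ * mon _ _ * mon _ _ * mon _ _ * mon _ _ * mon _ _
    simp only [mon_mul, one_mul, mul_one, Perm.one_apply]
    refine key ?_ ?_ ?_ rfl
    · show (1 : F) = α * α * α * α * α
      linear_combination -hα5
    · show α = α ^ 4 * α ^ 4 * α * α * α
      linear_combination (-(α ^ 6) - α) * hα5
    · show α ^ 4 = 1 * 1 * α ^ 3 * α ^ 3 * α ^ 3
      linear_combination (-(α ^ 4)) * hα5
  · apply el_ext
    show mon _ _ * mon _ _ = mon _ _ * mon _ _ * mon _ _ * mon _ _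
    simp only [mon_mul, one_mul, mul_one, Perm.one_apply]
    refine key ?_ ?_ ?_ rfl
    · show α ^ 3 = α * α * α
      ring
    · show α = α ^ 4 * α * α
      linear_combination (-α) * hα5
    · show α = 1 * α ^ 3 * α ^ 3
      linear_combination (-α) * hα5
  · intro h
    have h1 := congrArg (fun x : SU 3 F 4 => (x.1.1 : Matrix (Fin 3) (Fin 3) F) 0 1) h
    have h3 : (mon (fun _ => (1 : F)) (swap 0 1) * mon (![α, α ^ 4, 1] : Fin 3 → F) 1) 0 1 =
        (mon (![α, α ^ 4, 1] : Fin 3 → F) 1 * mon (fun _ => (1 : F)) (swap 0 1)) 0 1 := h1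
    rw [mon_mul, mon_mul] at h3
    have h4 : α ^ 4 = α := by
      have e0 : (swap (0 : Fin 3) 1) 0 = 1 := by decide
      simpa [mon, e0] using h3
    apply hα3
    have h5 : α ≠ 0 := by
      intro h6
      rw [h6] at hα5
      norm_num at hα5
    have h6 : α * (α ^ 3 - 1) = 0 := by linear_combination h4
    rcases mul_eq_zero.1 h6 with h7 | h7
    · exact absurd h7 h5
    · linear_combination h7
  · intro h
    have h1 := congrArg (fun x : SU 3 F 4 => (x.1.1 : Matrix (Fin 3) (Fin 3) F) 0 2) h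
    have h3 : (mon (fun _ => (1 : F)) κ * mon (![α, α, α ^ 3] : Fin 3 → F) 1) 0 2 =
        (mon (![α, α, α ^ 3] : Fin 3 → F) 1 * mon (fun _ => (1 : F)) κ) 0 2 := h1
    rw [mon_mul, mon_mul] at h3
    have h4 : α ^ 3 = α := by
      have e0 : κ 0 = 2 := by decide
      simpa [mon, e0] using h3
    apply hα2
    have h5 : α ≠ 0 := by
      intro h6
      rw [h6] at hα5
      norm_num at hα5
    have h6 : α * (α ^ 2 - 1) = 0 := by linear_combination h4
    rcases mul_eq_zero.1 h6 with h7 | h7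
    · exact absurd h7 h5
    · linear_combination h7

theorem not_PSU {K : Type u} [Field K] [Fintype K] (hK : Fintype.card K = 4) : NotE K (.psu 3 4) := by
  refine notE_of_conf hK ?_
  rintro X _ ⟨F, i1, i2, hF, ⟨e⟩⟩
  exact (conf_PSU hF).map e.symm.toMonoidHom e.symm.injective

end Cfsg.Agent.H898.TSFive
end

private theorem dce_395849c97a2b : _root_.True := by
  try have : _root_.True := by simp only [_root_.Cfsg.Agent.H898.TSFive.mon.eq_1]
  try have : _root_.True := by simp only [_root_.Cfsg.Agent.H898.TSFive.V.eq_1]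
  try have : _root_.True := by simp only [_root_.Cfsg.Agent.H898.TSFive.chkConf.eq_1]
  exact _root_.True.intro
end

-- part: H898/TSSzNot
section
prune_inst 0x4e10002204c20020000000082312022206400009000200000000000400008a16005002140a0a000001a08020100050000001000800000000000000000000100208000000001000000460009000004000000000000000000000000000000000004000000000
set_option linter.all false
open scoped Cfsg.Agent.FastGrp

-- part: H898/TSVE
section
/-!
# Eigenvalues of the elements of order 5, 7, 13 on the 27-dimensional module of `²E₆(2)` (helper898)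
-/

set_option autoImplicit false
set_option linter.unusedSectionVars false
set_option maxRecDepth 100000

namespace Cfsg.Agent.H898.TSVE

open Cfsg.Agent.ChevalleyStructure.CoxeterGeom Cfsg.Agent.Tits.Roots
  Cfsg.Agent.Nodes.RGDChev
open Cfsg.Lie Cfsg.Agent.ChevalleyStructure Cfsg.Agent.ChevalleyStructure.Elts
  Cfsg.Agent.ChevalleyStructure.RootVec Cfsg.Agent.ChevalleyStructure.RootVecTab
  Cfsg.Agent.ChevalleyStructure.NPerm Cfsg.Agent.ChevalleyStructure.CoxeterGeomTypes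
open Cfsg.Agent.H944.RootVals Cfsg.Agent.H944.Kac Cfsg.Agent.H944.Tab Cfsg.Agent.H944.TS.Eig Polynomial
open Cfsg.Agent.ChevalleyStructure.E6Min.Tables Cfsg.Agent.ChevalleyStructure.E6Min.Basic
  Cfsg.Agent.ChevalleyStructure.E6Min.Adjoint
open Cfsg.Agent.H898.TSVTab Cfsg.Agent.H898.TSVDiag Cfsg.Agent.H898.TSVW

universe u

/-! ### the weights as a list -/

/-- The value of a list on a vector. -/
def dotZ {S : Type*} [CommRing S] (v : Fin 6 → S) (r : List ℤ) : S := ∑ i : Fin 6, ((r.getD i 0 : ℤ) : S) * v i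

theorem wz_eq : WZ = (List.range 27).map fun m => WZ.getD m [] := by decide +kernel

theorem wz_w3 : ∀ m : Fin 27, ∀ i : Fin 6, (WZ.getD m []).getD i 0 = w3 m i := by decide +kernel

theorem wm_eq {S : Type*} [CommRing S] (v : Fin 6 → S) : wm v = ((WZ.map (dotZ v) : List S) : Multiset S) := by
  have h1 : wm v = ((Finset.univ : Finset I27).val.map E6Min.Tables.code).map fun m => ∑ i : Fin 6, ((w3 m i : ℤ) : S) * v i := by
    rw [Multiset.map_map]
    rfl
  have h2 : WZ.map (dotZ v) = (List.range 27).map fun m => ∑ i : Fin 6, ((w3 m i : ℤ) : S) * v i := by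
    rw [wz_eq, List.map_map]
    refine List.map_congr_left fun m hm => ?_
    rw [List.mem_range] at hm
    show ∑ i : Fin 6, (((WZ.getD m []).getD i 0 : ℤ) : S) * v i = _
    refine Finset.sum_congr rfl fun i _ => ?_
    rw [wz_w3 ⟨m, hm⟩ i]
  rw [h1, c5, h2]
  rfl

theorem T_getD (j i : Fin 6) (r : List ℤ) : (T j r).getD i 0 =
    r.getD i 0 - if i = j then (∑ k : Fin 6, cartanOf chevE6 6 j k * r.getD k 0) else 0 := by
  unfold T
  rw [List.getD_eq_getElem _ _ (by rw [List.length_map, List.length_range]; exact i.2), List.getElem_map,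
    List.getElem_range]
  congr 1
  by_cases h : i = j
  · subst h
    rw [if_pos rfl, if_pos rfl]
    have h1 : Fin.ofNat 6 (i : ℕ) = i := Fin.ext (Nat.mod_eq_of_lt i.2)
    rw [h1]
  · rw [if_neg (fun h1 => h (Fin.ext h1)), if_neg h]

theorem dotZ_srefl {S : Type*} [CommRing S] (j : Fin 6) (v : Fin 6 → S) (r : List ℤ) :
    dotZ (srefl chevE6 6 j v) r = dotZ v (T j r) := by
  unfold dotZ srefl
  simp only [T_getD, mul_sub, Int.cast_sub, sub_mul, Finset.sum_sub_distrib]
  congr 1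
  refine Eq.trans ?_ (Finset.sum_eq_single j ?_ ?_).symm
  · rw [if_pos rfl]
    push_cast
    rw [Finset.sum_mul]
    refine Finset.sum_congr rfl fun i _ => ?_
    ring
  · intro i _ hi
    rw [if_neg hi, Int.cast_zero, zero_mul]
  · intro h; exact absurd (Finset.mem_univ _) h

theorem wm_srefl {S : Type*} [CommRing S] (j : Fin 6) (v : Fin 6 → S) : wm (srefl chevE6 6 j v) = wm v := by
  rw [wm_eq, wm_eq, Multiset.coe_eq_coe]
  have h1 : WZ.map (dotZ (srefl chevE6 6 j v)) = (WZ.map (T j)).map (dotZ v) := by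
    rw [List.map_map]
    refine List.map_congr_left fun r _ => ?_
    exact dotZ_srefl j v r
  rw [h1]
  exact (c4 j).map _

theorem count_wm {N : ℕ} (hN : 0 < N) (h455 : N ∣ 455) (Y : List ℕ) (c : ZMod N) :
    (wm (fun i : Fin 6 => ((Y.getD i 0 : ℕ) : ZMod N))).count c = cntW N c.val Y := by
  have : NeZero N := ⟨hN.ne'⟩
  rw [count_eq_sum, wm_eq, Multiset.map_coe, Multiset.sum_coe, List.map_map]
  unfold cntW WZ
  rw [sumH_eq, List.map_map]
  congr 1
  refine List.map_congr_left fun r hr => ?_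
  have hlen : r.length ≤ 6 := by
    have : ∀ r ∈ WN, r.length ≤ 6 := by decide +kernel
    exact this r hr
  have h0 : ((455 : ℕ) : ZMod N) = 0 := (ZMod.natCast_eq_zero_iff 455 N).2 h455
  have h7 : dotZ (fun i : Fin 6 => ((Y.getD i 0 : ℕ) : ZMod N))
      ((List.range 6).map fun i => ((r.getD i 0 : ℕ) : ℤ) - 455) = ((dotN r Y : ℕ) : ZMod N) := by
    rw [dotN_eq 6 r Y hlen]
    unfold dotZ
    push_cast
    refine Finset.sum_congr rfl fun i _ => ?_
    congr 1
    rw [List.getD_eq_getElem _ _ (by rw [List.length_map, List.length_range]; exact i.2), List.getElem_map,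
      List.getElem_range]
    push_cast
    have h1 : (455 : ZMod N) = 0 := by exact_mod_cast h0
    rw [h1, sub_zero]
  simp only [Function.comp_apply]
  rw [h7]
  refine if_congr ?_ rfl rfl
  rw [← mod_iff _ (ZMod.val_lt c), ZMod.natCast_zmod_val]

theorem card_wm {S : Type*} [CommRing S] (v : Fin 6 → S) : Multiset.card (wm v) = 27 := by
  unfold wm
  rw [Multiset.card_map]
  rfl

theorem diffs : ∀ i : Fin 6, ∃ m m' : Fin 27, ∀ j : Fin 6, w3 m j - w3 m' j = if j = i then 3 else 0 := by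
  decide +kernel

theorem eq_zero_of_wm {N : ℕ} (h3 : N.Coprime 3) {a : Fin 6 → ZMod N} (h : (wm a).count 0 = 27) (i : Fin 6) :
    a i = 0 := by
  rw [← card_wm a, Multiset.count_eq_card] at h
  have h1 : ∀ m : Fin 27, ∑ j : Fin 6, ((w3 m j : ℤ) : ZMod N) * a j = 0 := by
    intro m
    refine (h _ ?_).symm
    unfold wm
    rw [Multiset.mem_map]
    refine ⟨dec m, Finset.mem_univ_val _, ?_⟩
    rw [code_dec m.2]
  obtain ⟨m, m', hm⟩ := diffs i
  have h2 : ((3 : ℕ) : ZMod N) * a i = 0 := by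
    have h4 : ∑ j : Fin 6, ((w3 m j - w3 m' j : ℤ) : ZMod N) * a j = 0 := by
      push_cast
      simp only [sub_mul, Finset.sum_sub_distrib]
      rw [h1, h1, sub_zero]
    rw [Finset.sum_eq_single i] at h4
    · rw [hm, if_pos rfl] at h4
      push_cast at h4 ⊢
      exact h4
    · intro j _ hj
      rw [hm, if_neg hj, Int.cast_zero, zero_mul]
    · intro hh; exact absurd (Finset.mem_univ _) hh
  have hunit : IsUnit ((3 : ℕ) : ZMod N) := (ZMod.isUnit_iff_coprime 3 N).2 h3.symm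
  exact (hunit.mul_right_eq_zero).1 h2

variable {K : Type u} [Field K] [Fintype K]

/-- **Eigenvalues on the 27-dimensional module.** -/
theorem eigV (hK : Fintype.card K = 4) [CharP K 2] {N : ℕ} (hN : 0 < N) (hodd : N.Coprime 2) (h3 : N.Coprime 3)
    (h455 : N ∣ 455) {L : List (List ℕ)} (hL : chkV N L = true) {z : ↥(Zgrp K)} (hz : z ^ N = 1)
    (hx : ((ad K z : ↥(chevE6.group K)) : GL chevE6.Idx K) ∈ twistedE6 K 2) :
    ∃ T ∈ L, ∃ ζ : (AlgebraicClosure K)ˣ, IsPrimitiveRoot ζ N ∧ (T.getD 0 0 = 27 → ad K z = 1) ∧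
      (((((z : GL I27 K)⁻¹ : GL I27 K)) : Matrix I27 I27 K).charpoly = ((z : GL I27 K) : Matrix I27 I27 K).charpoly →
        ∀ c < N, T.getD ((N - c) % N) 0 = T.getD c 0) ∧
      ((z : GL I27 K) : Matrix I27 I27 K).charpoly.map (algebraMap K (AlgebraicClosure K)) =
        ∏ c ∈ Finset.range N, (X - C (((ζ ^ c : (AlgebraicClosure K)ˣ)) : AlgebraicClosure K)) ^ (T.getD c 0) := by
  classical
  have : Fact (Nat.Prime 2) := ⟨Nat.prime_two⟩
  have : NeZero N := ⟨hN.ne'⟩
  have hkch : CharP (AlgebraicClosure K) 2 := charP_of_injective_algebraMap (algebraMap K (AlgebraicClosure K)).injective 2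
  have hk : Cfsg.Agent.BpExc.TorAll.HAlg 2 (AlgebraicClosure K) := hAlg_closure 2 K
  have hNk : ((N : ℕ) : AlgebraicClosure K) ≠ 0 := by
    intro h0
    have h1 : 2 ∣ N := (CharP.cast_eq_zero_iff (AlgebraicClosure K) 2 N).1 h0
    have h2 : 2 ∣ 1 := by
      rw [← hodd]
      exact Nat.dvd_gcd h1 dvd_rfl
    omega
  have : NeZero ((N : ℕ) : AlgebraicClosure K) := ⟨hNk⟩
  obtain ⟨ζ, hζ⟩ : ∃ ζ : AlgebraicClosure K, IsPrimitiveRoot ζ N := HasEnoughRootsOfUnity.exists_primitiveRoot _ N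
  have hζu : IsPrimitiveRoot (hζ.toRootsOfUnity : (AlgebraicClosure K)ˣ) N := by
    rw [IsPrimitiveRoot.coe_units_iff.symm]
    exact hζ
  obtain ⟨v, hord, hinv, hcp, hre⟩ := core hk (algebraMap K (AlgebraicClosure K)) hN.ne' h3 hodd hζu hz
  have hinv' := hinv (charpoly_frob hK hx)
  let P : (Fin 6 → ZMod N) → Prop := fun w => ms chevE6 6 w = ms chevE6 6 v ∧ wm w = wm v
  have hPs : ∀ w j, P w → P (srefl chevE6 6 j w) := by
    intro w j hw
    refine ⟨?_, ?_⟩
    · rw [ms_srefl e6T]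
      exact hw.1
    · rw [wm_srefl]
      exact hw.2
  obtain ⟨y, hy, hθ⟩ := exists_alcove e6T (N := N) hN _ _ 24 (by norm_num) theta6
    (by decide) _ pos6 P hPs (v₀ := v) ⟨rfl, rfl⟩
  let Y : List ℕ := List.ofFn y
  have hY : ∀ i : Fin 6, Y.getD i 0 = y i := by
    intro i
    rw [List.getD_eq_getElem _ _ (by rw [List.length_ofFn]; exact i.2), List.getElem_ofFn]
  have h1 : dotN th6 Y ≤ N := by
    rw [dotN_eq 6 th6 Y (by decide)]
    have h2 : ∑ i : Fin 6, th6.getD i 0 * Y.getD i 0 = ∑ i : Fin 6, th6.getD i 0 * y i :=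
      Finset.sum_congr rfl fun i _ => by rw [hY]
    rw [h2]
    simp only [Fin.sum_univ_six, Matrix.cons_val] at hθ ⊢
    simp only [th6, List.getD_cons_zero, List.getD_cons_succ] at hθ ⊢
    norm_num at hθ ⊢
    omega
  have h2 := allAlc_spec th6 N _ (by decide) hL Y (by simp [Y, th6]) h1
  have h3' : (fun i : Fin 6 => ((Y.getD i 0 : ℕ) : ZMod N)) = fun i => (y i : ZMod N) := by
    funext i
    rw [hY]
  have hPz : ms chevE6 6 (fun i : Fin 6 => ((Y.getD i 0 : ℕ) : ZMod N)) = ms chevE6 6 v := by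
    rw [h3']; exact hy.1
  have hWz : wm (fun i : Fin 6 => ((Y.getD i 0 : ℕ) : ZMod N)) = wm v := by
    rw [h3']; exact hy.2
  have h4 : invB N 2 R6 Y = true := by
    refine invB_of hN tab6 len6 ?_
    rw [hPz]
    exact hinv'
  rw [h4, cond_true, chkWT, List.any_eq_true] at h2
  obtain ⟨T, hT, hT2⟩ := h2
  rw [List.all_eq_true] at hT2
  have hcount : ∀ c : ZMod N, (wm v).count c = T.getD c.val 0 := by
    intro c
    have h5 := hT2 c.val (List.mem_range.2 (ZMod.val_lt c))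
    rw [Nat.beq_eq] at h5
    rw [← h5, ← hWz]
    exact count_wm hN h455 Y c
  refine ⟨T, hT, _, hζu, fun h0 => ?_, fun hr c hc => ?_, ?_⟩
  · have h5 : (wm v).count 0 = 27 := by rw [hcount, ZMod.val_zero, h0]
    have h6 := hord 1 fun i => by rw [eq_zero_of_wm h3 h5 i, mul_zero]
    rwa [pow_one] at h6
  · have h5 := hre hr
    have h6 : (wm v).count (-(c : ZMod N)) = (wm v).count (c : ZMod N) := by
      conv_lhs => rw [← h5]
      exact Multiset.count_map_eq_count' _ _ neg_injective _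
    rw [hcount, hcount, ZMod.neg_val', ZMod.val_natCast, Nat.mod_eq_of_lt hc] at h6
    exact h6
  · rw [hcp]
    exact prod_of_count hN (wm v) (fun c => X - C ((((hζ.toRootsOfUnity : (AlgebraicClosure K)ˣ) ^ c : (AlgebraicClosure K)ˣ)) : AlgebraicClosure K)) T hcount

end Cfsg.Agent.H898.TSVE
end

-- part: H898/TSVP
section
/-!
# Traces and second coefficients from the eigenvalues (helper898)
-/

set_option autoImplicit false
set_option linter.unusedSectionVars false
set_option linter.style.longLine false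

namespace Cfsg.Agent.H898.TSVP

open Polynomial Cfsg.Agent.H944.TS.Eig Cfsg.Agent.H898.TSETwo

universe u

variable {K : Type u} [Field K]

section poly

variable [CharP K 2]

theorem two_zero : (2 : K[X]) = 0 := by
  have h : (2 : K) = 0 := by exact_mod_cast CharP.cast_eq_zero K 2
  have h1 : (2 : K[X]) = C 2 := by rw [C_ofNat]
  rw [h1, h, C_0]

theorem X_sub_ne : (X - 1 : K[X]) ≠ 0 := by
  have := X_sub_C_ne_zero (1 : K)
  rwa [C_1] at this

theorem q5 {p : K[X]} (h : p * (X - 1) ^ 5 = (X - 1) ^ 7 * (X ^ 5 - 1) ^ 5) :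
    p = X ^ 27 + X ^ 25 + X ^ 22 + X ^ 20 + X ^ 7 + X ^ 5 + X ^ 2 + 1 := by
  refine mul_right_cancel₀ (pow_ne_zero 5 X_sub_ne) ?_
  rw [h]
  symm
  linear_combination ((-1) + (6) * X + (-16) * X ^ 2 + (25) * X ^ 3 + (-25) * X ^ 4 + (18) * X ^ 5 + (-21) * X ^ 6 +
      (48) * X ^ 7 + (-80) * X ^ 8 + (80) * X ^ 9 + (-52) * X ^ 10 + (50) * X ^ 11 + (-107) * X ^ 12 +
      (175) * X ^ 13 + (-175) * X ^ 14 + (110) * X ^ 15 + (-70) * X ^ 16 + (110) * X ^ 17 +
      (-175) * X ^ 18 + (175) * X ^ 19 + (-108) * X ^ 20 + (55) * X ^ 21 + (-63) * X ^ 22 + (95) * X ^ 23 +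
      (-95) * X ^ 24 + (58) * X ^ 25 + (-21) * X ^ 26 + (8) * X ^ 27 + (-10) * X ^ 28 + (10) * X ^ 29 +
      (-5) * X ^ 30 + X ^ 31) * two_zero (K := K)

theorem q13 {p : K[X]} (h : p * (X - 1) ^ 2 = (X - 1) ^ 3 * (X ^ 13 - 1) ^ 2) :
    p = X ^ 27 + X ^ 26 + X + 1 := by
  refine mul_right_cancel₀ (pow_ne_zero 2 X_sub_ne) ?_
  rw [h]
  symm
  linear_combination ((1) + (-2) * X + X ^ 2 + (-1) * X ^ 13 + (3) * X ^ 14 + (-3) * X ^ 15 + X ^ 16 + X ^ 26 +
      (-2) * X ^ 27 + X ^ 28) * two_zero (K := K)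

theorem q7a {p : K[X]} (h : p * (X - 1) ^ 3 = (X - 1) ^ 9 * (X ^ 7 - 1) ^ 3) :
    p = X ^ 27 + X ^ 25 + X ^ 23 + X ^ 21 + X ^ 20 + X ^ 18 + X ^ 16 + X ^ 14 + X ^ 13 + X ^ 11 + X ^ 9 +
      X ^ 7 + X ^ 6 + X ^ 4 + X ^ 2 + 1 := by
  refine mul_right_cancel₀ (pow_ne_zero 3 X_sub_ne) ?_
  rw [h]
  symm
  linear_combination ((-1) + (6) * X + (-20) * X ^ 2 + (44) * X ^ 3 + (-65) * X ^ 4 + (65) * X ^ 5 + (-44) * X ^ 6 +
      (21) * X ^ 7 + (-18) * X ^ 8 + (53) * X ^ 9 + (-124) * X ^ 10 + (187) * X ^ 11 + (-187) * X ^ 12 +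
      (124) * X ^ 13 + (-54) * X ^ 14 + (27) * X ^ 15 + (-57) * X ^ 16 + (128) * X ^ 17 + (-191) * X ^ 18 +
      (191) * X ^ 19 + (-128) * X ^ 20 + (56) * X ^ 21 + (-18) * X ^ 22 + (18) * X ^ 23 + (-40) * X ^ 24 +
      (61) * X ^ 25 + (-61) * X ^ 26 + (40) * X ^ 27 + (-16) * X ^ 28 + (3) * X ^ 29) * two_zero (K := K)

theorem q7b {p : K[X]} (h : p * (X - 1) ^ 4 = (X - 1) ^ 3 * (X ^ 7 - 1) ^ 4) :
    p = X ^ 27 + X ^ 26 + X ^ 25 + X ^ 24 + X ^ 23 + X ^ 22 + X ^ 21 + X ^ 20 + X ^ 19 + X ^ 18 + X ^ 17 +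
      X ^ 16 + X ^ 15 + X ^ 14 + X ^ 13 + X ^ 12 + X ^ 11 + X ^ 10 + X ^ 9 + X ^ 8 + X ^ 7 + X ^ 6 + X ^ 5 +
      X ^ 4 + X ^ 3 + X ^ 2 + X + 1 := by
  refine mul_right_cancel₀ (pow_ne_zero 4 X_sub_ne) ?_
  rw [h]
  symm
  linear_combination ((1) + (-3) * X + (3) * X ^ 2 + (-1) * X ^ 3 + (-2) * X ^ 7 + (6) * X ^ 8 + (-6) * X ^ 9 +
      (2) * X ^ 10 + (3) * X ^ 14 + (-9) * X ^ 15 + (9) * X ^ 16 + (-3) * X ^ 17 + (-2) * X ^ 21 +
      (6) * X ^ 22 + (-6) * X ^ 23 + (2) * X ^ 24) * two_zero (K := K)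

end poly

variable {ι : Type} [Fintype ι] [DecidableEq ι] {A : Matrix ι ι K}

section co

variable [CharP K 2]

theorem trace_of (hι : Fintype.card ι = 27) {q : K[X]} (h : A.charpoly = q) : A.trace = q.coeff 26 := by
  have hn : Nonempty ι := Fintype.card_pos_iff.1 (by omega)
  have h1 := Matrix.trace_eq_neg_charpoly_coeff A
  rw [h1, hι, h]
  have h2 : (2 : K) = 0 := by exact_mod_cast CharP.cast_eq_zero K 2
  have : ∀ x : K, -x = x := fun x => by linear_combination (-x) * h2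
  exact this _

theorem e2_of (hι : Fintype.card ι = 27) {q : K[X]} (h : A.charpoly = q) : e2 A = q.coeff 25 := by
  have h1 := coeff_eq A (by omega)
  rw [← h1, hι, h]

theorem five (hι : Fintype.card ι = 27) (h : CP A 5 7 5) : A.trace = 0 ∧ e2 A = 1 := by
  have h1 := q5 h
  rw [trace_of hι h1, e2_of hι h1]
  constructor <;> simp [coeff_X, coeff_one]

theorem thirteen (hι : Fintype.card ι = 27) (h : CP A 13 3 2) : A.trace = 1 ∧ e2 A = 0 := by
  have h1 := q13 h
  rw [trace_of hι h1, e2_of hι h1]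
  constructor <;> simp [coeff_X, coeff_one]

theorem seven_a (hι : Fintype.card ι = 27) (h : CP A 7 9 3) : A.trace = 0 ∧ e2 A = 1 := by
  have h1 := q7a h
  rw [trace_of hι h1, e2_of hι h1]
  constructor <;> simp [coeff_X, coeff_one]

theorem seven_b (hι : Fintype.card ι = 27) (h : CP A 7 3 4) : A.trace = 1 ∧ e2 A = 1 := by
  have h1 := q7b h
  rw [trace_of hι h1, e2_of hι h1]
  constructor <;> simp [coeff_X, coeff_one]

theorem four (hι : Fintype.card ι = 27) [Fintype K] (hK : Fintype.card K = 4) (h : A ^ 4 = 1) :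
    A.trace = 1 ∧ e2 A = 1 := by
  have h2 : (2 : K) = 0 := by exact_mod_cast CharP.cast_eq_zero K 2
  have h1 : A.charpoly = (1 : Matrix ι ι K).charpoly := by
    have h3 := FiniteField.Matrix.charpoly_pow_card A
    rw [hK, h] at h3
    exact h3.symm
  rw [trace_of hι h1, e2_of hι h1]
  have h4 : (1 : Matrix ι ι K).charpoly = (X - C 1) ^ 27 := by
    rw [Matrix.charpoly_one, hι, C_1]
  rw [h4, sub_eq_add_neg, ← C_neg, coeff_X_add_C_pow, coeff_X_add_C_pow]
  have c1 : Nat.choose 27 26 = 27 := by decide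
  have c2 : Nat.choose 27 25 = 351 := by decide
  rw [c1, c2]
  constructor
  · norm_num
    linear_combination (-14) * h2
  · norm_num
    linear_combination 175 * h2

end co

/-- from the table of the eigenvalues to `CP` -/
theorem cpV {N : ℕ} (hN : 0 < N) {T : List ℕ} {a b : ℕ} (hT : ∀ c < N, 0 < c → T.getD c 0 = b)
    (hT0 : T.getD 0 0 = a) {ζ : (AlgebraicClosure K)ˣ} (hζ : IsPrimitiveRoot ζ N)
    (h : A.charpoly.map (algebraMap K (AlgebraicClosure K)) =
        ∏ c ∈ Finset.range N, (X - C (((ζ ^ c : (AlgebraicClosure K)ˣ)) : AlgebraicClosure K)) ^ (T.getD c 0)) :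
    CP A N a b := by
  have hζ' : IsPrimitiveRoot ((ζ : (AlgebraicClosure K)ˣ) : AlgebraicClosure K) N := IsPrimitiveRoot.coe_units_iff.2 hζ
  simp only [Units.val_pow_eq_pow_val] at h
  show A.charpoly * (X - 1) ^ b = (X - 1) ^ a * (X ^ N - 1) ^ b
  refine Polynomial.map_injective _ (algebraMap K (AlgebraicClosure K)).injective ?_
  rw [Polynomial.map_mul, h]
  simp only [Polynomial.map_mul, Polynomial.map_pow, Polynomial.map_sub, Polynomial.map_one, Polynomial.map_X]
  rw [← prod_range_root hN hζ', ← Finset.prod_pow]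
  obtain ⟨n, rfl⟩ := Nat.exists_eq_succ_of_ne_zero hN.ne'
  rw [Finset.prod_range_succ', Finset.prod_range_succ']
  have h1 : ∏ c ∈ Finset.range n, (X - C (((ζ : (AlgebraicClosure K)ˣ) : AlgebraicClosure K) ^ (c + 1))) ^ (T.getD (c + 1) 0) =
      ∏ c ∈ Finset.range n, (X - C (((ζ : (AlgebraicClosure K)ˣ) : AlgebraicClosure K) ^ (c + 1))) ^ b := by
    refine Finset.prod_congr rfl fun c hc => ?_
    rw [hT (c + 1) (Nat.succ_lt_succ (Finset.mem_range.1 hc)) (Nat.succ_pos c)]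
  rw [h1, pow_zero, C_1, hT0]
  generalize (X - 1 : (AlgebraicClosure K)[X]) = A0
  generalize (∏ c ∈ Finset.range n, (X - C (((ζ : (AlgebraicClosure K)ˣ) : AlgebraicClosure K) ^ (c + 1))) ^ b :
    (AlgebraicClosure K)[X]) = B
  ring

end Cfsg.Agent.H898.TSVP
end

-- part: H898/TSSzGrp
section
/-!
# Lifts along surjections with coprime kernel; the elements of order 7 of `Sz(8)` (helper898)
-/

set_option autoImplicit false
set_option linter.unusedSectionVars false

namespace Cfsg.Agent.H898.TSSzGrp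

open Cfsg.Agent.LieRecognition.SzMatrix Cfsg.Agent.H423.SzEight

/-- A homomorphism lifts along a surjection with a kernel of coprime order. -/
theorem exists_lift {A B G : Type*} [Group A] [Group B] [Group G] [Finite A] [Finite G] (π : A →* B)
    (hπ : Function.Surjective π) (χ : G →* B) (hco : (Nat.card π.ker).Coprime (Nat.card G)) :
    ∃ φ : G →* A, ∀ g, π (φ g) = χ g := by
  let P : Subgroup (A × G) := (π.comp (MonoidHom.fst A G)).eqLocus (χ.comp (MonoidHom.snd A G))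
  have hP : ∀ p : A × G, p ∈ P ↔ π p.1 = χ p.2 := fun p => Iff.rfl
  let p2 : ↥P →* G := (MonoidHom.snd A G).comp P.subtype
  have hp2 : Function.Surjective p2 := by
    intro g
    obtain ⟨a, ha⟩ := hπ (χ g)
    exact ⟨⟨(a, g), ha⟩, rfl⟩
  have hN : (Nat.card p2.ker).Coprime p2.ker.index := by
    have h1 : p2.ker.index = Nat.card G := by
      rw [Subgroup.index_ker, MonoidHom.range_eq_top.2 hp2, Subgroup.card_top]
    rw [h1]
    let j : ↥p2.ker →* ↥π.ker := ((MonoidHom.fst A G).comp (P.subtype.comp p2.ker.subtype)).codRestrict π.ker (by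
      intro x
      rw [MonoidHom.mem_ker]
      have h2 : π x.1.1.1 = χ x.1.1.2 := x.1.2
      have h3 : x.1.1.2 = 1 := x.2
      rw [h3, map_one] at h2
      exact h2)
    have hj : Function.Injective j := by
      intro x y hxy
      have h2 : x.1.1.1 = y.1.1.1 := congrArg Subtype.val hxy
      have h3 : x.1.1.2 = 1 := x.2
      have h4 : y.1.1.2 = 1 := y.2
      apply Subtype.ext
      apply Subtype.ext
      exact Prod.ext h2 (h3.trans h4.symm)
    exact Nat.Coprime.coprime_dvd_left (Subgroup.card_dvd_of_injective j hj) hco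
  obtain ⟨C, hC⟩ := Subgroup.exists_right_complement'_of_coprime hN
  let q : ↥C →* G := p2.comp C.subtype
  have hq : Function.Bijective q := by
    constructor
    · rw [injective_iff_map_eq_one]
      intro x hx
      have h1 : (x : ↥P) ∈ p2.ker ⊓ C := ⟨hx, x.2⟩
      rw [hC.disjoint.eq_bot, Subgroup.mem_bot] at h1
      exact Subtype.ext h1
    · intro g
      obtain ⟨y, hy⟩ := hp2 g
      obtain ⟨⟨n, c⟩, h2⟩ := hC.2 y
      refine ⟨c, ?_⟩
      show p2 c = g
      have h3 : (n : ↥P) * (c : ↥P) = y := h2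
      have h4 : p2 (n : ↥P) = 1 := n.2
      rw [← hy, ← h3, map_mul, h4, one_mul]
  let e : ↥C ≃* G := MulEquiv.ofBijective q hq
  refine ⟨(MonoidHom.fst A G).comp (P.subtype.comp (C.subtype.comp e.symm.toMonoidHom)), fun g => ?_⟩
  have h1 : ((e.symm g : ↥C) : ↥P) ∈ (⊤ : Subgroup ↥P) := trivial
  have h2 : π ((e.symm g : ↥C) : ↥P).1.1 = χ ((e.symm g : ↥C) : ↥P).1.2 := ((e.symm g : ↥C) : ↥P).2
  have h3 : ((e.symm g : ↥C) : ↥P).1.2 = g := e.apply_symm_apply g
  rw [h3] at h2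
  exact h2

/-! ### elements of order 7 -/

/-- In a finite group with `|G|` not divisible by `p²`, elements of order `p` have conjugate cyclic groups. -/
theorem exists_conj {G : Type*} [Group G] [Finite G] {p : ℕ} [hp : Fact p.Prime] (h : ¬ p ^ 2 ∣ Nat.card G)
    {x y : G} (hx : orderOf x = p) (hy : orderOf y = p) : ∃ (g : G) (j : ℕ), y = g * x ^ j * g⁻¹ := by
  have hf : (Nat.card G).factorization p = 1 := by
    have h1 : p ∣ Nat.card G := hx ▸ orderOf_dvd_natCard x
    have h2 : 1 ≤ (Nat.card G).factorization p := (hp.out.dvd_iff_one_le_factorization Nat.card_pos.ne').1 h1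
    have h3 : ¬ 2 ≤ (Nat.card G).factorization p := by
      intro h3
      exact h ((hp.out.pow_dvd_iff_le_factorization Nat.card_pos.ne').2 h3)
    omega
  let Sx : Sylow p G := Sylow.ofCard (Subgroup.zpowers x) (by rw [Nat.card_zpowers, hx, hf, pow_one])
  let Sy : Sylow p G := Sylow.ofCard (Subgroup.zpowers y) (by rw [Nat.card_zpowers, hy, hf, pow_one])
  obtain ⟨g, hg⟩ := MulAction.exists_smul_eq G Sx Sy
  have h1 : y ∈ (Sy : Subgroup G) := Subgroup.mem_zpowers y
  rw [← hg] at h1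
  obtain ⟨z, hz, hz2⟩ := h1
  have hz1 : z ∈ Subgroup.zpowers x := hz
  obtain ⟨j, hj⟩ := (mem_powers_iff_mem_zpowers (x := x)).2 hz1
  refine ⟨g, j, ?_⟩
  have h3 : x ^ j = z := hj
  rw [h3, ← hz2]
  rfl

section sz

variable {F : Type*} [Field F] [Fintype F] [CharP F 2] (h8 : ∀ x : F, x ^ 8 = x)

theorem card_sz (hF : Fintype.card F = 8) : Nat.card ↥(Cfsg.Lie.Sz F 4) = 2 ^ 6 * 455 := by
  have h := (Cfsg.Agent.S1163.result (F := F) (m := 1) le_rfl (by rw [hF]; norm_num)).1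
  have h1 : (2 : ℕ) ^ (1 + 1) = 4 := by norm_num
  rw [h1] at h
  rw [h]
  norm_num

include h8 in
/-- an element of order 7 inverted by an element of the group, all the elements of order 7 being conjugate to its powers -/
theorem exists_seven (hF : Fintype.card F = 8) : ∃ t w : ↥(Cfsg.Lie.Sz F 4), orderOf t = 7 ∧ w * t * w⁻¹ = t⁻¹ ∧
    ∀ y, orderOf y = 7 → ∃ (g : ↥(Cfsg.Lie.Sz F 4)) (j : ℕ), y = g * t ^ j * g⁻¹ := by
  classical
  have h7 : Fact (Nat.Prime 7) := ⟨by norm_num⟩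
  have H := good h8
  -- a unit different from 1
  obtain ⟨k, hk⟩ : ∃ k : Fˣ, k ≠ 1 := by
    by_contra hcon
    push Not at hcon
    have h1 : Fintype.card Fˣ = 7 := by rw [Fintype.card_units, hF]
    have h2 : Fintype.card Fˣ ≤ 1 := Fintype.card_le_one_iff.2 fun a b => by rw [hcon a, hcon b]
    omega
  have hk7 : k ^ 7 = 1 := by
    apply Units.ext
    have h1 := h8 (k : F)
    have h2 : (k : F) * (k : F) ^ 7 = (k : F) * 1 := by rw [← pow_succ', h1, mul_one]
    rw [Units.val_pow_eq_pow_val, mul_left_cancel₀ k.ne_zero h2, Units.val_one]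
  have hdpow : ∀ n : ℕ, (H.d k) ^ n = H.d (k ^ n) := by
    intro n
    induction n with
    | zero => rw [pow_zero, pow_zero, H.d_one]
    | succ n ih => rw [pow_succ, ih, H.d_mul, pow_succ]
  have ht : orderOf (H.d k) = 7 := by
    apply orderOf_eq_prime
    · rw [hdpow, hk7, H.d_one]
    · intro h
      apply hk
      have h1 : H.D k = H.D 1 := by
        have := congrArg Subtype.val h
        rw [H.D_one]
        exact this
      exact H.D_inj h1
  refine ⟨H.d k, H.w, ht, ?_, fun y hy => exists_conj (p := 7) ?_ ht hy⟩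
  · rw [H.w_mul_d, mul_inv_cancel_right, eq_inv_iff_mul_eq_one, H.d_mul, inv_mul_cancel, H.d_one]
  · rw [card_sz hF]
    norm_num

end sz

end Cfsg.Agent.H898.TSSzGrp
end

-- part: H898/TSSzNot
section
/-!
# `Sz(8)` is not a subgroup of `²E₆(2)` (S5741, task 992; helper898)
-/

set_option autoImplicit false

namespace Cfsg.Agent.H898.TSSzNot

open Cfsg Cfsg.Lie Cfsg.Agent.OrdDiv Cfsg.Agent.H944.TS Cfsg.Agent.H898.TSRank Module
open Cfsg.Agent.ChevalleyStructure.E6Min.Tables Cfsg.Agent.ChevalleyStructure.E6Min.Basic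
  Cfsg.Agent.ChevalleyStructure.E6Min.Adjoint
open Cfsg.Agent.H898.TSVDiag Cfsg.Agent.H898.TSVTab Cfsg.Agent.H898.TSVE Cfsg.Agent.H898.TSVP

universe u

/-! ### the kernel -/

theorem chk_conn : ∀ x : I27, ∃ r : Fin 72, (x = dec 0 ∨ (sg r x ≠ 0 ∧ sr r x = dec 0)) ∨
    ∃ s : Fin 72, sg r x ≠ 0 ∧ sg s (sr r x) ≠ 0 ∧ sr s (sr r x) = dec 0 := by
  have h : ∀ x : I27, ∀ r ∈ [([16, 36, 38, 15, 7, 7, 14, 4, 4, 36, 4, 4, 55, 10, 13, 54, 9, 12, 4, 4, 7, 12, 49, 52, 9, 41, 45] : List (Fin 72)).getD (code x) 0],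
      ∀ s ∈ [([55, 0, 0, 0, 54, 55, 0, 54, 55, 55, 45, 52, 0, 0, 0, 0, 0, 0, 15, 0, 0, 55, 0, 0, 55, 0, 0] : List (Fin 72)).getD (code x) 0],
      (x = dec 0 ∨ (sg r x ≠ 0 ∧ sr r x = dec 0)) ∨ sg r x ≠ 0 ∧ sg s (sr r x) ≠ 0 ∧ sr s (sr r x) = dec 0 := by
    decide +kernel
  exact fun x => ⟨_, (h x _ (List.mem_singleton_self _) _ (List.mem_singleton_self _)).imp_right fun h => ⟨_, h⟩⟩

/-- Matrices commuting with all the `N_r` are scalar. -/
theorem scalar_of_comm {F : Type*} [Field F] {g : Matrix I27 I27 F}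
    (h : ∀ r < 72, g * Nm F r = Nm F r * g) : g = Matrix.diagonal fun _ => g (dec 0) (dec 0) := by
  -- off diagonal
  have hoff : ∀ x y, x ≠ y → g x y = 0 := by
    intro x y hxy
    obtain ⟨r, h1, h2⟩ := chk_sep x y hxy
    have h3 : g * (Nm F r * Nm F (71 - r)) = (Nm F r * Nm F (71 - r)) * g := by
      rw [← mul_assoc, h r r.2, mul_assoc, h (71 - r) (by omega), ← mul_assoc]
    rw [Nm_mul_opp r.2] at h3
    have h4 := congrFun (congrFun h3 x) y
    rw [Matrix.mul_diagonal, Matrix.diagonal_mul, ind_of_ne h1, ind_of_eq h2] at h4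
    simpa using h4.symm
  have hstep : ∀ (r : ℕ), r < 72 → ∀ x : I27, sg r x ≠ 0 → g x x = g (sr r x) (sr r x) := by
    intro r hr x hx
    have h3 := congrFun (congrFun (h r hr) x) (sr r x)
    rw [Nm_mul_apply, Matrix.mul_apply, Finset.sum_eq_single x] at h3
    · rw [Nm_apply, if_pos rfl, mul_comm] at h3
      exact mul_left_cancel₀ (sg_ne_zero hr hx) h3
    · intro z _ hz
      rw [hoff x z hz.symm, zero_mul]
    · intro h; exact absurd (Finset.mem_univ _) h
  ext x y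
  rcases eq_or_ne x y with rfl | hxy
  · rw [Matrix.diagonal_apply_eq]
    obtain ⟨r, h1 | ⟨s, h1, h2, h3⟩⟩ := chk_conn x
    · rcases h1 with h1 | ⟨h1, h2⟩
      · rw [h1]
      · rw [hstep r r.2 x h1, h2]
    · rw [hstep r r.2 x h1, hstep s s.2 _ h2, h3]
  · rw [Matrix.diagonal_apply_ne _ hxy, hoff x y hxy]

theorem pow_eq_one_of_ker {F : Type*} [Field F] [Fintype F] {g : Zgrp F} (hg : g ∈ (ad F).ker) :
    g ^ (Fintype.card F - 1) = 1 := by
  have h0 : ∀ r < 72, ((g : GL I27 F) : Matrix I27 I27 F) * Nm F r =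
      Nm F r * ((g : GL I27 F) : Matrix I27 I27 F) := fun r hr =>
    comm_B_of_ker (MonoidHom.mem_ker.1 hg) (Sum.inr ⟨r, hr⟩)
  have h1 := scalar_of_comm h0
  have hc : ((g : GL I27 F) : Matrix I27 I27 F) (dec 0) (dec 0) ≠ 0 := by
    intro hc
    rw [hc] at h1
    have h2 : ((g : GL I27 F) : Matrix I27 I27 F) = 0 := by
      rw [h1]; ext i j; simp [Matrix.diagonal_apply]
    have h3 := (g : GL I27 F).isUnit
    rw [h2] at h3
    exact not_isUnit_zero h3
  apply Subtype.ext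
  apply Units.ext
  change (((g : GL I27 F) ^ (Fintype.card F - 1) : GL I27 F) : Matrix I27 I27 F) = 1
  rw [Units.val_pow_eq_pow_val, h1, Matrix.diagonal_pow, ← Matrix.diagonal_one]
  congr 1
  funext i
  rw [Pi.pow_apply]
  exact FiniteField.pow_card_sub_one_eq_one _ hc

/-! ### fixed spaces -/

section fix

variable {k V G : Type*} [Field k] [AddCommGroup V] [Module k V] [FiniteDimensional k V] [Group G] (ρ : G →* End k V)

theorem fx_conj_le (x g : G) : fx (ρ (x * g * x⁻¹)) ≤ fx (ρ g) := by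
  have key : ∀ v ∈ (ρ (x * g * x⁻¹) - 1).ker, ρ x⁻¹ v ∈ (ρ g - 1).ker := by
    intro v hv
    rw [mem_fx] at hv ⊢
    calc ρ g (ρ x⁻¹ v) = (ρ g * ρ x⁻¹) v := rfl
      _ = (ρ x⁻¹ * ρ (x * g * x⁻¹)) v := by rw [← map_mul, ← map_mul]; congr 2; group
      _ = ρ x⁻¹ (ρ (x * g * x⁻¹) v) := rfl
      _ = ρ x⁻¹ v := by rw [hv]
  unfold fx
  refine LinearMap.finrank_le_finrank_of_injective (f := (ρ x⁻¹).restrict key) ?_
  intro v w hvw
  have h1 : ρ x⁻¹ (v : V) = ρ x⁻¹ (w : V) := congrArg Subtype.val hvw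
  have h2 : ∀ u : V, ρ x (ρ x⁻¹ u) = u := by
    intro u
    calc ρ x (ρ x⁻¹ u) = (ρ x * ρ x⁻¹) u := rfl
      _ = u := by rw [← map_mul, mul_inv_cancel, map_one]; rfl
  apply Subtype.ext
  rw [← h2 v, h1, h2]

theorem fx_conj (x g : G) : fx (ρ (x * g * x⁻¹)) = fx (ρ g) := by
  apply le_antisymm (fx_conj_le ρ x g)
  have h1 := fx_conj_le ρ x⁻¹ (x * g * x⁻¹)
  have h2 : x⁻¹ * (x * g * x⁻¹) * x⁻¹⁻¹ = g := by group
  rwa [h2] at h1

theorem fx_pow_le (g : G) (n : ℕ) : (ρ g - 1).ker ≤ (ρ (g ^ n) - 1).ker := by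
  intro v hv
  rw [mem_fx] at hv ⊢
  induction n with
  | zero => rw [pow_zero, map_one]; rfl
  | succ n ih =>
    rw [pow_succ, map_mul]
    show ρ (g ^ n) (ρ g v) = v
    rw [hv, ih]

theorem fx_pow {g : G} {n m : ℕ} (h : (g ^ n) ^ m = g) : fx (ρ (g ^ n)) = fx (ρ g) := by
  unfold fx
  have h1 : (ρ (g ^ n) - 1).ker = (ρ g - 1).ker := by
    apply le_antisymm
    · have := fx_pow_le ρ (g ^ n) m
      rwa [h] at this
    · exact fx_pow_le ρ g n
  rw [h1]

end fix

theorem card27 : Fintype.card I27 = 27 := by decide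

/-! ### the values -/

section data

variable {K : Type u} [Field K] [Fintype K]

theorem data5 (hK : Fintype.card K = 4) [CharP K 2] {z : ↥(Zgrp K)} (hz : z ^ 5 = 1)
    (hx : ((ad K z : ↥(chevE6.group K)) : GL chevE6.Idx K) ∈ twistedE6 K 2) (h1 : ad K z ≠ 1) :
    ((z : GL I27 K) : Matrix I27 I27 K).trace = 0 ∧ TSETwo.e2 ((z : GL I27 K) : Matrix I27 I27 K) = 1 := by
  obtain ⟨T, hT, ζ, hζ, ho, hr, hc⟩ := eigV hK (N := 5) (by norm_num) (by norm_num) (by norm_num) (by norm_num) v5 hz hx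
  simp only [List.mem_cons, List.not_mem_nil, or_false] at hT
  rcases hT with hT | hT
  · subst hT
    exact five card27 (cpV (by norm_num) (by decide) rfl hζ hc)
  · subst hT
    exact absurd (ho rfl) h1

theorem data13 (hK : Fintype.card K = 4) [CharP K 2] {z : ↥(Zgrp K)} (hz : z ^ 13 = 1)
    (hx : ((ad K z : ↥(chevE6.group K)) : GL chevE6.Idx K) ∈ twistedE6 K 2) (h1 : ad K z ≠ 1) :
    ((z : GL I27 K) : Matrix I27 I27 K).trace = 1 ∧ TSETwo.e2 ((z : GL I27 K) : Matrix I27 I27 K) = 0 := by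
  obtain ⟨T, hT, ζ, hζ, ho, hr, hc⟩ := eigV hK (N := 13) (by norm_num) (by norm_num) (by norm_num) (by norm_num) v13 hz hx
  simp only [List.mem_cons, List.not_mem_nil, or_false] at hT
  rcases hT with hT | hT
  · subst hT
    exact thirteen card27 (cpV (by norm_num) (by decide) rfl hζ hc)
  · subst hT
    exact absurd (ho rfl) h1

theorem data7 (hK : Fintype.card K = 4) [CharP K 2] {z : ↥(Zgrp K)} (hz : z ^ 7 = 1)
    (hx : ((ad K z : ↥(chevE6.group K)) : GL chevE6.Idx K) ∈ twistedE6 K 2) (h1 : ad K z ≠ 1)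
    (hre : (((z : GL I27 K)⁻¹ : GL I27 K) : Matrix I27 I27 K).charpoly = ((z : GL I27 K) : Matrix I27 I27 K).charpoly) :
    Eig.CP ((z : GL I27 K) : Matrix I27 I27 K) 7 9 3 ∨ Eig.CP ((z : GL I27 K) : Matrix I27 I27 K) 7 3 4 := by
  obtain ⟨T, hT, ζ, hζ, ho, hr, hc⟩ := eigV hK (N := 7) (by norm_num) (by norm_num) (by norm_num) (by norm_num) v7 hz hx
  have hr' := hr hre
  simp only [List.mem_cons, List.not_mem_nil, or_false] at hT
  rcases hT with hT | hT | hT | hT | hT
  · subst hT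
    exact Or.inr (cpV (by norm_num) (by decide) rfl hζ hc)
  · subst hT
    exact Or.inl (cpV (by norm_num) (by decide) rfl hζ hc)
  · subst hT
    have := hr' 1 (by norm_num)
    exact absurd this (by decide)
  · subst hT
    have := hr' 1 (by norm_num)
    exact absurd this (by decide)
  · subst hT
    exact absurd (ho rfl) h1

end data

/-- **`Sz(8)` is not a subgroup of `²E₆(2)`.** -/
theorem not_sz {K : Type u} [Field K] [Fintype K] (hK : Fintype.card K = 4) : NotE K (.sz 8) := by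
  classical
  rintro L ⟨F, iF, iF', m, hm, hF, h2, ⟨e0⟩⟩
  have hch : CharP K 2 := Cfsg.Agent.H898.TSNotL27.charTwo hK
  have h2k : (2 : K) = 0 := by
    have := CharP.cast_eq_zero K 2
    exact_mod_cast this
  have hm1 : m = 1 := by
    have h4 : 2 ^ 3 = 2 ^ (2 * m + 1) := h2
    have := Nat.pow_right_injective (le_refl 2) h4
    omega
  subst hm1
  have e : ↥L ≃* ↥(Cfsg.Lie.Sz F 4) := e0
  have hchF : CharP F 2 := by
    obtain ⟨p, hp⟩ := CharP.exists F
    obtain ⟨n, hn, h⟩ := FiniteField.card F p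
    rw [hF] at h
    have h1 : p ∣ 2 ^ 3 := by
      have : (8 : ℕ) = 2 ^ 3 := by norm_num
      rw [← this, h]; exact dvd_pow_self p n.2.ne'
    rw [(Nat.prime_dvd_prime_iff_eq hn (by norm_num)).mp (hn.dvd_of_dvd_pow h1)] at hp
    exact hp
  have h8 : ∀ x : F, x ^ 8 = x := by
    intro x
    rw [← hF]; exact FiniteField.pow_card x
  obtain ⟨a, ha⟩ := Cfsg.Agent.H422.SzEight.exists_root h8 hF
  -- the homomorphism to the Chevalley group
  let ψ : ↥(Cfsg.Lie.Sz F 4) →* GL chevE6.Idx K := (twistedE6 K 2).subtype.comp (L.subtype.comp e.symm.toMonoidHom)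
  have hψm : ∀ g, ψ g ∈ twistedE6 K 2 := fun g => ((e.symm g : ↥L) : ↥(twistedE6 K 2)).2
  have hψi : Function.Injective ψ :=
    (Subgroup.subtype_injective _).comp ((Subgroup.subtype_injective _).comp e.symm.injective)
  let χ : ↥(Cfsg.Lie.Sz F 4) →* ↥(chevE6.group K) :=
    ψ.codRestrict (chevE6.group K) fun g => Cfsg.Agent.BpExc.FamTw.Six.twisted_le_group 2 (hψm g)
  have hχ : ∀ g, ((χ g : ↥(chevE6.group K)) : GL chevE6.Idx K) = ψ g := fun g => rfl
  have hχ1 : ∀ g, g ≠ 1 → χ g ≠ 1 := by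
    intro g hg h
    apply hg
    apply hψi
    rw [map_one, ← hχ, h]
    rfl
  -- the lift
  obtain ⟨φ, hφ⟩ := Cfsg.Agent.H898.TSSzGrp.exists_lift (ad K) ad_surjective χ (by
    have h3 : IsPGroup 3 (ad K).ker := by
      intro x
      refine ⟨1, ?_⟩
      have h4 := pow_eq_one_of_ker x.2
      rw [hK] at h4
      exact Subtype.ext h4
    have : Fact (Nat.Prime 3) := ⟨Nat.prime_three⟩
    obtain ⟨n, hn⟩ := IsPGroup.iff_card.1 h3
    rw [hn]
    exact Nat.Coprime.pow_left n ((Nat.Prime.coprime_iff_not_dvd Nat.prime_three).2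
      (Cfsg.Agent.H422.SzEight.not_three h8)))
  let φ' : ↥(Cfsg.Lie.Sz F 4) →* GL I27 K := (Zgrp K).subtype.comp φ
  have hx : ∀ g, ((ad K (φ g) : ↥(chevE6.group K)) : GL chevE6.Idx K) ∈ twistedE6 K 2 := by
    intro g
    rw [hφ, hχ]
    exact hψm g
  have hne : ∀ g, g ≠ 1 → ad K (φ g) ≠ 1 := by
    intro g hg
    rw [hφ]
    exact hχ1 g hg
  -- the elements of order 7
  obtain ⟨t, w, ht, hw, hconj⟩ := Cfsg.Agent.H898.TSSzGrp.exists_seven h8 hF
  have hord : ∀ g : ↥(Cfsg.Lie.Sz F 4), g ^ 7 = 1 → g ≠ 1 → orderOf g = 7 := by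
    intro g hg h1
    have : Fact (Nat.Prime 7) := ⟨by norm_num⟩
    exact orderOf_eq_prime hg h1
  have hreal : ∀ g : ↥(Cfsg.Lie.Sz F 4), g ^ 7 = 1 → g ≠ 1 → ∃ u, g⁻¹ = u * g * u⁻¹ := by
    intro g hg h1
    obtain ⟨x, j, hj⟩ := hconj g (hord g hg h1)
    refine ⟨x * w * x⁻¹, ?_⟩
    have h3 : (t ^ j)⁻¹ = w * t ^ j * w⁻¹ := by rw [← conj_pow, hw, inv_pow]
    rw [hj]
    calc (x * t ^ j * x⁻¹)⁻¹ = x * (t ^ j)⁻¹ * x⁻¹ := by group
      _ = x * (w * t ^ j * w⁻¹) * x⁻¹ := by rw [h3]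
      _ = _ := by group
  have hrecp : ∀ g : ↥(Cfsg.Lie.Sz F 4), g ^ 7 = 1 → g ≠ 1 →
      ((((φ g : ↥(Zgrp K)) : GL I27 K)⁻¹ : GL I27 K) : Matrix I27 I27 K).charpoly =
        (((φ g : ↥(Zgrp K)) : GL I27 K) : Matrix I27 I27 K).charpoly := by
    intro g hg h1
    obtain ⟨y, hy⟩ := hreal g hg h1
    have h3 : ((φ g : ↥(Zgrp K)) : GL I27 K)⁻¹ = φ' y * φ' g * (φ' y)⁻¹ := by
      rw [← map_inv φ' y, ← map_mul, ← map_mul, ← hy, map_inv]
      rfl
    rw [h3, Units.val_mul, Units.val_mul, Matrix.coe_units_inv, Matrix.charpoly_units_conj]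
    rfl
  let ρ := Cfsg.Agent.H898.TSNotL27.rep (RingHom.id K) φ'
  have hfx : ∀ g : ↥(Cfsg.Lie.Sz F 4), g ^ 7 = 1 → g ≠ 1 → fx (ρ g) = fx (ρ t) := by
    intro g hg h1
    obtain ⟨x, j, hj⟩ := hconj g (hord g hg h1)
    have h3 : Nat.Coprime j (orderOf t) := by
      rw [ht]
      apply Nat.Coprime.symm
      rw [Nat.Prime.coprime_iff_not_dvd (by norm_num)]
      rintro ⟨i, rfl⟩
      apply h1
      rw [hj, pow_mul, ← ht, pow_orderOf_eq_one, one_pow, mul_one, mul_inv_cancel]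
    obtain ⟨i, hi⟩ := exists_pow_eq_self_of_coprime h3
    rw [hj, fx_conj ρ, fx_pow ρ hi]
  have hcase : ∀ g : ↥(Cfsg.Lie.Sz F 4), g ^ 7 = 1 → g ≠ 1 →
      (Eig.CP ((φ' g : GL I27 K) : Matrix I27 I27 K) 7 9 3 ∧ fx (ρ g) = 9) ∨
      (Eig.CP ((φ' g : GL I27 K) : Matrix I27 I27 K) 7 3 4 ∧ fx (ρ g) = 3) := by
    intro g hg h1
    rcases data7 hK (by rw [← map_pow, hg, map_one]) (hx g) (hne g h1) (hrecp g hg h1) with h | h
    · exact Or.inl ⟨h, (Cfsg.Agent.H898.TSNotL27.fx_of h2k (RingHom.id K) φ' (by norm_num) hg h).1⟩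
    · exact Or.inr ⟨h, (Cfsg.Agent.H898.TSNotL27.fx_of h2k (RingHom.id K) φ' (by norm_num) hg h).1⟩
  have ht7 : t ^ 7 = 1 := by rw [← ht, pow_orderOf_eq_one]
  have ht1 : t ≠ 1 := by
    intro h
    rw [h, orderOf_one] at ht
    omega
  have hfour : ∀ g : ↥(Cfsg.Lie.Sz F 4), g ^ 4 = 1 → (φ' g).1.trace = 1 ∧ TSETwo.e2 (φ' g).1 = 1 := by
    intro g hg
    refine four card27 hK ?_
    have h3 : (φ' g) ^ 4 = 1 := by rw [← map_pow, hg, map_one]
    have := congrArg Units.val h3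
    rwa [Units.val_pow_eq_pow_val] at this
  have hfive : ∀ g : ↥(Cfsg.Lie.Sz F 4), g ^ 5 = 1 → g ≠ 1 → (φ' g).1.trace = 0 ∧ TSETwo.e2 (φ' g).1 = 1 :=
    fun g hg h1 => data5 hK (by rw [← map_pow, hg, map_one]) (hx g) (hne g h1)
  have hthirteen : ∀ g : ↥(Cfsg.Lie.Sz F 4), g ^ 13 = 1 → g ≠ 1 → (φ' g).1.trace = 1 ∧ TSETwo.e2 (φ' g).1 = 0 :=
    fun g hg h1 => data13 hK (by rw [← map_pow, hg, map_one]) (hx g) (hne g h1)
  rcases hcase t ht7 ht1 with ⟨-, h9⟩ | ⟨-, h9⟩
  · refine Cfsg.Agent.H898.TSSz.false_core h8 (φ := φ') (B := 0) hF (by rw [card27]; norm_num) ha (Or.inl rfl)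
      ⟨hfour, hfive, fun g hg h1 => ?_, hthirteen⟩
    rcases hcase g hg h1 with ⟨h, -⟩ | ⟨-, h⟩
    · have := seven_a card27 h
      rwa [Nat.cast_zero]
    · rw [hfx g hg h1, h9] at h
      omega
  · refine Cfsg.Agent.H898.TSSz.false_core h8 (φ := φ') (B := 1) hF (by rw [card27]; norm_num) ha (Or.inr rfl)
      ⟨hfour, hfive, fun g hg h1 => ?_, hthirteen⟩
    rcases hcase g hg h1 with ⟨-, h⟩ | ⟨h, -⟩
    · rw [hfx g hg h1, h9] at h
      omega
    · have := seven_b card27 h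
      rwa [Nat.cast_one]

end Cfsg.Agent.H898.TSSzNot
end

private theorem dce_14f7bae7e438 : _root_.True := by
  try have : _root_.True := by simp only [_root_.Cfsg.Agent.H898.TSVTab.chkWT.eq_1]
  exact _root_.True.intro
end

-- part: H944/TS/Rows
section
prune_inst 0x400020040500000000000000000000003000040000000000806000040000000200020000082001000002800400340040010000200000000000000400011800800880000030000000000006000000000000000000000000000000000000000000000000000
set_option linter.all false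
open scoped Cfsg.Agent.FastGrp

-- part: H951/TS/A1
section
/-!
# Subgroups of `²E₆(2)`: tasks A1 and B1 of S5741 (helper951)
-/

set_option autoImplicit false

namespace Cfsg.Agent.H951.TS.A1

open Cfsg Cfsg.Lie Subgroup Cfsg.Agent.OrdDiv Cfsg.Agent.H944.TS

universe u

/-- an injective homomorphism from `Sym m`, `m ≥ 5`, restricts to `Alt m → commutator` -/
theorem exists_alt {m : ℕ} (hm : 5 ≤ m) {Y : Type*} [Group Y] (f : Equiv.Perm (Fin m) →* Y)
    (hf : Function.Injective f) : ∃ g : ↥(alternatingGroup (Fin m)) →* ↥(commutator Y), Function.Injective g ∧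
      ∀ x, ((g x : ↥(commutator Y)) : Y) = f x := by
  have h1 : alternatingGroup (Fin m) = _root_.commutator (Equiv.Perm (Fin m)) :=
    (alternatingGroup.commutator_perm_eq (by rwa [Nat.card_fin])).symm
  have h2 : ∀ x : ↥(alternatingGroup (Fin m)), f x ∈ commutator Y := by
    intro x
    have h3 : (x : Equiv.Perm (Fin m)) ∈ commutator (Equiv.Perm (Fin m)) := by rw [← h1]; exact x.2
    have h4 : (_root_.commutator (Equiv.Perm (Fin m))).map f ≤ commutator Y := by
      rw [commutator_def, commutator_def, map_commutator]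
      exact Subgroup.commutator_mono le_top le_top
    exact h4 ⟨_, h3, rfl⟩
  refine ⟨{ toFun := fun x => ⟨f x, h2 x⟩, map_one' := Subtype.ext (map_one f)
            map_mul' := fun a b => Subtype.ext (map_mul f _ _) }, ?_, fun x => rfl⟩
  intro a b hab
  exact Subtype.ext (hf (congrArg Subtype.val hab))

/-- `Alt m ≤ Alt n` -/
theorem alt_alt {m n : ℕ} (hm : 5 ≤ m) (h : m ≤ n) : Sub.{u} (.alt n) (.alt m) := by
  rintro X _ ⟨e⟩
  obtain ⟨g, hg, -⟩ := exists_alt hm (Equiv.Perm.viaEmbeddingHom (Fin.castLEEmb h)) (Equiv.Perm.viaEmbeddingHom_injective _)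
  have h1 : commutator (Equiv.Perm (Fin n)) = alternatingGroup (Fin n) :=
    alternatingGroup.commutator_perm_eq (by rw [Nat.card_fin]; omega)
  let f : ↥(alternatingGroup (Fin m)) →* X := e.symm.toMonoidHom.comp ((MulEquiv.subgroupCongr h1).toMonoidHom.comp g)
  have hf : Function.Injective f := e.symm.injective.comp ((MulEquiv.subgroupCongr h1).injective.comp hg)
  exact ⟨f.range, ⟨(MonoidHom.ofInjective hf).symm⟩⟩

/-- `quadFormMinus` over another field -/
theorem quadFormMinus_map {F F' : Type*} [Field F] [Field F'] (σ : F ≃+* F') (m : ℕ) (a b : F)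
    (v : (Fin m ⊕ Fin m) ⊕ Fin 2 → F) :
    quadFormMinus m F' (σ a) (σ b) (σ ∘ v) = σ (quadFormMinus m F a b v) := by
  simp [quadFormMinus, map_add, map_sum, map_mul, map_pow]

/-- **A1.** `Alt 12 ≤ Ω₁₀⁻(2)` -/
theorem ominus_alt : Sub.{u} (.ominus 5 2) (.alt 12) := by
  rintro X _ ⟨F, _, _, a, b, hF, hab, ⟨e⟩⟩
  have : Fact (Nat.Prime 2) := ⟨Nat.prime_two⟩
  let σ : ZMod 2 ≃+* F := ZMod.ringEquivOfPrime F Nat.prime_two hF
  have h2 : (2 : F) = 0 := by
    have h3 : σ 2 = 0 := by rw [show (2 : ZMod 2) = 0 from rfl, map_zero]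
    rwa [map_ofNat] at h3
  have h01 : ∀ x : F, x = 0 ∨ x = 1 := by
    intro x
    obtain ⟨y, rfl⟩ := σ.surjective x
    fin_cases y
    · left; exact map_zero σ
    · right; exact map_one σ
  have ha : a = 1 := (h01 a).resolve_left fun h => by
    subst h
    rcases h01 b with rfl | rfl
    · have := hab 0 1 (by ring)
      exact one_ne_zero this.2
    · have := hab 1 1 (by linear_combination h2)
      exact one_ne_zero this.2
  have hb : b = 1 := (h01 b).resolve_left fun h => by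
    subst h
    have := hab 0 1 (by ring)
    exact one_ne_zero this.2
  subst ha hb
  obtain ⟨φ, hφ⟩ := (Cfsg.Agent.S2563.result 2 (by norm_num)).2 (by decide)
  obtain ⟨g, hg, hgφ⟩ := exists_alt (m := 4 * 2 + 4) (by norm_num) φ hφ
  have hQ : ∀ v, quadFormMinus 4 F 1 1 (σ ∘ v) = σ (quadFormMinus 4 (ZMod 2) 1 1 v) := by
    intro v
    have := quadFormMinus_map σ 4 1 1 v
    rwa [map_one] at this
  obtain ⟨e2⟩ := Cfsg.Agent.UGT.U2.Rec.Congr.nonempty_POmega σ hQ
  let p : ↥(alternatingGroup (Fin 12)) →* POmega (ZMod 2) (quadFormMinus 4 (ZMod 2) 1 1) :=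
    (QuotientGroup.mk' (Subgroup.center (Omega (ZMod 2) (quadFormMinus 4 (ZMod 2) 1 1)))).comp g
  have hp : Function.Injective p := by
    have h5 : 5 ≤ Nat.card (Fin 12) := by rw [Nat.card_fin]; norm_num
    have hs : IsSimpleGroup ↥(alternatingGroup (Fin 12)) := alternatingGroup.isSimpleGroup h5
    rw [← MonoidHom.ker_eq_bot_iff]
    refine (hs.eq_bot_or_eq_top_of_normal p.ker inferInstance).resolve_right fun htop => ?_
    have h6 : ∀ x : ↥(alternatingGroup (Fin 12)), g x ∈ Subgroup.center (Omega (ZMod 2) (quadFormMinus 4 (ZMod 2) 1 1)) := by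
      intro x
      have h7 : x ∈ p.ker := by rw [htop]; exact mem_top x
      exact (QuotientGroup.eq_one_iff _).1 h7
    have h7 : commutator ↥(alternatingGroup (Fin 12)) = ⊥ := by
      rw [commutator_def, Subgroup.commutator_eq_bot_iff_le_centralizer]
      intro x _ y _
      apply hg
      simp only [map_mul, map_mul]
      exact Subgroup.mem_center_iff.1 (h6 x) (g y)
    rw [commutator_alternatingGroup_eq_top h5] at h7
    exact top_ne_bot h7
  let f : ↥(alternatingGroup (Fin 12)) →* X := e.symm.toMonoidHom.comp (e2.toMonoidHom.comp p)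
  have hf : Function.Injective f := e.symm.injective.comp (e2.injective.comp hp)
  exact ⟨f.range, ⟨(MonoidHom.ofInjective hf).symm⟩⟩

/-- **B1.** -/
theorem inE {K : Type u} [Field K] [Fintype K] (hK : Fintype.card K = 4) :
    InE K .fi22 ∧ InE K (.oodd 3 3) ∧ InE K (.f4 2) := by
  refine ⟨?_, ?_, ?_⟩
  · obtain ⟨H, h, -⟩ := Cfsg.Agent.S5742.result hK
    exact ⟨H 0, h 0⟩
  · obtain ⟨H, h, -⟩ := Cfsg.Agent.S5744.result hK
    obtain ⟨e⟩ := h 0
    obtain ⟨e2⟩ := Cfsg.Agent.S5744.exists_equiv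
    exact ⟨H 0, ZMod 3, inferInstance, inferInstance, ZMod.card 3, ⟨e.trans e2.symm⟩⟩
  · obtain ⟨H, h, -⟩ := Cfsg.Agent.S5743.result hK
    exact ⟨H 0, ZMod 2, inferInstance, inferInstance, ZMod.card 2, h 0⟩

end Cfsg.Agent.H951.TS.A1
end

-- part: H951/TS/N1
section
/-!
# Element orders of `²E₆(2)`: no elements of order 25, 65, 85, 91 (S5741, task N1; helper951)
-/

set_option autoImplicit false

namespace Cfsg.Agent.H951.TS.N1

open Cfsg Cfsg.Lie Subgroup Matrix

universe u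

/-! ### `5`-elements -/

set_option linter.unusedSectionVars false

section Five

variable {G : Type*} [Group G] [Finite G]
  (h2 : ∀ x : G, orderOf x = 5 →
      Nonempty (↥(centralizer ({x} : Set G)) ≃* (Multiplicative (ZMod 5) × ↥(alternatingGroup (Fin 8)))))

include h2

theorem card_A8 : Nat.card ↥(alternatingGroup (Fin 8)) = 20160 := by
  rw [nat_card_alternatingGroup, Nat.card_fin]
  decide

theorem card_cent {x : G} (hx : orderOf x = 5) : Nat.card ↥(centralizer ({x} : Set G)) = 100800 := by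
  obtain ⟨e⟩ := h2 x hx
  rw [Nat.card_congr e.toEquiv, Nat.card_prod, Nat.card_congr Multiplicative.toAdd, Nat.card_zmod, card_A8 h2]

theorem mem_cent_pow (y : G) (k : ℕ) : y ∈ centralizer ({y ^ k} : Set G) := by
  rw [mem_centralizer_singleton_iff]
  exact ((Commute.refl y).pow_right k).eq

theorem orderOf_pow_div {y : G} {m n : ℕ} (hy : orderOf y = m * n) (hm : m ≠ 0) : orderOf (y ^ m) = n := by
  rw [orderOf_pow' y hm, hy, Nat.gcd_mul_right_left, Nat.mul_div_cancel_left _ (Nat.pos_of_ne_zero hm)]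

theorem ne_mul {m : ℕ} (hm : ¬ m ∣ 100800) (hm0 : m ≠ 0) (y : G) : orderOf y ≠ m * 5 := by
  intro hy
  have h3 := card_cent h2 (orderOf_pow_div h2 hy hm0)
  have h4 : orderOf (⟨y, mem_cent_pow h2 y m⟩ : ↥(centralizer ({y ^ m} : Set G))) ∣
      Nat.card ↥(centralizer ({y ^ m} : Set G)) := _root_.orderOf_dvd_natCard _
  rw [Subgroup.orderOf_mk, hy, h3] at h4
  exact hm ((dvd_mul_right m 5).trans h4)

theorem ne_twentyfive (y : G) : orderOf y ≠ 25 := by
  intro hy
  have h3 : orderOf (y ^ 5) = 5 := orderOf_pow_div h2 (m := 5) (n := 5) (by rw [hy]) (by norm_num)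
  obtain ⟨e⟩ := h2 _ h3
  let w : ↥(centralizer ({y ^ 5} : Set G)) := ⟨y, mem_cent_pow h2 y 5⟩
  have hw : orderOf w = 25 := by rw [Subgroup.orderOf_mk, hy]
  have hw2 : orderOf (e w) = 25 := by rw [MulEquiv.orderOf_eq, hw]
  have hw3 : (e w) ^ 25 = 1 := by rw [← hw2]; exact pow_orderOf_eq_one _
  have hb : (e w).2 ^ 25 = 1 := congrArg Prod.snd hw3
  have hb2 : orderOf (e w).2 ∣ 5 := by
    have h5 : orderOf (e w).2 ∣ Nat.gcd 25 20160 :=
      Nat.dvd_gcd (orderOf_dvd_of_pow_eq_one hb) (by rw [← card_A8 h2]; exact _root_.orderOf_dvd_natCard _)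
    simpa using h5
  have h5 : (e w) ^ 5 = 1 := by
    refine Prod.ext ?_ ?_
    · have := pow_card_eq_one' (G := Multiplicative (ZMod 5)) (x := (e w).1)
      rw [Nat.card_congr Multiplicative.toAdd, Nat.card_zmod] at this
      exact this
    · exact orderOf_dvd_iff_pow_eq_one.1 hb2
  have h6 := orderOf_dvd_of_pow_eq_one h5
  rw [hw2] at h6
  norm_num at h6

end Five

/-! ### elements of order `13` -/

open Cfsg.Agent.H129 Cfsg.Agent.H129.CycT Cfsg.Agent.H129.TorusChar Cfsg.Agent.H129.TorusTw Cfsg.Agent.H129.WData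
  Cfsg.Agent.H129.TorAct Cfsg.Agent.H129.RealT in
/-- centralizers of elements of order `13` -/
theorem card_cent_thirteen {K : Type u} [Field K] [Fintype K] (hK : Fintype.card K = 2 ^ 2) {x : ↥(twistedE6 K 2)}
    (hx : orderOf x = 13) : Nat.card ↥(centralizer ({x} : Set ↥(twistedE6 K 2))) ∣ 39 := by
  have hr : Nat.Prime 13 := by norm_num
  have hN : ((13 : ℕ) : ℤ) = 1 - ((2 : ℕ) : ℤ) ^ 2 + ((2 : ℕ) : ℤ) ^ 4 := by norm_num
  have hM : ((39 : ℕ) : ℤ) = 1 - ((2 : ℕ) : ℤ) + ((2 : ℕ) : ℤ) ^ 3 - ((2 : ℕ) : ℤ) ^ 5 + ((2 : ℕ) : ℤ) ^ 6 := by norm_num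
  obtain ⟨T, h1, h2, h4, h5, -⟩ := TwT.flip_T (Nat.prime_two.isPrimePow) hK DataTE6c.hA DataTE6c.chainOK DataTE6c.hd_pi
    DataTE6c.cycOK DataTE6c.rootOK DataTE6c.chain2OK DataTE6c.hd2_eq (N := 39) (by rw [DataTE6c.fN_eq, hM])
    (by norm_num)
  have h13 : 13 ∣ Nat.card ↥T := dvd_of_dvd_mul hr (by norm_num) (not_dvd_gcd3 hr (by norm_num)) h4
  have hcent := h5 13 hr (not_dvd_W_E6 hr (by norm_num) (by norm_num) (by norm_num)) fun s hs => by
    rcases DataTE6c.dvd_of_G (cast_dvd hN dvd_rfl) s hs with h | h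
    · exact not_one hr h
    · exact not_prime hr Nat.prime_two (by norm_num) h
  obtain ⟨f, hf⟩ := exists_hom h1 hr h13 hcent hx
  rw [Nat.card_congr (Equiv.ofBijective f hf)]
  exact h2

/-! ### the excluded orders -/

section

variable {K : Type u} [Field K] [Fintype K] (hK : Fintype.card K = 4)

include hK

theorem ne_25 (y : ↥(twistedE6 K 2)) : orderOf y ≠ 25 := ne_twentyfive (Cfsg.Agent.S2227.result hK).2 y

theorem ne_65 (y : ↥(twistedE6 K 2)) : orderOf y ≠ 65 := ne_mul (Cfsg.Agent.S2227.result hK).2 (m := 13) (by norm_num) (by norm_num) y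

theorem ne_85 (y : ↥(twistedE6 K 2)) : orderOf y ≠ 85 := ne_mul (Cfsg.Agent.S2227.result hK).2 (m := 17) (by norm_num) (by norm_num) y

theorem ne_91 (y : ↥(twistedE6 K 2)) : orderOf y ≠ 91 := by
  intro hy
  have h3 : orderOf (y ^ 7) = 13 := by
    rw [orderOf_pow' y (by norm_num), hy]
    norm_num
  have h4 := card_cent_thirteen (by rw [hK]; norm_num) h3
  have h5 : orderOf (⟨y, by
      rw [mem_centralizer_singleton_iff]
      exact ((Commute.refl y).pow_right 7).eq⟩ : ↥(centralizer ({y ^ 7} : Set ↥(twistedE6 K 2)))) ∣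
      Nat.card ↥(centralizer ({y ^ 7} : Set ↥(twistedE6 K 2))) := _root_.orderOf_dvd_natCard _
  rw [Subgroup.orderOf_mk, hy] at h5
  have := h5.trans h4
  norm_num at this

end

/-! ### the groups -/

/-- a group of `2E6(2)` -/
theorem notE {K : Type u} [Field K] [Fintype K] {n : ℕ} (h : ∀ y : ↥(twistedE6 K 2), orderOf y ≠ n)
    (L : Subgroup ↥(twistedE6 K 2)) {X : Type*} [Group X] (e : ↥L ≃* X) (hX : ∃ x : X, orderOf x = n) : False := by
  obtain ⟨x, hx⟩ := hX
  apply h ((e.symm x : ↥L) : ↥(twistedE6 K 2))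
  rw [Subgroup.orderOf_coe, MulEquiv.orderOf_eq, hx]

theorem exists_25 {F : Type*} [Field F] [Fintype F] (hF : Fintype.card F = 49) :
    ∃ x : ProjectiveSpecialLinearGroup (Fin 2) F, orderOf x = 25 := by
  obtain ⟨C, -, -, -, hC, hc, -⟩ := ClassicalGeometry.PSLTorus.exists_psl_torus F
  obtain ⟨x, hx⟩ := hC.exists_generator
  refine ⟨x.1, ?_⟩
  have h1 : orderOf x = Nat.card C := orderOf_eq_card_of_forall_mem_zpowers hx
  rw [Subgroup.orderOf_coe, h1, hc, hF]
  norm_num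

theorem exists_91a {F : Type*} [Field F] [Fintype F] (hF : Fintype.card F = 9) :
    ∃ x : ProjectiveSpecialLinearGroup (Fin 3) F, orderOf x = 91 := by
  obtain ⟨x, hx⟩ := Cfsg.Agent.H375.LThree.exists_order_nn (F := F)
  refine ⟨x, ?_⟩
  rw [hx, hF]
  decide

theorem exists_91b {F : Type*} [Field F] [Fintype F] (hF : Fintype.card F = 16) :
    ∃ x : ProjectiveSpecialLinearGroup (Fin 3) F, orderOf x = 91 := by
  obtain ⟨x, hx⟩ := Cfsg.Agent.H375.LThree.exists_order_nn (F := F)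
  refine ⟨x, ?_⟩
  rw [hx, hF]
  decide

/-- `L₄(4)` has an element of order 85. -/
theorem exists_85 {F : Type*} [Field F] [Fintype F] (hF : Fintype.card F = 4) :
    ∃ x : ProjectiveSpecialLinearGroup (Fin 4) F, orderOf x = 85 := by
  obtain ⟨K, _, _, hK, f, hf⟩ := Cfsg.Agent.LieExceptional.CyclicSylow.exists_singer F 4
  obtain ⟨y, hy⟩ := IsCyclic.exists_generator (α := Kˣ)
  have hB : orderOf (f y) = 255 := by
    rw [orderOf_injective f hf, orderOf_eq_card_of_forall_mem_zpowers hy, Nat.card_units, hK,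
      Nat.card_eq_fintype_card, hF]
    norm_num
  generalize f y = B at hB
  have hdet : ((B ^ 3 : GL (Fin 4) F) : Matrix (Fin 4) (Fin 4) F).det = 1 := by
    rw [Units.val_pow_eq_pow_val, det_pow]
    have h3 : (3 : ℕ) = Fintype.card F - 1 := by rw [hF]
    rw [h3]
    exact FiniteField.pow_card_sub_one_eq_one _ (Matrix.isUnits_det_units B).ne_zero
  let A : Matrix.SpecialLinearGroup (Fin 4) F := ⟨_, hdet⟩
  have hBk : ∀ k : ℕ, ((A ^ k : Matrix.SpecialLinearGroup (Fin 4) F) : Matrix (Fin 4) (Fin 4) F) =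
      (((B ^ 3) ^ k : GL (Fin 4) F) : Matrix (Fin 4) (Fin 4) F) := by
    intro k
    rw [Matrix.SpecialLinearGroup.coe_pow, Units.val_pow_eq_pow_val]
  have hB3 : orderOf (B ^ 3) = 85 := by
    rw [orderOf_pow' B (by norm_num), hB]
    norm_num
  refine ⟨QuotientGroup.mk A, Nat.dvd_antisymm (orderOf_dvd_of_pow_eq_one ?_) ?_⟩
  · rw [← QuotientGroup.mk_pow, QuotientGroup.eq_one_iff]
    have : A ^ 85 = 1 := by
      apply Subtype.ext
      have h1 : (B ^ 3) ^ 85 = 1 := by rw [← hB3]; exact pow_orderOf_eq_one _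
      have h2 := hBk 85
      rw [h1] at h2
      exact h2
    rw [this]
    exact one_mem _
  · generalize hk : orderOf (QuotientGroup.mk A : ProjectiveSpecialLinearGroup (Fin 4) F) = k
    have h1 : A ^ k ∈ Subgroup.center (Matrix.SpecialLinearGroup (Fin 4) F) := by
      rw [← QuotientGroup.eq_one_iff, QuotientGroup.mk_pow, ← hk]
      exact pow_orderOf_eq_one _
    obtain ⟨r, hr4, hr⟩ := Matrix.SpecialLinearGroup.mem_center_iff.1 h1
    have hr0 : r ≠ 0 := by
      rintro rfl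
      simp at hr4
    have hr3 : r ^ 3 = 1 := by
      have h3 : (3 : ℕ) = Fintype.card F - 1 := by rw [hF]
      rw [h3]
      exact FiniteField.pow_card_sub_one_eq_one r hr0
    have hr1 : r = 1 := by
      have h4 : r ^ 4 = 1 := by simpa using hr4
      calc r = r ^ 4 * (r ^ 3)⁻¹ := by field_simp
        _ = 1 := by rw [h4, hr3]; simp
    rw [← hB3]
    apply orderOf_dvd_of_pow_eq_one
    apply Units.ext
    rw [← hBk, ← hr, hr1]
    simp

/-- **N1.** -/
theorem main {K : Type u} [Field K] [Fintype K] (hK : Fintype.card K = 4) :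
    H944.TS.NotE K (.psl 2 49) ∧ H944.TS.NotE K (.psl 2 64) ∧ H944.TS.NotE K (.psp 2 8) ∧ H944.TS.NotE K (.psu 4 8) ∧
      H944.TS.NotE K (.psl 4 4) ∧ H944.TS.NotE K (.psl 3 9) ∧ H944.TS.NotE K (.psl 3 16) := by
  refine ⟨?_, ?_, ?_, ?_, ?_, ?_, ?_⟩
  · rintro L ⟨F, _, _, hF, ⟨e⟩⟩
    exact notE (ne_25 hK) L e (exists_25 hF)
  · rintro L ⟨F, _, _, hF, ⟨e⟩⟩
    exact notE (ne_65 hK) L e (Cfsg.Agent.H904.Ord65.exists_psl_two hF)
  · rintro L ⟨F, _, _, hF, ⟨e⟩⟩
    exact notE (ne_65 hK) L e (Cfsg.Agent.H904.Ord65.exists_psp hF)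
  · rintro L ⟨F, _, _, hF, ⟨e⟩⟩
    have : Fintype (GaloisField 2 3) := Fintype.ofFinite _
    have hF8 : Fintype.card (GaloisField 2 3) = 8 := by
      rw [← Nat.card_eq_fintype_card, GaloisField.card 2 3 (by norm_num)]; norm_num
    exact notE (ne_65 hK) L e (Cfsg.Agent.H904.Ord65.exists_psu hF8 (by rw [hF]; norm_num))
  · rintro L ⟨F, _, _, hF, ⟨e⟩⟩
    exact notE (ne_85 hK) L e (exists_85 hF)
  · rintro L ⟨F, _, _, hF, ⟨e⟩⟩
    exact notE (ne_91 hK) L e (exists_91a hF)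
  · rintro L ⟨F, _, _, hF, ⟨e⟩⟩
    exact notE (ne_91 hK) L e (exists_91b hF)

end Cfsg.Agent.H951.TS.N1
end

-- part: H951/TS/N6
section
/-!
# `L₂(27) ≤ PSp₆(3)` (S5741, task N6; helper951)
-/

set_option autoImplicit false

namespace Cfsg.Agent.H951.TS.N6

open Cfsg Cfsg.Lie Subgroup Matrix Cfsg.Agent.OrdDiv Cfsg.Agent.H944.TS Cfsg.Agent.H376

universe u

section

variable {F E : Type*} [Field F] [Field E] [Algebra F E] [FiniteDimensional F E] [Algebra.IsSeparable F E]
  (b : Module.Basis (Fin 3) F E)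

/-- the homomorphism to `PSp₆` -/
noncomputable def toPSp : _root_.Matrix.SpecialLinearGroup (Fin 2) E →* PSp 3 F :=
  (QuotientGroup.mk' (Subgroup.center (symplecticGroup (Fin 3) F))).comp (SpEmb.ofSLTwo b)

theorem ofSLTwo_scalar {A : _root_.Matrix.SpecialLinearGroup (Fin 2) E} {r : E} (hA : scalar (Fin 2) r = A.1) (c : F)
    (hr : r = algebraMap F E c) : (SpEmb.ofSLTwo b A).1 = c • 1 := by
  have h00 : A.1 0 0 = r := by rw [← hA]; simp
  have h01 : A.1 0 1 = 0 := by rw [← hA]; simp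
  have h10 : A.1 1 0 = 0 := by rw [← hA]; simp
  have h11 : A.1 1 1 = r := by rw [← hA]; simp
  have hL : Algebra.leftMulMatrix b r = c • (1 : Matrix (Fin 3) (Fin 3) F) := by
    rw [hr, Algebra.algebraMap_eq_smul_one, map_smul, map_one]
  show fromBlocks (Algebra.leftMulMatrix b (A.1 0 0)) (Algebra.leftMulMatrix b (A.1 0 1) * (Algebra.traceMatrix F b)⁻¹)
    (Algebra.traceMatrix F b * Algebra.leftMulMatrix b (A.1 1 0)) (Algebra.leftMulMatrix b (A.1 1 1))ᵀ = c • 1
  rw [h00, h01, h10, h11, hL, map_zero, zero_mul, mul_zero, transpose_smul, transpose_one, ← fromBlocks_one,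
    fromBlocks_smul, smul_zero]

theorem ker_toPSp : (toPSp b).ker = Subgroup.center (_root_.Matrix.SpecialLinearGroup (Fin 2) E) := by
  ext A
  have h1 : A ∈ (toPSp b).ker ↔ SpEmb.ofSLTwo b A ∈ Subgroup.center (symplecticGroup (Fin 3) F) :=
    QuotientGroup.eq_one_iff _
  rw [h1]
  constructor
  · intro h
    rw [Subgroup.mem_center_iff]
    intro B
    apply SpEmb.ofSLTwo_injective b
    rw [map_mul, map_mul, Subgroup.mem_center_iff.1 h]
  · intro h
    obtain ⟨r, hr, hA⟩ := Matrix.SpecialLinearGroup.mem_center_iff.1 h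
    have h2 : r ^ 2 = 1 := by simpa only [_root_.sq_eq_one_iff, _root_.Fintype.card_fin] using hr
    rw [LieClassical.SympCenter.mem_center_iff]
    rcases sq_eq_one_iff.1 h2 with rfl | rfl
    · exact ⟨1, ofSLTwo_scalar b hA 1 (map_one _).symm⟩
    · exact ⟨-1, ofSLTwo_scalar b hA (-1) (by rw [map_neg, map_one])⟩

theorem exists_range : Nonempty (↥(toPSp b).range ≃* ProjectiveSpecialLinearGroup (Fin 2) E) :=
  ⟨(QuotientGroup.quotientKerEquivRange (toPSp b)).symm.trans (QuotientGroup.quotientMulEquivOfEq (ker_toPSp b))⟩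

end

/-- **`L₂(27) ≤ PSp₆(3)`.** -/
theorem psp_psl : Sub.{u} (.psp 3 3) (.psl 2 27) := by
  rintro X _ ⟨F, _, _, hF, ⟨e⟩⟩
  obtain ⟨p, hp⟩ := CharP.exists F
  have : Fact p.Prime := ⟨CharP.char_is_prime F p⟩
  let b := Module.finBasisOfFinrankEq F (FiniteField.Extension F p 3) (FiniteField.finrank_extension F p 3)
  obtain ⟨e2⟩ := exists_range b
  have : Fintype (FiniteField.Extension F p 3) := Fintype.ofFinite _
  refine ⟨(toPSp b).range.comap e.toMonoidHom, FiniteField.Extension F p 3, inferInstance, this, ?_, ⟨?_⟩⟩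
  · rw [← Nat.card_eq_fintype_card, FiniteField.natCard_extension F p 3, Nat.card_eq_fintype_card, hF]
    norm_num
  · exact (e.subgroupMap _).trans ((MulEquiv.subgroupCongr (Subgroup.map_comap_eq_self_of_surjective e.surjective _)).trans e2)

end Cfsg.Agent.H951.TS.N6
end

-- part: H458/TSA3
section
/-!
# Embeddings between the classical groups inside `²E₆(2)` (helper458, task 971 for S5741)

* `X1` : `Sp₈(2) ≤ Ω⁻₁₀(2)`;  `X2` : `Sp₆(2) ≤ Sp₈(2)`;  `X3` : `Sp₄(4) ≤ Sp₈(2)`;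
* `X4`, `X5` : `Ω⁺₈(2), Ω⁻₈(2) ≤ Sp₈(2)`;  `X6` : `L₂(16) ≤ Sp₄(4)`.
-/

set_option autoImplicit false

namespace Cfsg.Agent.H458.TSA3

open Cfsg Cfsg.Agent.OrdDiv Cfsg.Agent.H944.TS Matrix
open Cfsg.Agent.H198.Carriers Cfsg.Agent.ClassicalGeometry.OrthSemi
open Cfsg.Agent.ClassicalGeometry.Reflection
open QuadraticMap

universe u

theorem charP_two {F : Type*} [Field F] [Fintype F] {n : ℕ} (h : Fintype.card F = 2 ^ n) : CharP F 2 := by
  have := Fact.mk Nat.prime_two
  obtain ⟨p, hp⟩ := CharP.exists F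
  obtain ⟨m, hp', hc⟩ := FiniteField.card F p
  rw [h] at hc
  have : p ∣ 2 ^ n := by rw [hc]; exact dvd_pow_self p m.ne_zero
  have := (Nat.prime_dvd_prime_iff_eq hp' Nat.prime_two).1 (hp'.dvd_of_dvd_pow this)
  subst this
  exact hp

/-- embedding at the level of Sp -/
theorem psp_of_sp {F : Type*} [Field F] [CharP F 2] {m : ℕ} {X : Type u} [Group X] (e : X ≃* PSp m F) :
    Nonempty (X ≃* ↥(symplecticGroup (Fin m) F)) :=
  ⟨e.trans (H292.SpCen.spEquiv m).symm⟩

theorem sub_of_hom {F K : Type} [Field F] [Fintype F] [Field K] [Fintype K] [CharP F 2] [CharP K 2] {m n : ℕ}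
    {X : Type u} [Group X] (e : X ≃* PSp m F) (f : ↥(symplecticGroup (Fin n) K) →* ↥(symplecticGroup (Fin m) F))
    (hf : Function.Injective f) : ∃ L : Subgroup X, Nonempty (↥L ≃* PSp n K) := by
  obtain ⟨e'⟩ := psp_of_sp e
  let g : PSp n K →* X := (e'.symm.toMonoidHom.comp f).comp (H292.SpCen.spEquiv n).symm.toMonoidHom
  have hg : Function.Injective g := (e'.symm.injective.comp hf).comp (H292.SpCen.spEquiv n).symm.injective
  exact ⟨g.range, ⟨(MonoidHom.ofInjective hg).symm⟩⟩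

theorem X2 : Sub.{u} (.psp 4 2) (.psp 3 2) := by
  intro X _ ⟨F, i1, i2, hF, ⟨e⟩⟩
  have := charP_two (n := 1) (by rw [hF]; rfl)
  obtain ⟨L, hL⟩ := sub_of_hom e (H292.Oct.ext1 3 1) (H292.Oct.ext1_injective 3 1)
  exact ⟨L, F, i1, i2, hF, hL⟩

theorem X3 : Sub.{u} (.psp 4 2) (.psp 2 4) := by
  intro X _ ⟨F, i1, i2, hF, ⟨e⟩⟩
  have := charP_two (n := 1) (by rw [hF]; rfl)
  have := Fact.mk Nat.prime_two
  let _ : Fintype (GaloisField 2 2) := Fintype.ofFinite _
  have hK : Fintype.card (GaloisField 2 2) = 4 := by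
    rw [← Nat.card_eq_fintype_card, GaloisField.card 2 2 two_ne_zero]; rfl
  obtain ⟨f, hf⟩ := S2678.result (K := GaloisField 2 2) (F := F) (q := 2) (by rw [hK]; rfl) hF 2
  obtain ⟨L, hL⟩ := sub_of_hom e f hf
  exact ⟨L, GaloisField 2 2, inferInstance, inferInstance, hK, hL⟩

theorem X6 : Sub.{u} (.psp 2 4) (.psl 2 16) := by
  intro X _ ⟨F, i1, i2, hF, ⟨e⟩⟩
  have := charP_two (n := 2) (by rw [hF]; rfl)
  have := Fact.mk Nat.prime_two
  let _ : Fintype (GaloisField 2 4) := Fintype.ofFinite _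
  have hK : Fintype.card (GaloisField 2 4) = 16 := by
    rw [← Nat.card_eq_fintype_card, GaloisField.card 2 4 four_ne_zero]; rfl
  obtain ⟨f, hf⟩ := S2678.result (K := GaloisField 2 4) (F := F) (q := 4) (by rw [hK]; rfl) hF 1
  obtain ⟨L, ⟨eL⟩⟩ := sub_of_hom e f hf
  exact ⟨L, GaloisField 2 4, inferInstance, inferInstance, hK, ⟨eL.trans (H292.Rows.pspOne _)⟩⟩

section Orth

variable {ι : Type} [Fintype ι] [DecidableEq ι] {F : Type} [Field F] [Finite F] {Q : QuadraticForm F (ι → F)}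

open Cfsg.Agent.LieClassical.OrthTrans (Good)

/-- `PΩ = Ω` in characteristic two -/
noncomputable def omEquiv (h2 : (2 : F) = 0) (hG : _root_.Cfsg.Agent.LieClassical.OrthTrans.Good Q) : ↥(Omega F ⇑Q) ≃* POmega F ⇑Q :=
  (QuotientGroup.quotientBot.symm).trans (QuotientGroup.quotientMulEquivOfEq (H292.OrthTwo.center_bot h2 hG).symm)

/-- the orthogonal group is contained in the symplectic group of the polar form -/
theorem exists_orth (h2 : (2 : F) = 0) (hG : _root_.Cfsg.Agent.LieClassical.OrthTrans.Good Q) {m : ℕ} (hm : Fintype.card ι = 2 * m) :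
    ∃ f : POmega F ⇑Q →* ↥(symplecticGroup (Fin m) F), Function.Injective f := by
  have hp := H292.OrthTwo.polar_nondeg hG
  obtain ⟨j, hj⟩ := ClassicalGeometry.SympIso.exists_linearEquiv_sympForm (k := m) (polarBilin Q)
    (fun v => by
      rw [polarBilin_apply_apply, polar_self, two_smul, ← two_mul, h2, zero_mul]) hp.1 (by
      rw [Module.finrank_fintype_fun_eq_card, hm])
  have hS : H749.SimF j (sympForm m F) (fun u v => polar Q u v) 1 :=
    ⟨one_ne_zero, fun x y => by rw [one_mul]; exact hj x y⟩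
  obtain ⟨e⟩ := H749.exists_spEquiv hS
  have hmem : ∀ g : isometryGroup F ⇑Q, H749.glHom (LinearEquiv.refl F (ι → F)) g.1 ∈
      H749.Iso (fun u v : ι → F => polar Q u v) := by
    intro g u v
    have h1 : ∀ x, Q (H749.glHom (LinearEquiv.refl F (ι → F)) g.1 x) = Q x := fun x => g.2 x x
    show polar Q (H749.glHom (LinearEquiv.refl F (ι → F)) g.1 u) (H749.glHom (LinearEquiv.refl F (ι → F)) g.1 v) = polar Q u v
    rw [polar, polar, ← map_add, h1, h1, h1]
  let φ : isometryGroup F ⇑Q →* H749.Iso (fun u v : ι → F => polar Q u v) :=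
    ((H749.glHom (LinearEquiv.refl F (ι → F))).comp (Subgroup.subtype _)).codRestrict _ hmem
  have hφ : Function.Injective φ := by
    intro A B h
    exact Subtype.ext (H749.glHom_injective _ (congrArg Subtype.val h))
  exact ⟨((e.symm.toMonoidHom.comp φ).comp (Subgroup.subtype _)).comp (omEquiv h2 hG).symm.toMonoidHom,
    ((e.symm.injective.comp hφ).comp Subtype.val_injective).comp (omEquiv h2 hG).symm.injective⟩

end Orth

seal Cfsg.isometryGroup _root_.commutator Subgroup.center QuotientGroup.leftRel _root_.QuotientGroup.Quotient.group in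
theorem X4 : Sub.{u} (.psp 4 2) (.oplus 4 2) := by
  intro X _ ⟨F, i1, i2, hF, ⟨e⟩⟩
  have := charP_two (n := 1) (by rw [hF]; rfl)
  obtain ⟨e'⟩ := psp_of_sp e
  obtain ⟨f, hf⟩ := exists_orth (Q := plusQ 4 F) CharTwo.two_eq_zero (good_plusQ (by norm_num)) (m := 4) (by simp)
  exact ⟨(e'.symm.toMonoidHom.comp f).range, F, i1, i2, hF,
    ⟨(MonoidHom.ofInjective (f := e'.symm.toMonoidHom.comp f) (e'.symm.injective.comp hf)).symm⟩⟩

seal Cfsg.isometryGroup _root_.commutator Subgroup.center QuotientGroup.leftRel _root_.QuotientGroup.Quotient.group in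
theorem X5 : Sub.{u} (.psp 4 2) (.ominus 4 2) := by
  intro X _ ⟨F, i1, i2, hF, ⟨e⟩⟩
  have := charP_two (n := 1) (by rw [hF]; rfl)
  obtain ⟨e'⟩ := psp_of_sp e
  have hF2 : ∀ x : F, x = 0 ∨ x = 1 := by
    intro x
    classical
    by_contra h
    push Not at h
    have h3 : ({0, 1, x} : Finset F).card = 3 := Finset.card_eq_three.2 ⟨0, 1, x, zero_ne_one, h.1.symm, h.2.symm, rfl⟩
    have := Finset.card_le_univ ({0, 1, x} : Finset F)
    omega
  have hab : ∀ z₁ z₂ : F, z₁ ^ 2 + 1 * z₁ * z₂ + 1 * z₂ ^ 2 = 0 → z₁ = 0 ∧ z₂ = 0 := by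
    intro z₁ z₂ h
    have h2 : (2 : F) = 0 := CharTwo.two_eq_zero
    rcases hF2 z₁ with rfl | rfl <;> rcases hF2 z₂ with rfl | rfl
    · exact ⟨rfl, rfl⟩
    · simp at h
    · simp at h
    · exact absurd (show (1 : F) = 0 by linear_combination h - h2) one_ne_zero
  obtain ⟨f, hf⟩ := exists_orth (Q := minusQ 3 F 1 1) CharTwo.two_eq_zero (good_minusQ (by norm_num) hab) (m := 4) (by simp)
  exact ⟨(e'.symm.toMonoidHom.comp f).range, F, i1, i2, 1, 1, hF, hab,
    ⟨(MonoidHom.ofInjective (f := e'.symm.toMonoidHom.comp f) (e'.symm.injective.comp hf)).symm⟩⟩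

seal Cfsg.isometryGroup _root_.commutator Subgroup.center QuotientGroup.leftRel _root_.QuotientGroup.Quotient.group in
theorem X1 : Sub.{u} (.ominus 5 2) (.psp 4 2) := by
  intro X _ ⟨F, i1, i2, a, b, hF, hab, ⟨e⟩⟩
  have := charP_two (n := 1) (by rw [hF]; rfl)
  have h2 : (2 : F) = 0 := CharTwo.two_eq_zero
  have hG : LieClassical.OrthTrans.Good (minusQ 4 F a b) := good_minusQ (by norm_num) hab
  have hv : minusQ 4 F a b (Sum.elim 0 ![1, 0]) = 1 := by
    show quadFormMinus 4 F a b _ = 1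
    simp [quadFormMinus]
  obtain ⟨t⟩ := H292.OrthVec.stab_equiv h2 (H292.OrthTwo.polar_nondeg hG) hv (n := 4) (by simp) (by simp)
  let f : PSp 4 F →* X := (((e.symm.toMonoidHom.comp (omEquiv h2 hG).toMonoidHom).comp
    (Subgroup.subtype _)).comp t.symm.toMonoidHom).comp (H292.SpCen.spEquiv 4).symm.toMonoidHom
  have hf : Function.Injective f := (((e.symm.injective.comp (omEquiv h2 hG).injective).comp
    Subtype.val_injective).comp t.symm.injective).comp (H292.SpCen.spEquiv 4).symm.injective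
  exact ⟨f.range, F, i1, i2, hF, ⟨(MonoidHom.ofInjective hf).symm⟩⟩

end Cfsg.Agent.H458.TSA3
end

-- part: H708/TSPsu62
section
/-!
# `PSU(6, 2)` is a subgroup of `²E₆(2)` (task 979, for S5741)
-/

set_option autoImplicit false

namespace Cfsg.Agent.H708.TSPsu62

open Cfsg Cfsg.Agent.OrdDiv Cfsg.Agent.H944.TS

universe u

theorem in_psu62 {K : Type u} [Field K] [Fintype K] (hK : Fintype.card K = 4) : InE K (.psu 6 2) := by
  obtain ⟨hc, φ, F⟩ := Cfsg.Agent.TwoESix.LeviA.exists_four K hK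
  have h15 := Cfsg.Agent.TwoESix.LeviCard.factorization_LL F
  let G4 := GaloisField 2 2
  letI : Fintype G4 := Fintype.ofFinite G4
  have hG4 : Fintype.card G4 = 2 ^ 2 := by
    rw [← Nat.card_eq_fintype_card]; exact GaloisField.card 2 2 (by norm_num)
  obtain ⟨e, -⟩ := Cfsg.Agent.TwoESix.LeviF.exists_e F hG4 h15
  refine InE.of_injective (X := ↥(Cfsg.Agent.TwoESix.LeviC.LL K))
    (Subgroup.inclusion (inf_le_right)) (Subgroup.inclusion_injective _) ?_
  intro L ⟨e'⟩
  exact ⟨G4, inferInstance, inferInstance, hG4, ⟨e'.trans e⟩⟩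

end Cfsg.Agent.H708.TSPsu62
end

-- part: H848/TriF4
section
/-!
# `³D₄(2) ≤ F₄(2)` (TEAM EXCSUB, S5741, B5)

Five words in root elements of `F₄(2)` satisfying the relations of `³D₄(2)` (`TypeD4Two.Recog`).  They were found as
`g h g⁻¹`, `h` in `³D₄(2) ≤ D₄(8) ≤ F₄(8)`, `g ∈ SL₃(8)` (short roots) with `σ(g) = g n`.
-/

set_option autoImplicit false
set_option maxRecDepth 100000
set_option linter.unusedSimpArgs false

namespace Cfsg.Agent.H848.TriF4

open Cfsg Cfsg.Lie
open Cfsg.Agent.FourTwo.Base (LL x x_inv wd wd_nil wd_cons wd_append wd_one)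
open Cfsg.Agent.LThreeFfour.Mat (mt mt_inj mt_wd)
open Cfsg.Agent.FourTwo.RankInv (wordM)
open Cfsg.Agent.TypeD4Two
open Cfsg.Agent.TypeD4Two.Cert (RelL RelC RelT bb zz cc)

universe u

theorem wd_inv (w : List ℕ) : (wd w)⁻¹ = wd w.reverse := by
  induction w with
  | nil => simp
  | cons r w ih => rw [wd_cons, mul_inv_rev, ih, x_inv, List.reverse_cons, wd_append, wd_one]

theorem wd_pow (w : List ℕ) (k : ℕ) : wd w ^ k = wd (List.replicate k w).flatten := by
  induction k with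
  | zero => rfl
  | succ k ih => rw [pow_succ', ih, ← wd_append]; rfl

theorem one_wd : (1 : LL) = wd [] := rfl

/-- the check -/
def ck (w w' : List ℕ) : Bool :=
  (w.all fun r => decide (r < 48)) && (w'.all fun r => decide (r < 48)) && Nat.beq (wordM w) (wordM w')

theorem wd_eq {w w' : List ℕ} (h : ck w w' = true) : wd w = wd w' := by
  unfold ck at h
  rw [Bool.and_eq_true, Bool.and_eq_true] at h
  apply mt_inj
  rw [mt_wd w h.1.1, mt_wd w' h.1.2, Nat.eq_of_beq_eq_true h.2]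

/-- the words -/
def dW : List ℕ := [33, 27, 20, 27, 34, 13, 34]
def eW : List ℕ := [28, 41]
def nW : List ℕ := [28, 19, 28, 41, 6, 41]
def aW : List ℕ := [46]
def tW : List ℕ := [24, 23, 24]

theorem relL : RelL (wd dW) (wd eW) (wd nW) where
  dd := by simp only [wd_pow, one_wd, wd_inv, ← wd_append]; exact wd_eq (by decide +kernel)
  ee := by simp only [wd_pow, one_wd, wd_inv, ← wd_append]; exact wd_eq (by decide +kernel)
  nn := by simp only [wd_pow, one_wd, wd_inv, ← wd_append]; exact wd_eq (by decide +kernel)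
  l1 := by simp only [wd_pow, one_wd, wd_inv, ← wd_append]; exact wd_eq (by decide +kernel)
  l2 := by simp only [wd_pow, one_wd, wd_inv, ← wd_append]; exact wd_eq (by decide +kernel)
  nd := by simp only [wd_pow, one_wd, wd_inv, ← wd_append]; exact wd_eq (by decide +kernel)
  ne := by simp only [wd_pow, one_wd, wd_inv, ← wd_append]; exact wd_eq (by decide +kernel)

theorem relC : RelC (wd dW) (wd eW) (wd nW) (wd aW) where
  toRelL := relL
  aa := by simp only [bb, zz, cc, wd_pow, one_wd, wd_inv, ← wd_append]; exact wd_eq (by decide +kernel)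
  ad := by simp only [bb, zz, cc, wd_pow, one_wd, wd_inv, ← wd_append]; exact wd_eq (by decide +kernel)
  ae := by simp only [bb, zz, cc, wd_pow, one_wd, wd_inv, ← wd_append]; exact wd_eq (by decide +kernel)
  ab := by simp only [bb, zz, cc, wd_pow, one_wd, wd_inv, ← wd_append]; exact wd_eq (by decide +kernel)
  ze := by simp only [bb, zz, cc, wd_pow, one_wd, wd_inv, ← wd_append]; exact wd_eq (by decide +kernel)
  prod := by simp only [bb, zz, cc, wd_pow, one_wd, wd_inv, ← wd_append]; exact wd_eq (by decide +kernel)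

theorem relT : RelT (wd dW) (wd eW) (wd nW) (wd aW) (wd tW) where
  toRelC := relC
  tt := by simp only [bb, zz, cc, wd_pow, one_wd, wd_inv, ← wd_append]; exact wd_eq (by decide +kernel)
  td := by simp only [bb, zz, cc, wd_pow, one_wd, wd_inv, ← wd_append]; exact wd_eq (by decide +kernel)
  tz := by simp only [bb, zz, cc, wd_pow, one_wd, wd_inv, ← wd_append]; exact wd_eq (by decide +kernel)
  bt := by simp only [bb, zz, cc, wd_pow, one_wd, wd_inv, ← wd_append]; exact wd_eq (by decide +kernel)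
  te := by simp only [bb, zz, cc, wd_pow, one_wd, wd_inv, ← wd_append]; exact wd_eq (by decide +kernel)
  tc := by simp only [bb, zz, cc, wd_pow, one_wd, wd_inv, ← wd_append]; exact wd_eq (by decide +kernel)

theorem tn : (wd tW * (wd nW * wd tW * wd nW)) ^ 3 = 1 := by
  simp only [wd_pow, one_wd, wd_inv, ← wd_append]; exact wd_eq (by decide +kernel)

theorem t_ne : wd tW ≠ 1 := by
  intro h
  have h1 : x 24 * (x 23 * (x 24 * 1)) = 1 := h
  have h2 : x 24 * x 24 = 1 := Cfsg.Agent.FourTwo.Base.x_mul_self 24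
  apply Cfsg.Agent.FourTwo.BN.x_ne_one (r := 23) (by omega)
  calc x 23 = (x 24 * x 24) * x 23 * (x 24 * x 24) := by rw [h2, one_mul, mul_one]
    _ = x 24 * (x 24 * (x 23 * (x 24 * 1))) * x 24 := by group
    _ = 1 := by rw [h1, mul_one, h2]

/-- **`³D₄(2) ≤ F₄(2)`** -/
theorem exists_tri : ∃ L : Subgroup LL, ∀ (K : Type) [Field K] [Fintype K], Fintype.card K = 8 →
    Nonempty (L ≃* twistedD4 K 2) :=
  ⟨_, fun K _ _ hK => Recog.recognize_field relT tn t_ne K hK⟩

open Cfsg.Agent.OrdDiv Cfsg.Agent.H944.TS in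
/-- task B5 -/
theorem sub_f4_td4 : Sub.{u} (.f4 2) (.td4 2) := by
  rintro X _ ⟨F, i1, i2, hF, ⟨e⟩⟩
  obtain ⟨L, hL⟩ := exists_tri
  have hZ : Fintype.card (ZMod 2) = 2 := ZMod.card 2
  let φ : ZMod 2 ≃+* F := FiniteField.ringEquivOfCardEq (hZ.trans hF.symm)
  let f : LL ≃* X := (ChevalleyStructure.FieldIso.groupEquiv chevF4 φ).trans e.symm
  obtain ⟨k⟩ := hL F8 F8.card_F8
  let j : twistedD4 F8 2 →* X := (f.toMonoidHom.comp L.subtype).comp k.symm.toMonoidHom
  have hj : Function.Injective j := fun a b h => k.symm.injective (L.subtype_injective (f.injective h))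
  exact ⟨j.range, F8, inferInstance, inferInstance, by rw [F8.card_F8]; norm_num, ⟨(MonoidHom.ofInjective hj).symm⟩⟩

end Cfsg.Agent.H848.TriF4
end

-- part: H660/TSU6
section
/-!
# S5741, task B7: `PSU₄(3)` in `PSU₆(2)` (helper660)

From S5520 (`3.PSU₄(3)` in `SU₆(2)`): the centre of such a subgroup is the centre of `SU₆(2)`, otherwise it would be
embedded in `PSU₆(2)`, whose order is not divisible by `3 ^ 7`.
-/

set_option autoImplicit false

namespace Cfsg.Agent.H660.TSU6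

open Cfsg Cfsg.Agent.OrdDiv Cfsg.Agent.H944.TS Cfsg.Agent.H832.UThree

universe u

theorem card_u6 {F : Type} [Field F] [Fintype F] (hF : Fintype.card F = 2 ^ 2) : Nat.card (PSU 6 F 2) = 9196830720 := by
  have h := Cfsg.Agent.S0280.result (q := 2) hF 6 (by norm_num)
  simp only [Finset.prod_range_succ, Finset.prod_range_zero] at h
  norm_num only [Nat.even_iff, _root_.ite_true, _root_.one_mul, _root_.ite_false] at h
  omega

theorem card_u4 {F : Type} [Field F] [Fintype F] (hF : Fintype.card F = 3 ^ 2) : Nat.card (PSU 4 F 3) = 3265920 := by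
  have h := Cfsg.Agent.S0280.result (q := 3) hF 4 (by norm_num)
  simp only [Finset.prod_range_succ, Finset.prod_range_zero] at h
  norm_num only [Nat.even_iff, _root_.ite_true, _root_.one_mul, _root_.ite_false] at h
  omega

theorem u6_u4_of (hS : ∀ (S : Type) [Group S] [Finite S] [IsSimpleGroup S], IsKnownSimple' S) :
    Sub.{u} (.psu 6 2) (.psu 4 3) := by
  intro X _ h
  obtain ⟨F, i1, i2, hF, ⟨e⟩⟩ := h
  obtain ⟨K, h1⟩ : ∃ K : Subgroup ↥(SU 6 F 2), Nat.card ↥(Subgroup.center ↥K) = 3 ∧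
      Nonempty (↥K ⧸ Subgroup.center ↥K ≃* PSU 4 Cfsg.Agent.SporadicStructure.FieldNine.K9 3) := by
    obtain ⟨K₁, K₂, K₃, h1, -⟩ := three Cfsg.Agent.OrdDiv.table hS F (by rw [hF]; norm_num)
      Cfsg.Agent.SporadicStructure.FieldNine.K9 Cfsg.Agent.SporadicStructure.FieldNine.K9.card_K9'
    exact ⟨K₁, h1 K₁ (by simp)⟩
  obtain ⟨hz, ⟨ε⟩⟩ := h1
  have hcK : Nat.card ↥K = 9797760 := by
    have h2 := Subgroup.card_eq_card_quotient_mul_card_subgroup (Subgroup.center ↥K)
    rw [hz, Nat.card_congr ε.toEquiv, card_u4 Cfsg.Agent.SporadicStructure.FieldNine.K9.card_K9'] at h2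
    rw [h2]
  have hfK : Finite ↥K := Nat.finite_of_card_ne_zero (by rw [hcK]; norm_num)
  let f : ↥K →* PSU 6 F 2 := (QuotientGroup.mk' (Subgroup.center ↥(SU 6 F 2))).comp K.subtype
  have hker : f.ker ≤ Subgroup.center ↥K := by
    intro k hk
    have h3 : (k : ↥(SU 6 F 2)) ∈ Subgroup.center ↥(SU 6 F 2) := by
      have h4 : QuotientGroup.mk' (Subgroup.center ↥(SU 6 F 2)) (k : ↥(SU 6 F 2)) = 1 := hk
      rwa [QuotientGroup.mk'_apply, QuotientGroup.eq_one_iff] at h4
    rw [Subgroup.mem_center_iff] at h3 ⊢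
    intro g
    exact Subtype.ext (h3 g)
  have hk3 : Nat.card ↥f.ker ∣ 3 := hz ▸ Subgroup.card_dvd_of_le hker
  have hne : Nat.card ↥f.ker ≠ 1 := by
    intro h1
    have hbot : f.ker = ⊥ := Subgroup.card_eq_one.1 h1
    have hinj : Function.Injective f := (MonoidHom.ker_eq_bot_iff f).1 hbot
    have hd := Subgroup.card_subgroup_dvd_card f.range
    rw [← Nat.card_congr (MonoidHom.ofInjective hinj).toEquiv, hcK, card_u6 hF] at hd
    revert hd
    norm_num
  have hk : Nat.card ↥f.ker = 3 := by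
    rcases (Nat.dvd_prime Nat.prime_three).1 hk3 with h1 | h1
    · exact absurd h1 hne
    · exact h1
  have heq : f.ker = Subgroup.center ↥K := Subgroup.eq_of_le_of_card_ge hker (by rw [hk, hz])
  have ι : ↥K ⧸ Subgroup.center ↥K ≃* ↥f.range :=
    (QuotientGroup.quotientMulEquivOfEq heq.symm).trans (QuotientGroup.quotientKerEquivRange f)
  let g : ↥f.range →* X := e.symm.toMonoidHom.comp f.range.subtype
  have hg : Function.Injective g := e.symm.injective.comp f.range.subtype_injective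
  exact ⟨g.range, _, _, _, Cfsg.Agent.SporadicStructure.FieldNine.K9.card_K9',
    ⟨(MonoidHom.ofInjective hg).symm.trans (ι.symm.trans ε)⟩⟩

end Cfsg.Agent.H660.TSU6
end

-- part: H660/TSM22
section
/-!
# S5741, task B7: `M₂₂` in `PSU₆(2)` (helper660)

`PSU₆(2)` is the joint stabiliser of two minimal vectors of the Leech lattice of inner product `−2` (S1577); take
`(4, −4, 0²²)` and `(−3, 1²³)`.
-/

set_option autoImplicit false

namespace Cfsg.Agent.H660.TSM22

open Cfsg Cfsg.Agent.OrdDiv Cfsg.Agent.H944.TS Cfsg.Agent.H153.SixMathieu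

universe u

/-- The vector `(−3, 1²³)`. -/
def vecW : GolayPt → ℤ := fun p => if p = none then -3 else 1

theorem vecW_mem : vecW ∈ leechSet :=
  Spor.mem_leechSet_of_const_mod_four vecW 1 1 (by decide) (by decide) (by decide)

/-- `(−3, 1²³)` as an element of `leechLattice`. -/
def leechW : leechLattice := ⟨vecW, AddSubgroup.subset_closure vecW_mem⟩

theorem sqNorm_U : sqNorm (Spor.leechU' : GolayPt → ℤ) = 32 := by decide

theorem sqNorm_W : sqNorm (leechW : GolayPt → ℤ) = 32 := by decide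

theorem dot_UW : dotInt (Spor.leechU' : GolayPt → ℤ) (leechW : GolayPt → ℤ) = -16 := by decide

theorem fixW {σ : M24} (hn : σ.1 none = none) (h0 : σ.1 (some 0) = some 0) : (ph σ).1 • leechW = leechW :=
  ph_fix σ _ (fix_of hn h0 vecW (fun p q h1 h2 h3 h4 => by unfold vecW; simp [h1, h3]))

/-- `M₂₂` in the joint stabiliser. -/
noncomputable def m22Hom : ↥Spor.M22 →* ↥(MulAction.stabilizer ↥Co0 Spor.leechU' ⊓ MulAction.stabilizer ↥Co0 leechW) where
  toFun σ := ⟨ph ⟨σ.1, σ.2.1.1⟩, ⟨fixU' σ.2.1.2 σ.2.2, fixW σ.2.1.2 σ.2.2⟩⟩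
  map_one' := rfl
  map_mul' σ τ := by
    apply Subtype.ext
    show ph ⟨σ.1 * τ.1, _⟩ = ph ⟨σ.1, _⟩ * ph ⟨τ.1, _⟩
    rw [← map_mul]
    rfl

theorem m22Hom_injective : Function.Injective m22Hom := by
  intro σ τ h
  have h1 : ph ⟨σ.1, σ.2.1.1⟩ = ph ⟨τ.1, τ.2.1.1⟩ := congrArg Subtype.val h
  have h2 := congrArg Subtype.val (ph_inj h1)
  exact Subtype.ext h2

theorem u6_m22 : Sub.{u} (.psu 6 2) .m22 := by
  intro X _ h
  obtain ⟨F, i1, i2, hF, ⟨e⟩⟩ := h
  obtain ⟨ε⟩ := Cfsg.Agent.S1577.result Spor.leechU' leechW sqNorm_U sqNorm_W dot_UW F (by rw [hF]; norm_num)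
  let g : ↥Spor.M22 →* X := (ε.trans e.symm).toMonoidHom.comp m22Hom
  have hg : Function.Injective g := (ε.trans e.symm).injective.comp m22Hom_injective
  exact ⟨g.range, ⟨(MonoidHom.ofInjective hg).symm⟩⟩

end Cfsg.Agent.H660.TSM22
end

-- part: H271/TSAlt
section
/-!
# `A₁₃` is not a subgroup of `²E₆(2)` (S5741, N5, helper271)

The elements of order 11 of `²E₆(2)` are not real: two elements of the torus of `E₆(k)` are conjugate if and only if they
are conjugate under `W(E₆)`, and the sum of the fifth powers of the 27 weights of the minuscule module is an invariant of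
`W(E₆)` of odd degree which does not vanish on them. In `A₁₃` the elements of order 11 are real.
-/

set_option autoImplicit false
set_option linter.unusedSectionVars false

namespace Cfsg.Agent.H271.TSAlt

open CoxeterSystem Cfsg Cfsg.Lie Cfsg.Agent.ChevalleyStructure Cfsg.Agent.ChevalleyStructure.Elts
  Cfsg.Agent.ChevalleyStructure.CoxeterGeom Cfsg.Agent.ChevalleyStructure.CoxeterGeomTypes
  Cfsg.Agent.Tits.Roots
  Cfsg.Agent.Tits.Core Cfsg.Agent.Nodes.Reps
  Cfsg.Agent.Nodes.BNOf Cfsg.Agent.Nodes.RGDChev Cfsg.Agent.KFacts.RgdField Cfsg.Agent.KFacts.RgdChevCoord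
  Cfsg.Agent.BpExc.Tow Cfsg.Agent.BpExc.TowChev Cfsg.Agent.BpExc.LangFr Cfsg.Agent.BpExc.Fr
  Cfsg.Agent.BpExc.TorCent Cfsg.Agent.H897.Lat Cfsg.Agent.H897.Sg Cfsg.Agent.H897.Tor Cfsg.Agent.H897.Cen
  Cfsg.Agent.H897.Orb Cfsg.Agent.H897.Emb Cfsg.Agent.H897.Frm Cfsg.Agent.H897.Cas Cfsg.Agent.H897.Syl
  Cfsg.Agent.H897.Data
open Cfsg.Agent.BpExc.FamTw.Six (em coe_em em_injective sig_em)

universe u v

/-! ### the invariant of degree five -/

/-- the weights of the 27-dimensional module, times 3 -/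
def wl : List V :=
  [![4,3,5,6,4,2], ![1,3,5,6,4,2], ![1,3,2,6,4,2], ![1,3,2,3,4,2], ![1,0,2,3,4,2], ![1,3,2,3,1,2],
   ![1,0,2,3,1,2], ![1,3,2,3,1,-1], ![1,0,2,0,1,2], ![1,0,2,3,1,-1], ![1,0,-1,0,1,2], ![1,0,2,0,1,-1],
   ![-2,0,-1,0,1,2], ![1,0,-1,0,1,-1], ![1,0,2,0,-2,-1], ![-2,0,-1,0,1,-1], ![1,0,-1,0,-2,-1],
   ![-2,0,-1,0,-2,-1], ![1,0,-1,-3,-2,-1], ![-2,0,-1,-3,-2,-1], ![1,-3,-1,-3,-2,-1],
   ![-2,-3,-1,-3,-2,-1], ![-2,0,-4,-3,-2,-1], ![-2,-3,-4,-3,-2,-1], ![-2,-3,-4,-6,-2,-1],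
   ![-2,-3,-4,-6,-5,-1], ![-2,-3,-4,-6,-5,-4]]

theorem wl_perm : ∀ i : Fin 6, (wl.map (rf (sr i))).Perm wl := by decide +kernel

section

variable {W : Type*} [Group W] (cs : CoxeterSystem CoxeterMatrix.E₆ W)

theorem wl_rep (w : W) : (wl.map (rep cs hp.isCartan w)).Perm wl := by
  obtain ⟨ω, rfl⟩ := cs.wordProd_surjective w
  induction ω with
  | nil =>
    have h : wl.map (rep cs hp.isCartan (cs.wordProd [])) = wl := by
      rw [wordProd_nil, map_one]
      exact List.map_id wl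
    rw [h]
  | cons i ω ih =>
    have h : wl.map (rep cs hp.isCartan (cs.wordProd (i :: ω))) =
        (wl.map (rep cs hp.isCartan (cs.wordProd ω))).map (rf (sr i)) := by
      rw [List.map_map]
      refine List.map_congr_left fun x _ => ?_
      rw [wordProd_cons, rep_mul_apply, rep_simple']
      rfl
    rw [h]
    exact (ih.map _).trans (wl_perm i)

end

/-- the sum of the fifth powers -/
def f5 (c : V) : ℤ := (wl.map fun x => dot c x ^ 5).sum

theorem f5_smul (m : ℤ) (c : V) : f5 (m • c) = m ^ 5 * f5 c := by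
  unfold f5
  rw [← List.sum_map_mul_left]
  congr 1
  refine List.map_congr_left fun x _ => ?_
  rw [smul_dot, mul_pow]

theorem f5_c11 : ¬ (11 : ℤ) ∣ f5 c11 := by decide +kernel

/-- congruent sums -/
theorem sum_congr_mod (l : List V) {f g : V → ℤ} (h : ∀ x, (11 : ℤ) ∣ f x + g x) :
    (11 : ℤ) ∣ (l.map f).sum + (l.map g).sum := by
  induction l with
  | nil => simp
  | cons a l ih =>
    simp only [List.map_cons, List.sum_cons]
    have := dvd_add (h a) ih
    have e : f a + (l.map f).sum + (g a + (l.map g).sum) = f a + g a + ((l.map f).sum + (l.map g).sum) := by ring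
    rw [e]
    exact this

theorem f5_dvd {W : Type*} [Group W] (cs : CoxeterSystem CoxeterMatrix.E₆ W) {w : W} {c : V}
    (h : ∀ i : Fin 6, (11 : ℤ) ∣ dot c (rep cs hp.isCartan w (sr i)) + dot c (sr i)) : (11 : ℤ) ∣ f5 c := by
  have h1 : ∀ x : V, (11 : ℤ) ∣ dot c (rep cs hp.isCartan w x) + dot c x := by
    intro x
    have e1 : rep cs hp.isCartan w x = x 0 • rep cs hp.isCartan w (sr 0) + x 1 • rep cs hp.isCartan w (sr 1) +
        x 2 • rep cs hp.isCartan w (sr 2) + x 3 • rep cs hp.isCartan w (sr 3) +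
        x 4 • rep cs hp.isCartan w (sr 4) + x 5 • rep cs hp.isCartan w (sr 5) := by
      conv_lhs => rw [eq_sum x]
      simp only [map_add, map_zsmul]
    have e2 : dot c x = dot c (x 0 • sr 0 + x 1 • sr 1 + x 2 • sr 2 + x 3 • sr 3 + x 4 • sr 4 + x 5 • sr 5) := by
      rw [← eq_sum x]
    have e : dot c (rep cs hp.isCartan w x) + dot c x =
        x 0 * (dot c (rep cs hp.isCartan w (sr 0)) + dot c (sr 0)) +
        x 1 * (dot c (rep cs hp.isCartan w (sr 1)) + dot c (sr 1)) +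
        x 2 * (dot c (rep cs hp.isCartan w (sr 2)) + dot c (sr 2)) +
        x 3 * (dot c (rep cs hp.isCartan w (sr 3)) + dot c (sr 3)) +
        x 4 * (dot c (rep cs hp.isCartan w (sr 4)) + dot c (sr 4)) +
        x 5 * (dot c (rep cs hp.isCartan w (sr 5)) + dot c (sr 5)) := by
      rw [e1, e2]
      simp only [dot_add, dot_smul]
      ring
    rw [e]
    exact dvd_add (dvd_add (dvd_add (dvd_add (dvd_add (Dvd.dvd.mul_left (h 0) _) (Dvd.dvd.mul_left (h 1) _))
      (Dvd.dvd.mul_left (h 2) _)) (Dvd.dvd.mul_left (h 3) _)) (Dvd.dvd.mul_left (h 4) _)) (Dvd.dvd.mul_left (h 5) _)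
  have h2 : (11 : ℤ) ∣ (wl.map fun x => dot c (rep cs hp.isCartan w x) ^ 5).sum + (wl.map fun x => dot c x ^ 5).sum := by
    refine sum_congr_mod wl fun x => ?_
    have := h1 x
    have h3 : dot c (rep cs hp.isCartan w x) + dot c x ∣ dot c (rep cs hp.isCartan w x) ^ 5 + dot c x ^ 5 :=
      Odd.add_dvd_pow_add_pow _ _ (by decide)
    exact this.trans h3
  have h3 : (wl.map fun x => dot c (rep cs hp.isCartan w x) ^ 5).sum = f5 c := by
    have h4 : (wl.map fun x => dot c (rep cs hp.isCartan w x) ^ 5) =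
        (wl.map (rep cs hp.isCartan w)).map fun x => dot c x ^ 5 := by
      rw [List.map_map]
      rfl
    rw [h4]
    exact List.Perm.sum_eq ((wl_rep cs w).map _)
  rw [h3] at h2
  change (11 : ℤ) ∣ f5 c + f5 c at h2
  rw [← two_mul] at h2
  exact (Int.Prime.dvd_mul' (by norm_num : Nat.Prime 11) h2).resolve_left (by decide)

/-! ### elements of order 11 -/

variable {K : Type u} [Field K] [Fintype K] (hK : Fintype.card K = 4) {k : Type v} [Field k] [CharP k 2]
  [IsAlgClosed k] (hk : LocFin k) (f : K →+* k)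

theorem tz_conj_inv (hk : LocFin k) {ζ : k} (hζ : IsPrimitiveRoot ζ 11) {c : V} {y : ↥(chevE6.group k)}
    (h : y * tz ζ c * y⁻¹ = (tz ζ c)⁻¹) : (11 : ℤ) ∣ f5 c := by
  have hζ0 : ζ ≠ 0 := hζ.ne_zero (by norm_num)
  obtain ⟨ht, -⟩ := tz_spec hζ0 c
  have ht' : tz ζ c ∈ TL (Tj hp (k := k)) := (mem_T hk).2 ht
  have hti : (tz ζ c)⁻¹ ∈ TL (Tj hp (k := k)) := inv_mem ht'
  obtain ⟨m, -, w, n, hn, hnt, -⟩ := _root_.Cfsg.Agent.BpExc.Fr.exists_form (tw cs0 hk) (co cs0 hk) ht' hti (c := y)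
    (by rw [gg_top cs0 hk]; exact Subgroup.mem_top _) (by rw [← h]; group)
  refine f5_dvd cs0 (w := w) fun i => ?_
  have hr : IsRoot cs0 hp.isCartan (sr i) := isRoot_sr _ _ i
  have h7 := (co cs0 hk).chi_rp (tw cs0 hk).nsys hn hr ht'
  have h8 : n * tz ζ c * n⁻¹ = (tz ζ c)⁻¹ := by rw [hnt]; group
  rw [h8] at h7
  have hmem : rep cs0 hp.isCartan w (sr i) ∈ rootList := (root0 _).1 (hr.act w)
  have h9 : ch hp (rep cs0 hp.isCartan w (sr i)) (tz ζ c) * ch hp (rep cs0 hp.isCartan w (sr i)) (tz ζ c)⁻¹ = 1 := by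
    rw [← ch_mul hk ht (inv_mem ht) hmem, mul_inv_cancel, ch_one hk hmem]
  rw [h7, ch_tz hk hζ0 c hmem, ch_tz hk hζ0 c (isRoot_sr' i), ← zpow_add₀ hζ0] at h9
  exact (hζ.zpow_eq_one_iff_dvd _).1 h9

include hK hk f in
theorem not_real' {x y : ↥(twistedE6 K 2)} (hx : orderOf x = 11) : y * x * y⁻¹ ≠ x⁻¹ := by
  intro h
  obtain ⟨ζ, hζ⟩ := exists_prim (k := k) (l := 11) (by norm_num)
  have hζ0 : ζ ≠ 0 := hζ.ne_zero (by norm_num)
  have hx1 : x ≠ 1 := fun h => by rw [h, orderOf_one] at hx; omega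
  have hP : IsPGroup 11 (Subgroup.zpowers x) := IsPGroup.of_card (n := 1) (by rw [Nat.card_zpowers, hx, pow_one])
  obtain ⟨z, hz, hPm⟩ := exists_frame_one hK hk f ws11_mem (p := 11) (by norm_num) (by norm_num) (by norm_num) hζ
    c11_fix c11_ne hP (by rwa [Ne, Subgroup.zpowers_eq_bot])
  have h1 : em 2 f x ∈ (Subgroup.zpowers (tz ζ c11)).map (MulAut.conj z).toMonoidHom := by
    rw [← hPm]
    exact Subgroup.mem_map_of_mem _ (Subgroup.mem_zpowers x)
  obtain ⟨_, ⟨m, rfl⟩, h2⟩ := h1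
  have h3 : em 2 f x = z * tz ζ c11 ^ m * z⁻¹ := h2.symm
  have h4 : ∀ n : ℕ, tz ζ c11 ^ n = tz ζ ((n : ℤ) • c11) := by
    intro n
    induction n with
    | zero => rw [pow_zero, Nat.cast_zero, zero_smul, tz_zero hk hζ0]
    | succ n ih => rw [pow_succ, ih, ← tz_add hk hζ0]; congr 1; push_cast; rw [add_smul, one_smul]
  have h11 : tz ζ c11 ^ 11 = 1 := tz_pow_eq_one hk (by norm_num) hζ c11
  obtain ⟨j, hj⟩ : ∃ j : ℕ, tz ζ c11 ^ m = tz ζ ((j : ℤ) • c11) := by
    refine ⟨(m % 11).toNat, ?_⟩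
    rw [← h4, ← zpow_natCast, Int.toNat_of_nonneg (Int.emod_nonneg m (by norm_num))]
    conv_lhs => rw [← Int.emod_add_mul_ediv m 11, zpow_add, zpow_mul]
    have h5 : tz ζ c11 ^ (11 : ℤ) = 1 := by
      rw [show (11 : ℤ) = ((11 : ℕ) : ℤ) by norm_num, zpow_natCast, h11]
    rw [h5, one_zpow, mul_one]
  rw [hj] at h3
  have h5 : (z⁻¹ * em 2 f y * z) * tz ζ ((j : ℤ) • c11) * (z⁻¹ * em 2 f y * z)⁻¹ = (tz ζ ((j : ℤ) • c11))⁻¹ := by
    have h6 : em 2 f y * em 2 f x * (em 2 f y)⁻¹ = (em 2 f x)⁻¹ := by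
      rw [← map_inv, ← map_mul, ← map_mul, h, map_inv]
    rw [h3] at h6
    calc (z⁻¹ * em 2 f y * z) * tz ζ ((j : ℤ) • c11) * (z⁻¹ * em 2 f y * z)⁻¹
        = z⁻¹ * (em 2 f y * (z * tz ζ ((j : ℤ) • c11) * z⁻¹) * (em 2 f y)⁻¹) * z := by group
      _ = _ := by rw [h6]; group
  have h6 := tz_conj_inv hk hζ h5
  rw [f5_smul] at h6
  rcases Int.Prime.dvd_mul' (by norm_num : Nat.Prime 11) h6 with h7 | h7
  · have h8 : (11 : ℤ) ∣ (j : ℤ) := Int.Prime.dvd_pow' (by norm_num : Nat.Prime 11) h7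
    apply hx1
    apply em_injective (K := K) (q := 2) f
    rw [h3, map_one]
    have h9 : tz ζ ((j : ℤ) • c11) = 1 := by
      obtain ⟨d, hd⟩ := Int.natCast_dvd_natCast.1 h8
      rw [← h4, hd, pow_mul, h11, one_pow]
    rw [h9]; group
  · exact f5_c11 h7

include hK in
/-- **The elements of order 11 of `²E₆(2)` are not real.** -/
theorem not_real {x y : ↥(twistedE6 K 2)} (hx : orderOf x = 11) : y * x * y⁻¹ ≠ x⁻¹ := by
  classical
  have hchar : CharP K 2 := by
    obtain ⟨q, hq⟩ := CharP.exists K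
    have hqp : q.Prime := CharP.char_is_prime K q
    obtain ⟨n, -, hn⟩ := FiniteField.card K q
    rw [hK] at hn
    have h1 : q ∣ 2 ^ 2 := by
      have : q ∣ q ^ (n : ℕ) := dvd_pow_self q n.ne_zero
      rw [← hn] at this
      exact this
    have h2 : q = 2 := (Nat.prime_dvd_prime_iff_eq hqp Nat.prime_two).1 (hqp.dvd_of_dvd_pow h1)
    rwa [← h2]
  let _ : Algebra (ZMod 2) K := ZMod.algebra K 2
  have hfin : Module.Finite (ZMod 2) K := Module.Finite.of_finite
  have halg : Algebra.IsAlgebraic (ZMod 2) K := Algebra.IsAlgebraic.of_finite (ZMod 2) K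
  let f : K →ₐ[ZMod 2] AlgebraicClosure (ZMod 2) := IsAlgClosed.lift
  have hk : Cfsg.Agent.BpExc.TowChev.LocFin (AlgebraicClosure (ZMod 2)) :=
    Cfsg.Agent.BpExc.TowChev.locFin_of_isAlgebraic 2 _
  exact not_real' hK hk (f : K →+* AlgebraicClosure (ZMod 2)) hx

/-! ### the alternating group -/

/-- the 11-cycle -/
def a13 : Equiv.Perm (Fin 13) := c[(0 : Fin 13), 1, 2, 3, 4, 5, 6, 7, 8, 9, 10]

/-- an even permutation inverting the 11-cycle -/
def b13 : Equiv.Perm (Fin 13) :=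
  c[(1 : Fin 13), 10] * c[(2 : Fin 13), 9] * c[(3 : Fin 13), 8] * c[(4 : Fin 13), 7] * c[(5 : Fin 13), 6] *
    c[(11 : Fin 13), 12]

theorem a13_mem : a13 ∈ alternatingGroup (Fin 13) := by
  rw [Equiv.Perm.mem_alternatingGroup]; decide +kernel

theorem b13_mem : b13 ∈ alternatingGroup (Fin 13) := by
  rw [Equiv.Perm.mem_alternatingGroup]; decide +kernel

theorem ab13 : b13 * a13 * b13⁻¹ = a13⁻¹ := by decide +kernel

theorem a13_pow : a13 ^ 11 = 1 := by decide +kernel

theorem a13_ne : a13 ≠ 1 := by decide +kernel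

/-- **N5: `A₁₃` is not a subgroup of `²E₆(2)`.** -/
theorem notE_alt13 {K : Type u} [Field K] [Fintype K] (hK : Fintype.card K = 4) :
    Cfsg.Agent.H944.TS.NotE K (.alt 13) := by
  intro L hL
  obtain ⟨e⟩ : Nonempty (↥L ≃* alternatingGroup (Fin 13)) := hL
  have hp11 : Fact (Nat.Prime 11) := ⟨by norm_num⟩
  let a : alternatingGroup (Fin 13) := ⟨a13, a13_mem⟩
  let b : alternatingGroup (Fin 13) := ⟨b13, b13_mem⟩
  have hab : b * a * b⁻¹ = a⁻¹ := Subtype.ext ab13
  have ha : orderOf a = 11 := by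
    refine orderOf_eq_prime (Subtype.ext ?_) fun h => a13_ne (congrArg Subtype.val h :)
    exact a13_pow
  let φ : alternatingGroup (Fin 13) →* ↥(twistedE6 K 2) := L.subtype.comp e.symm.toMonoidHom
  have hφ : Function.Injective φ := L.subtype_injective.comp e.symm.injective
  refine not_real hK (x := φ a) (y := φ b) ?_ ?_
  · rw [orderOf_injective φ hφ, ha]
  · rw [← map_inv, ← map_mul, ← map_mul, hab, map_inv]

end Cfsg.Agent.H271.TSAlt
end

-- part: H943/J3L19
section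
/-!
# `PSL(2, 19)` is a subgroup of `J₃` (helper943)

Two elements `X` (order 19) and `W` (an involution) of `3·J₃`, given as words in the generators, satisfy the Steinberg
relations of `SL(2, 19)`.
-/

set_option autoImplicit false
set_option maxRecDepth 100000

namespace Cfsg.Agent.H943.J3L19

open Cfsg Cfsg.Spor Cfsg.Agent.J3.Core Cfsg.Agent.J3.Tab Cfsg.Agent.J3.Mono Cfsg.Agent.J3.Elts
open Cfsg.Agent.H732 Cfsg.Agent.H731

instance fact19 : Fact (Nat.Prime 19) := ⟨by norm_num⟩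

/-- the table of `X = D₁ E C` -/
def tX : List ℕ := compT (compT (tD (0, 1)) tE) tC

/-- the table of `P = D₆ C A₅` -/
def tP : List ℕ := compT (compT (tD (2, 0)) tC) (tA (1, 2))

/-- the table of `W = P B₆ P⁻¹` -/
def tW : List ℕ := compT (compT tP (tB (2, 0))) (powT tP 50)

/-- a table of `ww t` -/
def tww (t : ZMod 19) : List ℕ :=
  compT (compT (powT tX t.val) (compT (compT tW (powT tX (t⁻¹).val)) tW)) (powT tX t.val)

theorem chkX : beqL (cols (powT tX 19)) (cols (tS 0)) = true := by decide +kernel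

theorem chkW : beqL (cols (compT tW tW)) (cols (tS 0)) = true := by decide +kernel

theorem chkww : ∀ t : ZMod 19, t ≠ 0 → beqL (cols (compT (tww t) tX))
    (cols (compT (compT (compT tW (powT tX (t⁻¹ ^ 2).val)) tW) (tww t))) = true := by decide +kernel

theorem chkh : beqL (cols (compT (tww (-1)) (tww (-1)))) (cols (tS 0)) = true := by decide +kernel

theorem chkne : Nat.beq ((cols (compT tX tC)).getD 1 0) ((cols (compT tC tX)).getD 1 0) = false := by decide +kernel

section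

variable {F : Type*} [Field F] {ω : F} (H : Good ω) (G : Gens F ω)

/-- the element of order 19 -/
def X : threeJ3 F ω := G.d (0, 1) * G.e * G.c

/-- the conjugating element -/
def P : threeJ3 F ω := G.d (2, 0) * G.c * G.a (1, 2)

/-- the involution -/
def W : threeJ3 F ω := P G * G.b (2, 0) * P G ^ 50

include H in
theorem repX : RepG ω tX (X G) := by
  refine RepG.mul (RepG.mul ?_ ?_) ?_
  · unfold RepG; rw [G.hd]; exact repD H _
  · unfold RepG; rw [G.he]; exact repE H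
  · unfold RepG; rw [G.hc]; exact repC H

include H in
theorem repP : RepG ω tP (P G) := by
  refine RepG.mul (RepG.mul ?_ ?_) ?_
  · unfold RepG; rw [G.hd]; exact repD H _
  · unfold RepG; rw [G.hc]; exact repC H
  · unfold RepG; rw [G.ha]; exact repA H _

include H in
theorem repW : RepG ω tW (W G) := by
  refine RepG.mul (RepG.mul (repP H G) ?_) ((repP H G).pow H 50)
  have h0 : ((2, 0) : F9) ≠ 0 := by decide
  unfold RepG; rw [G.hb _ h0]; exact repB H _ h0

include H in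
theorem X_pow : X G ^ 19 = 1 := RepG.ext ((repX H G).pow H 19) (repG_one H) (beqL_eq chkX)

include H in
theorem W_sq : W G * W G = 1 := RepG.ext ((repW H G).mul (repW H G)) (repG_one H) (beqL_eq chkW)

/-- the root elements -/
def xx (s : ZMod 19) : threeJ3 F ω := X G ^ s.val

/-- the opposite root elements -/
def yy (s : ZMod 19) : threeJ3 F ω := W G * X G ^ (-s).val * W G

include H in
theorem pow_add_val (s t : ZMod 19) : X G ^ (s + t).val = X G ^ s.val * X G ^ t.val := by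
  rw [← pow_add, ZMod.val_add]
  exact (pow_eq_pow_mod _ (X_pow H G)).symm

include H in
theorem xx_add (s t : ZMod 19) : xx G (s + t) = xx G s * xx G t := pow_add_val H G s t

include H in
theorem yy_add (s t : ZMod 19) : yy G (s + t) = yy G s * yy G t := by
  unfold yy
  rw [neg_add, pow_add_val H G]
  calc W G * (X G ^ (-s).val * X G ^ (-t).val) * W G
      = W G * X G ^ (-s).val * (1 * X G ^ (-t).val) * W G := by rw [one_mul]; simp only [mul_assoc]
    _ = W G * X G ^ (-s).val * (W G * W G * X G ^ (-t).val) * W G := by rw [W_sq H G]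
    _ = _ := by simp only [mul_assoc]

include H in
theorem rep_xx (s : ZMod 19) : RepG ω (powT tX s.val) (xx G s) := (repX H G).pow H _

include H in
theorem rep_yy (s : ZMod 19) : RepG ω (compT (compT tW (powT tX (-s).val)) tW) (yy G s) :=
  ((repW H G).mul ((repX H G).pow H _)).mul (repW H G)

include H in
theorem rep_ww (t : ZMod 19) : RepG ω (tww t) (ww (xx G) (yy G) t) := by
  unfold ww tww
  have h := rep_yy H G (-t⁻¹)
  rw [neg_neg] at h
  exact ((rep_xx H G t).mul h).mul (rep_xx H G t)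

include H in
theorem conj_one {t : ZMod 19} (ht : t ≠ 0) :
    ww (xx G) (yy G) t * X G * (ww (xx G) (yy G) t)⁻¹ = yy G (-(t⁻¹ ^ 2)) := by
  rw [mul_inv_eq_iff_eq_mul]
  have h := rep_yy H G (-(t⁻¹ ^ 2))
  rw [neg_neg] at h
  exact RepG.ext ((rep_ww H G t).mul (repX H G)) (h.mul (rep_ww H G t)) (beqL_eq (chkww t ht))

include H in
theorem yy_mul_nat (c : ZMod 19) (n : ℕ) : yy G c ^ n = yy G (n * c) := by
  induction n with
  | zero =>
    rw [pow_zero, Nat.cast_zero, zero_mul]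
    unfold yy
    rw [neg_zero, ZMod.val_zero, pow_zero, mul_one, W_sq H G]
  | succ n ih =>
    rw [pow_succ, ih, ← yy_add H G]
    congr 1
    push_cast
    ring

include H in
theorem stRel : StRel (xx G) (yy G) where
  x_add := xx_add H G
  y_add := yy_add H G
  conj t ht s := by
    unfold xx
    rw [← conj_pow, ← show xx G = fun s : ZMod 19 => X G ^ s.val from rfl, conj_one H G ht, yy_mul_nat H G]
    congr 1
    rw [ZMod.natCast_zmod_val]
    ring

include H in
/-- the homomorphism `SL(2, 19) → 3·J₃` -/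
theorem exists_hom19 : ∃ φ : Matrix.SpecialLinearGroup (Fin 2) (ZMod 19) →* threeJ3 F ω,
    φ (up (ZMod 19) 1) = X G ∧ φ (-1) = 1 := by
  obtain ⟨φ, h1, -, h3, -⟩ := H732.exists_hom (stRel H G) (hmul_of_finite (stRel H G))
  refine ⟨φ, ?_, ?_⟩
  · rw [h1]
    unfold xx
    rw [show (1 : ZMod 19).val = 1 from rfl, pow_one]
  · rw [h3 (-1) (by simp)]
    have e1 : (((-1 : Matrix.SpecialLinearGroup (Fin 2) (ZMod 19)) : Matrix (Fin 2) (Fin 2) (ZMod 19))) 0 0 = -1 := by simp
    have e2 : (((-1 : Matrix.SpecialLinearGroup (Fin 2) (ZMod 19)) : Matrix (Fin 2) (Fin 2) (ZMod 19))) 0 1 = 0 := by simp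
    rw [e1, e2, mul_zero, (stRel H G).x_zero, mul_one]
    exact RepG.ext ((rep_ww H G (-1)).mul (rep_ww H G (-1))) (repG_one H) (beqL_eq chkh)

include H in
theorem X_not_mem_center : X G ∉ Subgroup.center (threeJ3 F ω) := by
  intro h
  rw [Subgroup.mem_center_iff] at h
  have h1 := h G.c
  have hC : RepG ω tC G.c := by unfold RepG; rw [G.hc]; exact repC H
  have h2 := RepG.cols_eq H ((h1 ▸ hC.mul (repX H G)) : RepG ω (compT tC tX) (X G * G.c)) ((repX H G).mul hC) ((0, 1) : F9)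
  have h3 : idx ((0, 1) : F9) = 1 := by decide
  rw [h3] at h2
  have h4 := chkne
  rw [h2] at h4
  simp at h4

end

/-- **`PSL(2, 19)` is a subgroup of `J₃`** -/
theorem psl_le {F : Type} [Field F] [Fintype F] {ω : F} (hF : Fintype.card F = 4) (hω : ω ^ 2 + ω + 1 = 0) :
    ∃ L : Subgroup (J3 F ω), Nonempty (↥L ≃* Matrix.ProjectiveSpecialLinearGroup (Fin 2) (ZMod 19)) := by
  have H := good_of_card hF hω
  obtain ⟨G⟩ := exists_gens hF H
  obtain ⟨φ, hX, hneg⟩ := exists_hom19 H G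
  let ψ : Matrix.SpecialLinearGroup (Fin 2) (ZMod 19) →* J3 F ω :=
    (QuotientGroup.mk' (Subgroup.center (threeJ3 F ω))).comp φ
  have hcen : Subgroup.center (Matrix.SpecialLinearGroup (Fin 2) (ZMod 19)) ≤ ψ.ker := by
    intro g hg
    rw [MonoidHom.mem_ker]
    rw [Matrix.SpecialLinearGroup.mem_center_iff] at hg
    obtain ⟨r, hr, hg⟩ := hg
    rw [Fintype.card_fin] at hr
    have hdec : ∀ r : ZMod 19, r ^ 2 = 1 → r = 1 ∨ r = -1 := by decide +kernel
    rcases hdec r hr with rfl | rfl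
    · have : g = 1 := by
        apply Subtype.ext
        rw [← hg, map_one]
        rfl
      rw [this, map_one]
    · have : g = -1 := by
        apply Subtype.ext
        rw [← hg, map_neg, map_one]
        rfl
      rw [this]
      show QuotientGroup.mk' _ (φ (-1)) = 1
      rw [hneg, map_one]
  let ψ' : Matrix.ProjectiveSpecialLinearGroup (Fin 2) (ZMod 19) →* J3 F ω := QuotientGroup.lift _ ψ hcen
  have hsimple : IsSimpleGroup (Matrix.ProjectiveSpecialLinearGroup (Fin 2) (ZMod 19)) :=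
    Matrix.ProjectiveSpecialLinearGroup.rank_two_simple (by rw [Nat.card_zmod]; norm_num)
  have hinj : Function.Injective ψ' := by
    rw [← MonoidHom.ker_eq_bot_iff]
    rcases (inferInstance : ψ'.ker.Normal).eq_bot_or_eq_top with h | h
    · exact h
    · exfalso
      have h1 : ψ (up (ZMod 19) 1) = 1 := by
        have h2 : (QuotientGroup.mk (up (ZMod 19) 1) : Matrix.ProjectiveSpecialLinearGroup (Fin 2) (ZMod 19)) ∈ ψ'.ker := by
          rw [h]; exact Subgroup.mem_top _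
        exact h2
      have h3 : QuotientGroup.mk' (Subgroup.center (threeJ3 F ω)) (φ (up (ZMod 19) 1)) = 1 := h1
      rw [hX] at h3
      exact X_not_mem_center H G ((QuotientGroup.eq_one_iff _).1 h3)
  exact ⟨ψ'.range, ⟨(MonoidHom.ofInjective hinj).symm⟩⟩

open Cfsg.Agent.OrdDiv Cfsg.Agent.H944.TS in
/-- **task 991, Y** : every group isomorphic to `J₃` has a subgroup isomorphic to `PSL(2, 19)` -/
theorem sub_j3.{u} : Sub.{u} .j3 (.psl 2 19) := by
  intro Y _ hY
  obtain ⟨F, _, _, ω, hF, hω, ⟨e⟩⟩ := hY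
  obtain ⟨L, ⟨f⟩⟩ := psl_le hF hω
  refine ⟨L.comap e.toMonoidHom, ZMod 19, inferInstance, inferInstance, by rw [ZMod.card], ⟨?_⟩⟩
  refine MulEquiv.trans ?_ f
  exact (e.subgroupMap (L.comap e.toMonoidHom)).trans (MulEquiv.subgroupCongr
    (Subgroup.map_comap_eq_self_of_surjective e.surjective L))

end Cfsg.Agent.H943.J3L19
end

-- part: H944/TS/Rows
section
/-!
# S5741: the rows (helper944)
-/

set_option autoImplicit false

namespace Cfsg.Agent.H944.TS.Asm

open Cfsg Cfsg.Agent.OrdDiv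

universe u

variable {K : Type u} [Field K] [Fintype K]

theorem all_in (hS : ∀ (S : Type) [Group S] [Finite S] [IsSimpleGroup S], IsKnownSimple' S)
    (hK : Fintype.card K = 4) : ∀ g ∈ emb, InE K g := by
  have o10 : InE K (.ominus 5 2) := Cfsg.Agent.H958.TS.OmegaTen.X hK
  obtain ⟨fi, o7, f4⟩ := Cfsg.Agent.H951.TS.A1.inE hK
  have u6 : InE K (.psu 6 2) := Cfsg.Agent.H708.TSPsu62.in_psu62 hK
  have a12 : InE K (.alt 12) := o10.sub Cfsg.Agent.H951.TS.A1.ominus_alt
  have a : ∀ n, 5 ≤ n → n ≤ 12 → InE K (.alt n) := fun n h1 h2 => a12.sub (Cfsg.Agent.H951.TS.A1.alt_alt h1 h2)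
  have s8 : InE K (.psp 4 2) := o10.sub Cfsg.Agent.H458.TSA3.X1
  have s6 : InE K (.psp 3 2) := s8.sub Cfsg.Agent.H458.TSA3.X2
  have s44 : InE K (.psp 2 4) := s8.sub Cfsg.Agent.H458.TSA3.X3
  have u5 : InE K (.psu 5 2) := o10.sub Cfsg.Agent.H446.TSub.ominus_psu5
  have l43 : InE K (.psl 4 3) := o7.sub Cfsg.Agent.H206.SubO73.X1
  have ti : InE K .tits := f4.sub Cfsg.Agent.H660.TSTits.f4_tits
  intro g hg
  simp only [emb, List.mem_cons, List.not_mem_nil, or_false] at hg
  rcases hg with rfl | rfl | rfl | rfl | rfl | rfl | rfl | rfl | rfl | rfl | rfl | rfl | rfl | rfl | rfl | rfl | rfl |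
    rfl | rfl | rfl | rfl | rfl | rfl | rfl | rfl | rfl | rfl | rfl | rfl | rfl | rfl | rfl | rfl | rfl | rfl | rfl |
    rfl | rfl | rfl
  · exact a 5 (by norm_num) (by norm_num)
  · exact a 6 (by norm_num) (by norm_num)
  · exact a 7 (by norm_num) (by norm_num)
  · exact a 8 (by norm_num) (by norm_num)
  · exact a 9 (by norm_num) (by norm_num)
  · exact a 10 (by norm_num) (by norm_num)
  · exact a 11 (by norm_num) (by norm_num)
  · exact a12
  · exact (a 8 (by norm_num) (by norm_num)).sub Cfsg.Agent.H767.TSAlt.alt8_psl7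
  · exact (a 9 (by norm_num) (by norm_num)).sub Cfsg.Agent.H767.TSAlt.alt9_psl8
  · exact a12.sub Cfsg.Agent.H767.TSAlt.alt12_psl11
  · exact o7.sub Cfsg.Agent.H860.TS.OSeven.sub
  · exact s44.sub Cfsg.Agent.H458.TSA3.X6
  · exact s8.sub Cfsg.Agent.H860.TS.SpEight.sub
  · exact ti.sub (Cfsg.Agent.H660.TSTits.tits_psl_of hS)
  · exact l43.sub Cfsg.Agent.H206.SubO73.X2
  · exact u6.sub Cfsg.Agent.H446.TSub.psu6_psl34
  · exact l43
  · exact s44
  · exact s6
  · exact s8
  · exact s6.sub Cfsg.Agent.H860.TS.SpSix.sub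
  · exact Cfsg.Agent.H846.UThreeE.inE hK
  · exact u5.sub Cfsg.Agent.H446.TSub.psu5_psu4
  · exact u6.sub (Cfsg.Agent.H660.TSU6.u6_u4_of hS)
  · exact u5
  · exact u6
  · exact s8.sub Cfsg.Agent.H458.TSA3.X4
  · exact s8.sub Cfsg.Agent.H458.TSA3.X5
  · exact o10
  · exact o7
  · exact o7.sub Cfsg.Agent.H64.SubG2.sub_oodd_g2
  · exact f4.sub Cfsg.Agent.H848.TriF4.sub_f4_td4
  · exact f4
  · exact ti
  · exact a12.sub Cfsg.Agent.H767.TSAlt.alt12_m11
  · exact a12.sub Cfsg.Agent.H767.TSAlt.alt12_m12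
  · exact u6.sub Cfsg.Agent.H660.TSM22.u6_m22
  · exact fi

theorem all_not (hK : Fintype.card K = 4) (h19 : NotE K (.psl 2 19)) : ∀ g ∈ nots, NotE K g := by
  have h27 : NotE K (.psl 2 27) := Cfsg.Agent.H898.TSNotL27.not_L27 hK
  have hsz : NotE K (.sz 8) := Cfsg.Agent.H898.TSSzNot.not_sz hK
  obtain ⟨n1, n2, n3, n4, n5, n6, n7⟩ := Cfsg.Agent.H951.TS.N1.main hK
  have a13 : NotE K (.alt 13) := Cfsg.Agent.H271.TSAlt.notE_alt13 hK
  intro g hg
  simp only [nots, List.mem_cons, List.not_mem_nil, or_false] at hg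
  rcases hg with rfl | rfl | rfl | rfl | rfl | rfl | rfl | rfl | rfl | rfl | rfl | rfl | rfl | rfl | rfl | rfl | rfl |
    rfl | rfl
  · exact h19
  · exact h27
  · exact n1
  · exact n2
  · exact n6
  · exact n7
  · exact n5
  · exact n3
  · exact h27.sub Cfsg.Agent.H951.TS.N6.psp_psl
  · exact Cfsg.Agent.H898.TSFive.not_PSU hK
  · exact n4
  · exact hsz
  · exact Cfsg.Agent.H898.TSFive.not_G24 hK
  · exact Cfsg.Agent.H964.J1E6.notE_j1 hK
  · exact Cfsg.Agent.H898.TSFive.not_J2 hK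
  · exact h19.sub Cfsg.Agent.H943.J3L19.sub_j3
  · exact Cfsg.Agent.H898.TSFive.not_Suz hK
  · exact a13
  · exact a13.sub (Cfsg.Agent.H951.TS.A1.alt_alt (by norm_num) (by norm_num))

end Cfsg.Agent.H944.TS.Asm
end

private theorem dce_effe0243c0c0 : _root_.True := by
  try have : _root_.True := by simp only [_root_.Cfsg.Agent.TypeD4Two.Cert.bb.eq_1]
  try have : _root_.True := by simp only [_root_.Cfsg.Agent.TypeD4Two.Cert.zz.eq_1]
  try have : _root_.True := by simp only [_root_.Cfsg.Agent.TypeD4Two.Cert.cc.eq_1]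
  try have : _root_.True := by simp only [_root_.Cfsg.Agent.H944.TS.Asm.nots.eq_1]
  exact _root_.True.intro
end
end
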